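import Groth.Agent.Syntomic.AdaptedCoords
import Mathlib

/-!
# Lifting a smooth closed subscheme to a smooth subscheme over a bigger base: local algebra
-/

set_option autoImplicit false
set_option linter.style.haveILetI false

universe u

open TensorProduct IsLocalRing

namespace Groth.SmoothLift

variable {R L : Type u} [CommRing R] [CommRing L] [IsLocalRing L] [Algebra R L]

/-- The differential in the fibre of `Ω` at the closed point. -/
noncomputable def dFib (R : Type u) {L : Type u} [CommRing R] [CommRing L] [IsLocalRing L] [Algebra R L]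
    (y : L) : ResidueField L ⊗[L] Ω[L⁄R] :=
  (1 : ResidueField L) ⊗ₜ[L] KaehlerDifferential.D R L y

theorem smul_tmul_eq_zero_of_mem {N : Type u} [AddCommGroup N] [Module L N] {a : L}
    (ha : a ∈ maximalIdeal L) (z : N) :
    (1 : ResidueField L) ⊗ₜ[L] (a • z) = 0 := by
  have : a • (1 : ResidueField L) = 0 := by
    rw [Algebra.smul_def, mul_one, ResidueField.algebraMap_eq, residue_eq_zero_iff]; exact ha
  rw [← TensorProduct.smul_tmul, this, TensorProduct.zero_tmul]

theorem dFib_mul (a : L) {y : L} (hy : y ∈ maximalIdeal L) :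
    dFib R (a * y) = residue L a • dFib R y := by
  unfold dFib
  rw [Derivation.leibniz, TensorProduct.tmul_add, smul_tmul_eq_zero_of_mem hy, add_zero,
    TensorProduct.tmul_smul, ← algebraMap_smul (ResidueField L) a, ResidueField.algebraMap_eq]

theorem dFib_add (a b : L) : dFib R (a + b) = dFib R a + dFib R b := by
  simp [dFib, TensorProduct.tmul_add]

theorem dFib_sum {ι : Type*} (s : Finset ι) (a : ι → L) :
    dFib R (∑ i ∈ s, a i) = ∑ i ∈ s, dFib R (a i) := by
  simp [dFib, TensorProduct.tmul_sum]

section Quot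

variable {L2 : Type u} [CommRing L2] [Algebra L L2] [Algebra R L2] [IsScalarTower R L L2]

/-- The map of fibres of differentials to a quotient. -/
noncomputable def fibMap (R L L2 : Type u) [CommRing R] [CommRing L] [IsLocalRing L] [Algebra R L]
    [CommRing L2] [Algebra L L2] [Algebra R L2] [IsScalarTower R L L2] :
    ResidueField L ⊗[L] Ω[L⁄R] →ₗ[ResidueField L] ResidueField L ⊗[L] Ω[L2⁄R] :=
  (KaehlerDifferential.map R R L L2).baseChange (ResidueField L)

theorem fibMap_surjective (hs : Function.Surjective (algebraMap L L2)) :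
    Function.Surjective (fibMap R L L2) := by
  rw [fibMap, ← LinearMap.coe_restrictScalars L]
  exact LinearMap.lTensor_surjective _ (KaehlerDifferential.map_surjective_of_surjective R R L L2 hs)

theorem fibMap_dFib_eq_zero {y : L} (hy : y ∈ RingHom.ker (algebraMap L L2)) :
    fibMap R L L2 (dFib R y) = 0 := by
  rw [RingHom.mem_ker] at hy
  rw [fibMap, dFib, LinearMap.baseChange_tmul, KaehlerDifferential.map_D, hy, map_zero, tmul_zero]

/-- The kernel of the map of fibres of differentials to a quotient consists of differentials of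
elements of the ideal. -/
theorem exists_dFib_eq_of_fibMap_eq_zero (hs : Function.Surjective (algebraMap L L2))
    (hJm : RingHom.ker (algebraMap L L2) ≤ maximalIdeal L)
    {z : ResidueField L ⊗[L] Ω[L⁄R]} (hz : fibMap R L L2 z = 0) :
    ∃ y ∈ RingHom.ker (algebraMap L L2), dFib R y = z := by
  have hex : Function.Exact (LinearMap.ker (KaehlerDifferential.map R R L L2)).subtype
      (KaehlerDifferential.map R R L L2) := LinearMap.exact_subtype_ker_map _
  obtain ⟨w, rfl⟩ := (lTensor_exact (ResidueField L) hex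
    (KaehlerDifferential.map_surjective_of_surjective R R L L2 hs) z).1 hz
  clear hz
  -- the comparison `L2 → κ`
  let e : (L ⧸ RingHom.ker (Algebra.ofId L L2)) ≃ₐ[L] L2 := Ideal.quotientKerAlgEquivOfSurjective hs
  let χ0 : L2 →ₐ[L] ResidueField L := (Ideal.Quotient.factorₐ L hJm).comp e.symm.toAlgHom
  let χ : L2 ⊗[L] Ω[L⁄R] →ₗ[L] ResidueField L ⊗[L] Ω[L⁄R] := LinearMap.rTensor _ χ0.toLinearMap
  induction w using TensorProduct.induction_on with
  | zero => exact ⟨0, Ideal.zero_mem _, by simp [dFib]⟩
  | add a b ha hb =>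
    obtain ⟨y1, hy1, e1⟩ := ha
    obtain ⟨y2, hy2, e2⟩ := hb
    exact ⟨y1 + y2, add_mem hy1 hy2, by rw [dFib_add, e1, e2, map_add]⟩
  | tmul a x =>
    obtain ⟨a, rfl⟩ := residue_surjective a
    have h0 : KaehlerDifferential.mapBaseChange R L L2 ((1 : L2) ⊗ₜ[L] x.1) = 0 := by
      rw [KaehlerDifferential.mapBaseChange_tmul, one_smul]
      exact x.2
    obtain ⟨c, hc⟩ := (KaehlerDifferential.exact_kerCotangentToTensor_mapBaseChange R L L2 hs _).1 h0
    obtain ⟨⟨y, hy⟩, rfl⟩ := Ideal.toCotangent_surjective _ c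
    rw [KaehlerDifferential.kerCotangentToTensor_toCotangent] at hc
    have h1 := congrArg χ hc
    simp only [χ, LinearMap.rTensor_tmul, AlgHom.toLinearMap_apply, map_one] at h1
    refine ⟨a * y, Ideal.mul_mem_left _ _ hy, ?_⟩
    rw [dFib_mul a (hJm hy), dFib, h1, LinearMap.lTensor_tmul, Submodule.coe_subtype,
      TensorProduct.smul_tmul', smul_eq_mul, mul_one]

end Quot

/-- The fibre of a free module over a quotient by an ideal in the maximal ideal. -/
theorem finrank_residueField_tensor {L2 N : Type u} [CommRing L2] [Algebra L L2] [AddCommGroup N]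
    [Module L2 N] [Module L N] [IsScalarTower L L2 N]
    (hs : Function.Surjective (algebraMap L L2)) (hJm : RingHom.ker (algebraMap L L2) ≤ maximalIdeal L)
    {e : ℕ} (b : Module.Basis (Fin e) L2 N) :
    Module.finrank (ResidueField L) (ResidueField L ⊗[L] N) = e := by
  have h1 : Module.finrank (ResidueField L) (ResidueField L ⊗[L] L2) = 1 := by
    let eq : (L ⧸ RingHom.ker (Algebra.ofId L L2)) ≃ₐ[L] L2 := Ideal.quotientKerAlgEquivOfSurjective hs
    let χ0 : L2 →ₐ[L] ResidueField L := (Ideal.Quotient.factorₐ L hJm).comp eq.symm.toAlgHom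
    refine finrank_eq_one_iff'.2 ⟨(1 : ResidueField L) ⊗ₜ[L] (1 : L2), ?_, ?_⟩
    · intro h0
      have := congrArg (Algebra.TensorProduct.lift (AlgHom.id L (ResidueField L)) χ0 (fun _ _ => Commute.all _ _)) h0
      simp at this
    · intro w
      induction w using TensorProduct.induction_on with
      | zero => exact ⟨0, zero_smul _ _⟩
      | add a b ha hb =>
        obtain ⟨r, rfl⟩ := ha
        obtain ⟨r', rfl⟩ := hb
        exact ⟨r + r', add_smul _ _ _⟩
      | tmul a x =>
        obtain ⟨x, rfl⟩ := hs x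
        refine ⟨a * algebraMap L _ x, ?_⟩
        rw [TensorProduct.smul_tmul', smul_eq_mul, mul_one, mul_comm, ← Algebra.smul_def,
          TensorProduct.smul_tmul, Algebra.smul_def, mul_one]
  let e1 : N ≃ₗ[L] (Fin e → L2) := b.equivFun.restrictScalars L
  let e2 : ResidueField L ⊗[L] N ≃ₗ[ResidueField L] (Fin e → ResidueField L ⊗[L] L2) :=
    (e1.baseChange L (ResidueField L) _ _).trans (TensorProduct.piRight L (ResidueField L) (ResidueField L) _)
  haveI : Module.Finite (ResidueField L) (ResidueField L ⊗[L] L2) :=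
    Module.finite_of_finrank_eq_succ h1
  rw [e2.finrank_eq, Module.finrank_pi_fintype]
  simp [h1]

/-- Quotient of a smooth local algebra by elements with independent differentials. -/
theorem formallySmooth_quotient_span [Algebra.FormallySmooth R L] [Module.Free L Ω[L⁄R]]
    [Module.Finite L Ω[L⁄R]] {c : ℕ} (f : Fin c → L) (hf : ∀ k, f k ∈ maximalIdeal L)
    (hli : LinearIndependent (ResidueField L) fun k => dFib R (f k)) :
    Algebra.FormallySmooth R (L ⧸ Ideal.span (Set.range f)) := by
  set F := Ideal.span (Set.range f) with hF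
  have hFm : F ≤ maximalIdeal L := Ideal.span_le.2 (Set.range_subset_iff.2 hf)
  haveI : Nontrivial (L ⧸ F) := Ideal.Quotient.nontrivial_iff.2 (ne_top_of_le_ne_top (maximalIdeal.isMaximal L).ne_top hFm)
  haveI : IsLocalRing (L ⧸ F) := IsLocalRing.of_surjective' _ Ideal.Quotient.mk_surjective
  letI : Algebra (L ⧸ F) (ResidueField L) := (Ideal.Quotient.factor hFm).toAlgebra
  haveI : IsScalarTower L (L ⧸ F) (ResidueField L) := IsScalarTower.of_algebraMap_eq fun x => rfl
  have hker : RingHom.ker (algebraMap L (L ⧸ F)) = F := Ideal.mk_ker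
  have hfg : (RingHom.ker (algebraMap L (L ⧸ F))).FG := hker.symm ▸ Submodule.fg_span (Set.finite_range f)
  rw [Algebra.FormallySmooth.iff_injective_cotangentComplexBaseChange (R := R) (S := L ⧸ F) L
    (ResidueField L) Ideal.Quotient.mk_surjective hfg ?_]
  · let w : Fin c → ResidueField L ⊗[L] RingHom.ker (algebraMap L (L ⧸ F)) := fun k =>
      (1 : ResidueField L) ⊗ₜ[L] (⟨f k, hker.symm ▸ Ideal.subset_span (Set.mem_range_self k)⟩ :
        RingHom.ker (algebraMap L (L ⧸ F)))
    have hspan : Submodule.span (ResidueField L) (Set.range w) = ⊤ := by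
      rw [eq_top_iff]
      intro x hx
      clear hx
      induction x using TensorProduct.induction_on with
      | zero => exact zero_mem _
      | add a b ha hb => exact add_mem ha hb
      | tmul a y =>
        obtain ⟨cc, hcc⟩ := Ideal.mem_span_range_iff_exists_fun.1 (hker.le y.2 : (y : L) ∈ F)
        have hy : y = ∑ k, cc k • (⟨f k, hker.symm ▸ Ideal.subset_span (Set.mem_range_self k)⟩ :
            RingHom.ker (algebraMap L (L ⧸ F))) := Subtype.ext (by simpa using hcc.symm)
        rw [hy, TensorProduct.tmul_sum]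
        refine Submodule.sum_mem _ fun k _ => ?_
        rw [TensorProduct.tmul_smul, TensorProduct.smul_tmul',
          show (cc k • a) ⊗ₜ[L] (_ : RingHom.ker (algebraMap L (L ⧸ F))) = (cc k • a) • w k by
            rw [TensorProduct.smul_tmul', smul_eq_mul, mul_one]]
        exact Submodule.smul_mem _ _ (Submodule.subset_span (Set.mem_range_self k))
    intro x y hxy
    obtain ⟨a, rfl⟩ := (Submodule.mem_span_range_iff_exists_fun _).1 (hspan ▸ Submodule.mem_top (x := x))
    obtain ⟨b, rfl⟩ := (Submodule.mem_span_range_iff_exists_fun _).1 (hspan ▸ Submodule.mem_top (x := y))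
    have hw : ∀ k, KaehlerDifferential.cotangentComplexBaseChange R (L ⧸ F) L (ResidueField L) (w k) = dFib R (f k) := fun k => by
      simp only [w, dFib, KaehlerDifferential.cotangentComplexBaseChange_tmul, KaehlerDifferential.kerToTensor_apply, one_smul]
    simp only [map_sum, map_smul, hw] at hxy
    have hab : a = b := by
      funext k
      refine sub_eq_zero.1 (Fintype.linearIndependent_iff.1 hli (a - b) ?_ k)
      simp only [Pi.sub_apply, sub_smul, Finset.sum_sub_distrib, hxy, sub_self]
    rw [hab]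
  · intro x hx
    obtain ⟨x, rfl⟩ := Ideal.Quotient.mk_surjective x
    rw [RingHom.mem_ker]
    show residue L x = 0
    rw [residue_eq_zero_iff, mem_maximalIdeal, mem_nonunits_iff]
    exact fun h => (mem_nonunits_iff.1 hx) (h.map _)

/-- Formal smoothness after base change along a quotient of the base. -/
theorem formallySmooth_baseChange_quotient {R2 C Q : Type u} [CommRing R2] [Algebra R R2]
    [CommRing C] [Algebra R C] [CommRing Q] [Algebra R Q] [Algebra R2 Q] [IsScalarTower R R2 Q]
    [Algebra.FormallySmooth R C]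
    (q : C →ₐ[R] Q) (hq : Function.Surjective q) (hR2 : Function.Surjective (algebraMap R R2))
    (hker : RingHom.ker q ≤ (RingHom.ker (algebraMap R R2)).map (algebraMap R C)) :
    Algebra.FormallySmooth R2 Q := by
  refine .of_comp_surjective fun B _ _ I hI φ => ?_
  letI : Algebra R B := ((algebraMap R2 B).comp (algebraMap R R2)).toAlgebra
  haveI : IsScalarTower R R2 B := IsScalarTower.of_algebraMap_eq fun x => rfl
  obtain ⟨ψ, hψ⟩ := Algebra.FormallySmooth.comp_surjective R C I hI ((φ.restrictScalars R).comp q)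
  have hk : RingHom.ker q ≤ RingHom.ker ψ := hker.trans (Ideal.map_le_iff_le_comap.2 fun r hr => by
    rw [RingHom.mem_ker] at hr
    simp [RingHom.mem_ker, IsScalarTower.algebraMap_apply R R2 B, hr])
  let θ : Q →+* B := RingHom.liftOfSurjective q.toRingHom hq ⟨ψ.toRingHom, hk⟩
  have hθ : ∀ x, θ (q x) = ψ x := fun x => RingHom.liftOfSurjective_comp_apply q.toRingHom hq ⟨ψ.toRingHom, hk⟩ x
  refine ⟨{ θ with commutes' := fun r2 => ?_ }, AlgHom.ext fun x => ?_⟩
  · obtain ⟨r, rfl⟩ := hR2 r2
    show θ (algebraMap R2 Q (algebraMap R R2 r)) = algebraMap R2 B (algebraMap R R2 r)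
    rw [← IsScalarTower.algebraMap_apply, ← q.commutes, hθ, ψ.commutes]
    rfl
  · obtain ⟨x, rfl⟩ := hq x
    show Ideal.Quotient.mk I (θ (q x)) = φ (q x)
    rw [hθ]
    exact AlgHom.congr_fun hψ x

/-- Independent differentials, as many as the dimension, span the differentials of the ideal. -/
theorem exists_dFib_sub_eq_zero {L2 : Type u} [CommRing L2] [Algebra L L2] [Algebra R L2]
    [IsScalarTower R L L2] [Module.Finite L Ω[L⁄R]]
    (hJm : RingHom.ker (algebraMap L L2) ≤ maximalIdeal L)
    {c : ℕ} (hc : Module.finrank (ResidueField L) (LinearMap.ker (fibMap R L L2)) = c)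
    (f : Fin c → L) (hfJ : ∀ k, f k ∈ RingHom.ker (algebraMap L L2))
    (hli : LinearIndependent (ResidueField L) fun k => dFib R (f k))
    (y : L) (hy : y ∈ RingHom.ker (algebraMap L L2)) :
    ∃ b : Fin c → L, dFib R (y - ∑ k, b k * f k) = 0 := by
  let V := ResidueField L ⊗[L] Ω[L⁄R]
  have hle : Submodule.span (ResidueField L) (Set.range fun k => dFib R (f k)) ≤ LinearMap.ker (fibMap R L L2) :=
    Submodule.span_le.2 (Set.range_subset_iff.2 fun k => fibMap_dFib_eq_zero (hfJ k))
  haveI : Module.Finite (ResidueField L) V := Module.Finite.base_change L (ResidueField L) Ω[L⁄R]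
  haveI : FiniteDimensional (ResidueField L) (LinearMap.ker (fibMap R L L2)) :=
    FiniteDimensional.finiteDimensional_submodule _
  have hrk : Module.finrank (ResidueField L)
      (Submodule.span (ResidueField L) (Set.range fun k => dFib R (f k))) = c := by
    rw [finrank_span_eq_card hli, Fintype.card_fin]
  have heq := Submodule.eq_of_le_of_finrank_eq hle (hrk.trans hc.symm)
  have hm : dFib R y ∈ Submodule.span (ResidueField L) (Set.range fun k => dFib R (f k)) := by
    rw [heq, LinearMap.mem_ker]
    exact fibMap_dFib_eq_zero hy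
  obtain ⟨cc, hcc⟩ := (Submodule.mem_span_range_iff_exists_fun _).1 hm
  choose b hb using fun k => residue_surjective (cc k)
  refine ⟨b, ?_⟩
  have h3 : dFib R (∑ k, b k * f k) = dFib R y := by
    rw [dFib_sum, ← hcc]
    exact Finset.sum_congr rfl fun k _ => by rw [dFib_mul _ (hJm (hfJ k)), hb]
  have h4 := dFib_add (R := R) (y - ∑ k, b k * f k) (∑ k, b k * f k)
  rw [sub_add_cancel, h3] at h4
  exact add_eq_right.1 h4.symm

set_option maxHeartbeats 800000 in
/-- The key local statement: elements with independent differentials, as many as the codimension,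
generate the ideal of a smooth closed subscheme over a quotient of the base. -/
theorem le_of_dFib {R2 L2 : Type u} [CommRing R2] [Algebra R R2] [CommRing L2] [Algebra L L2]
    [Algebra R L2] [Algebra R2 L2] [IsScalarTower R L L2] [IsScalarTower R R2 L2]
    [Algebra.FormallySmooth R L] [Module.Free L Ω[L⁄R]] [Module.Finite L Ω[L⁄R]]
    [Algebra.FormallySmooth R2 L2]
    (hR2 : Function.Surjective (algebraMap R R2))
    (hs : Function.Surjective (algebraMap L L2)) (hJm : RingHom.ker (algebraMap L L2) ≤ maximalIdeal L)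
    {c : ℕ} (hc : Module.finrank (ResidueField L) (LinearMap.ker (fibMap R L L2)) = c)
    (f : Fin c → L) (hfJ : ∀ k, f k ∈ RingHom.ker (algebraMap L L2))
    (hli : LinearIndependent (ResidueField L) fun k => dFib R (f k))
    (E : Ideal L) (hE : E = Ideal.span (Set.range f) ⊔ (RingHom.ker (algebraMap R R2)).map (algebraMap R L))
    (hfg : ((RingHom.ker (algebraMap L L2)).map (Ideal.Quotient.mk E)).FG) :
    RingHom.ker (algebraMap L L2) ≤ E := by
  set J := RingHom.ker (algebraMap L L2) with hJ
  have hfE : ∀ k, f k ∈ E := fun k => hE.ge (Ideal.mem_sup_left (Ideal.subset_span ⟨k, rfl⟩))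
  have hIE : (RingHom.ker (algebraMap R R2)).map (algebraMap R L) ≤ E := hE.ge.trans' le_sup_right
  have hEJ : E ≤ J := by
    rw [hE]
    refine sup_le (Ideal.span_le.2 (Set.range_subset_iff.2 hfJ)) (Ideal.map_le_iff_le_comap.2 fun r hr => ?_)
    rw [Ideal.mem_comap, RingHom.mem_ker, ← IsScalarTower.algebraMap_apply,
      IsScalarTower.algebraMap_apply R R2 L2, RingHom.mem_ker.1 hr, map_zero]
  have hFS := formallySmooth_quotient_span f (fun k => hJm (hfJ k)) hli
  haveI : Nontrivial (L ⧸ E) :=
    Ideal.Quotient.nontrivial_iff.2 (ne_top_of_le_ne_top (maximalIdeal.isMaximal L).ne_top (hEJ.trans hJm))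
  haveI : IsLocalRing (L ⧸ E) := IsLocalRing.of_surjective' _ Ideal.Quotient.mk_surjective
  letI : Algebra R2 (L ⧸ E) := (RingHom.liftOfSurjective (algebraMap R R2) hR2
    ⟨algebraMap R (L ⧸ E), fun r hr => by
      rw [RingHom.mem_ker, IsScalarTower.algebraMap_apply R L (L ⧸ E)]
      exact Ideal.Quotient.eq_zero_iff_mem.2 (hIE (Ideal.mem_map_of_mem _ hr))⟩).toAlgebra
  haveI : IsScalarTower R R2 (L ⧸ E) := IsScalarTower.of_algebraMap_eq fun r =>
    (RingHom.liftOfSurjective_comp_apply (algebraMap R R2) hR2 ⟨algebraMap R (L ⧸ E), fun r hr => by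
      rw [RingHom.mem_ker, IsScalarTower.algebraMap_apply R L (L ⧸ E)]
      exact Ideal.Quotient.eq_zero_iff_mem.2 (hIE (Ideal.mem_map_of_mem _ hr))⟩ r).symm
  have hFE : Ideal.span (Set.range f) ≤ E := hE.ge.trans' le_sup_left
  haveI : Algebra.FormallySmooth R2 (L ⧸ E) := by
    refine formallySmooth_baseChange_quotient (R := R) (C := L ⧸ Ideal.span (Set.range f))
      (Ideal.Quotient.factorₐ R hFE) (Ideal.Quotient.factor_surjective hFE) hR2 ?_
    intro x hx
    obtain ⟨x, rfl⟩ := Ideal.Quotient.mk_surjective x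
    have hx' : x ∈ E := Ideal.Quotient.eq_zero_iff_mem.1 hx
    rw [hE, Submodule.mem_sup] at hx'
    obtain ⟨a, ha, b, hb, rfl⟩ := hx'
    rw [map_add, Ideal.Quotient.eq_zero_iff_mem.2 ha, zero_add]
    have := Ideal.mem_map_of_mem (Ideal.Quotient.mk (Ideal.span (Set.range f))) hb
    rwa [Ideal.map_map] at this
  set K := J.map (Ideal.Quotient.mk E) with hK
  have hKm : K ≤ maximalIdeal (L ⧸ E) := by
    refine Ideal.map_le_iff_le_comap.2 fun x hx => ?_
    rw [Ideal.mem_comap, mem_maximalIdeal, mem_nonunits_iff]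
    rintro hu
    have := Function.Surjective.isLocalHom _ (Ideal.Quotient.mk_surjective (I := E))
    exact (mem_nonunits_iff.1 (hJm hx)) (IsUnit.of_map _ _ hu)
  haveI : Algebra.FormallySmooth R2 ((L ⧸ E) ⧸ K) := by
    have hk : RingHom.ker (Ideal.Quotient.lift E (algebraMap L L2) hEJ) = K := by
      rw [hK, hJ]
      exact Ideal.ker_quotient_lift _ _
    let π : (L ⧸ E) →ₐ[R2] L2 := { Ideal.Quotient.lift E (algebraMap L L2) hEJ with
      commutes' := fun r2 => by
        obtain ⟨r, rfl⟩ := hR2 r2
        show Ideal.Quotient.lift E (algebraMap L L2) hEJ _ = _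
        rw [← IsScalarTower.algebraMap_apply R R2 (L ⧸ E), ← IsScalarTower.algebraMap_apply R R2 L2,
          IsScalarTower.algebraMap_apply R L (L ⧸ E), IsScalarTower.algebraMap_apply R L L2]
        rfl }
    have hπ : Function.Surjective π := Ideal.Quotient.lift_surjective_of_surjective _ _ hs
    exact Algebra.FormallySmooth.of_equiv
      ((Ideal.quotientEquivAlgOfEq R2 (show K = RingHom.ker π from hk.symm)).trans
        (Ideal.quotientKerAlgEquivOfSurjective hπ)).symm
  -- the kernel of the differential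
  have hz : ∀ z ∈ J, dFib R z = 0 → Ideal.Quotient.mk E z ∈ maximalIdeal (L ⧸ E) * K := by
    intro z hzJ hz0
    by_contra hcon
    have hd : (1 : ResidueField (L ⧸ E)) ⊗ₜ[L ⧸ E] KaehlerDifferential.D R2 (L ⧸ E) (Ideal.Quotient.mk E z) = 0 := by
      have h1 : KaehlerDifferential.D R L z ∈ maximalIdeal L • (⊤ : Submodule L Ω[L⁄R]) := by
        rw [← LinearMap.ker_tensorProductMk, LinearMap.mem_ker]
        exact hz0
      have h2 := Submodule.mem_map_of_mem (f := KaehlerDifferential.map R R2 L (L ⧸ E)) h1
      rw [KaehlerDifferential.map_D] at h2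
      rw [Ideal.Quotient.algebraMap_eq] at h2
      refine Submodule.span_induction (p := fun w _ => (1 : ResidueField (L ⧸ E)) ⊗ₜ[L ⧸ E] w = 0) ?_ ?_ ?_ ?_
        (show _ ∈ Submodule.span L {w | ∃ a ∈ maximalIdeal L, ∃ v : Ω[(L ⧸ E)⁄R2], w = a • v} from ?_)
      · rintro w ⟨a, ha, v, rfl⟩
        rw [← algebraMap_smul (L ⧸ E) a v]
        refine smul_tmul_eq_zero_of_mem ?_ v
        rw [mem_maximalIdeal, mem_nonunits_iff]
        intro hu
        have := Function.Surjective.isLocalHom _ (Ideal.Quotient.mk_surjective (I := E))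
        exact (mem_nonunits_iff.1 ha) (IsUnit.of_map _ _ hu)
      · exact tmul_zero _ _
      · intro a b _ _ ha hb; rw [tmul_add, ha, hb, add_zero]
      · intro a w _ hw; rw [tmul_smul, hw, smul_zero]
      · obtain ⟨w, hw, he⟩ := h2
        rw [← he]
        refine Submodule.smul_induction_on hw (fun a ha v _ => ?_) fun a b ha hb => ?_
        · exact Submodule.subset_span ⟨a, ha, _, map_smul _ a v⟩
        · rw [map_add]; exact add_mem ha hb
    have hindep := Groth.Syntomic.linearIndependent_one_tmul_D (A := R2) K hKm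
      (ι := Unit) (fun _ => Ideal.Quotient.mk E z) (fun _ => Ideal.mem_map_of_mem _ hzJ) (fun b hb i => by
        by_contra hbi
        have hu : IsUnit (b i) := by
          by_contra h; exact hbi h
        apply hcon
        rw [Fintype.sum_unique] at hb
        obtain ⟨v, hv⟩ := hu.exists_left_inv
        have := Ideal.mul_mem_left _ v hb
        rwa [← mul_assoc, show b default = b i from congrArg b (Subsingleton.elim _ _), hv, one_mul] at this)
    exact hindep.ne_zero () hd
  have hmem := exists_dFib_sub_eq_zero hJm hc f hfJ hli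
  have hKle : K ≤ maximalIdeal (L ⧸ E) • K := by
    refine Ideal.map_le_iff_le_comap.2 fun y hy => ?_
    obtain ⟨b, hb⟩ := hmem y hy
    have hz' := hz _ (sub_mem hy (sum_mem fun k _ => Ideal.mul_mem_left _ _ (hfJ k))) hb
    rw [map_sub, Ideal.Quotient.eq_zero_iff_mem.2 (sum_mem fun k _ => Ideal.mul_mem_left _ _ (hfE k)), sub_zero] at hz'
    exact hz'
  have hK0 : K = ⊥ := Submodule.eq_bot_of_le_smul_of_le_jacobson_bot _ K hfg hKle
    (IsLocalRing.maximalIdeal_le_jacobson _)
  intro y hy
  refine Ideal.Quotient.eq_zero_iff_mem.1 ?_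
  have h5 : Ideal.Quotient.mk E y ∈ K := Ideal.mem_map_of_mem _ hy
  rw [hK0, Ideal.mem_bot] at h5
  exact h5

end Groth.SmoothLift
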