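import Groth.Agent.Misc14.RepLift
import Groth.Agent.Misc14.SmoothLiftLocal
import Groth.Agent.Hensel1.Std
import Mathlib

/-!
# Equivariant points of smooth algebras over henselian local rings
-/

set_option autoImplicit false
set_option linter.style.haveILetI false

universe u

open IsLocalRing TensorProduct Groth.SmoothLift Matrix

namespace Groth.EquivSect

variable {A : Type u} [CommRing A] [HenselianLocalRing A] {G : Type u} [Group G] [Finite G] [MulSemiringAction G A]

omit [Finite G] in
/-- The invariants of a henselian local ring are henselian local when the action is trivial on the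
residue field. -/
theorem henselian_fixed (htriv : ∀ (g : G) (a : A), g • a - a ∈ maximalIdeal A) :
    HenselianLocalRing (FixedPoints.subring A G) := by
  let B := FixedPoints.subring A G
  have hunit : ∀ b : B, IsUnit (b : A) → IsUnit b := fun b hb => by
    obtain ⟨c, hc⟩ := hb.exists_right_inv
    refine isUnit_iff_exists_inv.mpr ⟨⟨c, fun g => ?_⟩, Subtype.ext hc⟩
    have h1 : (b : A) * g • c = 1 := by
      rw [← smul_one g, ← hc, smul_mul', b.2 g]
    exact hb.mul_left_cancel (h1.trans hc.symm)
  haveI : Nontrivial B := ⟨⟨0, 1, fun h => zero_ne_one (congrArg Subtype.val h)⟩⟩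
  haveI : IsLocalRing B := IsLocalRing.of_isUnit_or_isUnit_one_sub_self fun b =>
    (IsLocalRing.isUnit_or_isUnit_one_sub_self (b : A)).imp (hunit b) (hunit (1 - b))
  refine { is_henselian := fun f hf a₀ h₁ h₂ => ?_ }
  have hloc : ∀ b : B, b ∈ maximalIdeal B → (b : A) ∈ maximalIdeal A := fun b hb =>
    (mem_maximalIdeal _).mpr fun h => (mem_maximalIdeal _).mp hb (hunit b h)
  let F := f.map B.subtype
  have hev : ∀ b : B, F.eval (b : A) = ((f.eval b : B) : A) := fun b => Polynomial.eval_map_apply B.subtype b
  have hd : IsUnit (F.derivative.eval (a₀ : A)) := by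
    rw [Polynomial.derivative_map]
    exact (Polynomial.eval_map_apply B.subtype a₀).symm ▸ h₂.map B.subtype
  obtain ⟨a, ha, haa⟩ := HenselianLocalRing.is_henselian F (hf.map _) (a₀ : A) (by rw [hev]; exact hloc _ h₁) hd
  have hfix : ∀ g : G, g • a = a := fun g => by
    let τ := MulSemiringAction.toRingHom G A g
    have h1 : F.eval (g • a) = 0 := by
      have : F.map τ = F := by
        rw [Polynomial.map_map]; congr 1; exact RingHom.ext fun b => b.2 g
      calc F.eval (g • a) = (F.map τ).eval (τ a) := by rw [this]; rfl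
        _ = τ (F.eval a) := Polynomial.eval_map_apply τ a
        _ = 0 := by rw [ha.eq_zero, map_zero]
    have h2 : g • a - a ∈ maximalIdeal A := htriv g a
    obtain ⟨c, hc⟩ := (Polynomial.sub_dvd_eval_sub (g • a) a F)
    rw [h1, ha.eq_zero, sub_zero] at hc
    -- the difference quotient is a unit
    obtain ⟨z, hz⟩ := Polynomial.evalSubFactor F (g • a) a
    have hda : IsUnit (F.derivative.eval a) := by
      refine (IsLocalRing.notMem_maximalIdeal).mp fun hm => (IsLocalRing.notMem_maximalIdeal).mpr hd ?_
      obtain ⟨w, hw⟩ := Polynomial.sub_dvd_eval_sub (a₀ : A) a F.derivative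
      have : F.derivative.eval (a₀ : A) = F.derivative.eval a + ((a₀ : A) - a) * w := by rw [← hw]; ring
      rw [this]
      exact add_mem hm (Ideal.mul_mem_right _ _ (by simpa using Ideal.neg_mem_iff _ |>.mpr haa))
    obtain ⟨k, hk⟩ := Polynomial.binomExpansion F a (g • a - a)
    rw [add_sub_cancel, h1, ha.eq_zero, zero_add] at hk
    have h3 : (g • a - a) * (F.derivative.eval a + k * (g • a - a)) = 0 := by rw [hk]; ring
    have h4 : IsUnit (F.derivative.eval a + k * (g • a - a)) :=
      (IsLocalRing.notMem_maximalIdeal).mp fun hm => (IsLocalRing.notMem_maximalIdeal).mpr hda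
        (by simpa using sub_mem hm (Ideal.mul_mem_left _ k h2))
    exact sub_eq_zero.mp (h4.mul_left_eq_zero.mp h3)
  refine ⟨⟨a, hfix⟩, Subtype.ext ?_, ?_⟩
  · exact (hev ⟨a, hfix⟩).symm.trans ha.eq_zero
  · rw [mem_maximalIdeal]
    exact fun h => (mem_maximalIdeal _).mp haa (h.map B.subtype)

variable {L : Type u} [CommRing L] [IsLocalRing L] [Algebra A L]

section Coords

variable (act : G →* (L →+* L)) (χ : L →ₐ[A] ResidueField A)

omit [Finite G] [MulSemiringAction G A] in
theorem ker_chi : RingHom.ker χ = maximalIdeal L :=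
  eq_maximalIdeal (RingHom.ker_isMaximal_of_surjective χ fun z => by
    obtain ⟨a, rfl⟩ := residue_surjective z
    exact ⟨algebraMap A L a, χ.commutes a⟩)

omit [Finite G] [MulSemiringAction G A] in
theorem residue_eq_of_chi {x y : L} (h : χ x = χ y) : residue L x = residue L y := by
  rw [← sub_eq_zero, ← map_sub, residue_eq_zero_iff, ← ker_chi χ, RingHom.mem_ker, map_sub, h, sub_self]

omit [Finite G] [MulSemiringAction G A] in
theorem dFib_algebraMap_mul (a : A) (z : L) :
    dFib A (algebraMap A L a * z) = residue L (algebraMap A L a) • dFib A z := by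
  unfold dFib
  rw [Derivation.leibniz, Derivation.map_algebraMap, smul_zero, add_zero, TensorProduct.tmul_smul,
    ← algebraMap_smul (ResidueField L) (algebraMap A L a), ResidueField.algebraMap_eq]

omit [Finite G] in
/-- The action on the fibre of the differentials at a fixed rational point. -/
theorem exists_fibAct (hact : ∀ g a, act g (algebraMap A L a) = algebraMap A L (g • a))
    (hχ : ∀ g l, χ (act g l) = χ l) (g : G) :
    ∃ ρ : ResidueField L ⊗[L] Ω[L⁄A] →ₗ[ResidueField L] ResidueField L ⊗[L] Ω[L⁄A],
      ∀ a, ρ (dFib A a) = dFib A (act g a) := by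
  let δ : L →ₗ[A] ResidueField L ⊗[L] Ω[L⁄A] :=
    { toFun := fun a => dFib A (act g a)
      map_add' := fun a b => by rw [map_add, dFib_add]
      map_smul' := fun c a => by
        simp only [Algebra.smul_def, map_mul, hact, RingHom.id_apply]
        rw [dFib_algebraMap_mul, residue_eq_of_chi χ (y := algebraMap A L c) (by rw [← hact, hχ]),
          ← ResidueField.algebraMap_eq, ← IsScalarTower.algebraMap_apply, algebraMap_smul] }
  let D : Derivation A L (ResidueField L ⊗[L] Ω[L⁄A]) := Derivation.mk' δ fun a b => by
    show dFib A (act g (a * b)) = a • dFib A (act g b) + b • dFib A (act g a)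
    rw [map_mul, ← algebraMap_smul (ResidueField L) a, ← algebraMap_smul (ResidueField L) b,
      ResidueField.algebraMap_eq, ← residue_eq_of_chi χ (hχ g a), ← residue_eq_of_chi χ (hχ g b)]
    unfold dFib
    rw [Derivation.leibniz, TensorProduct.tmul_add, TensorProduct.tmul_smul, TensorProduct.tmul_smul,
      ← algebraMap_smul (ResidueField L) (act g a), ← algebraMap_smul (ResidueField L) (act g b),
      ResidueField.algebraMap_eq]
  refine ⟨D.liftKaehlerDifferential.liftBaseChange (ResidueField L), fun a => ?_⟩
  show D.liftKaehlerDifferential.liftBaseChange (ResidueField L) ((1 : ResidueField L) ⊗ₜ[L] _) = _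
  rw [LinearMap.liftBaseChange_tmul, one_smul, Derivation.liftKaehlerDifferential_comp_D]
  rfl

set_option maxHeartbeats 1000000 in
/-- Coordinates at a fixed rational point whose span is stable under the group. -/
theorem exists_stable_coords [Module.Free L Ω[L⁄A]] [Module.Finite L Ω[L⁄A]]
    (hG : IsUnit ((Nat.card G : ℕ) : ResidueField A)) (htriv : ∀ (g : G) (a : A), g • a - a ∈ maximalIdeal A)
    (hact : ∀ g a, act g (algebraMap A L a) = algebraMap A L (g • a)) (hχ : ∀ g l, χ (act g l) = χ l) :
    ∃ (n : ℕ) (t : Fin n → L) (b : Module.Basis (Fin n) (ResidueField L) (ResidueField L ⊗[L] Ω[L⁄A])),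
      (∀ i, t i ∈ maximalIdeal L) ∧ (∀ i, dFib A (t i) = b i) ∧
      ∀ g i, act g (t i) ∈ Ideal.span (Set.range t) := by
  classical
  haveI := Fintype.ofFinite G
  let K := ResidueField L
  let V := K ⊗[L] Ω[L⁄A]
  have hres : ∀ g l, residue L (act g l) = residue L l := fun g l => residue_eq_of_chi χ (hχ g l)
  -- representatives from the base
  have hconst : ∀ l : L, ∃ a : A, residue L (algebraMap A L a) = residue L l := fun l => by
    obtain ⟨a, ha⟩ := residue_surjective (χ l)
    exact ⟨a, residue_eq_of_chi χ ((χ.commutes a).trans ha)⟩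
  have hspan : Submodule.span K (dFib A '' (maximalIdeal L : Set L)) = ⊤ := by
    rw [eq_top_iff]
    intro z hz
    clear hz
    induction z using TensorProduct.induction_on with
    | zero => exact zero_mem _
    | add x y hx hy => exact add_mem hx hy
    | tmul c w =>
      have hw : w ∈ Submodule.span L (Set.range (KaehlerDifferential.D A L)) := by
        rw [KaehlerDifferential.span_range_derivation]; trivial
      induction hw using Submodule.span_induction generalizing c with
      | mem w hw =>
        obtain ⟨y, rfl⟩ := hw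
        obtain ⟨a, ha⟩ := hconst y
        have hy : y - algebraMap A L a ∈ maximalIdeal L := by
          rw [← residue_eq_zero_iff, map_sub, ha, sub_self]
        have : c ⊗ₜ[L] KaehlerDifferential.D A L y = c • dFib A (y - algebraMap A L a) := by
          simp [dFib, TensorProduct.smul_tmul', map_sub]
        rw [this]
        exact Submodule.smul_mem _ _ (Submodule.subset_span ⟨_, hy, rfl⟩)
      | zero => rw [TensorProduct.tmul_zero]; exact zero_mem _
      | add w w' _ _ h h' => rw [TensorProduct.tmul_add]; exact add_mem (h c) (h' c)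
      | smul l w _ h => rw [TensorProduct.tmul_smul, TensorProduct.smul_tmul']; exact h _
  obtain ⟨w, hwm, hwspan, hwli⟩ := Submodule.exists_fun_fin_finrank_span_eq K (dFib A '' (maximalIdeal L : Set L))
  set n := Module.finrank K (Submodule.span K (dFib A '' (maximalIdeal L : Set L)))
  let v : Module.Basis (Fin n) K V := Module.Basis.mk hwli (by rw [hwspan, hspan])
  choose t0 ht0m ht0d using hwm
  have hv : ∀ i, v i = dFib A (t0 i) := fun i => by rw [ht0d, Module.Basis.mk_apply]
  -- the representation
  choose ρ hρ using exists_fibAct act χ hact hχ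
  let ρ' : G →* Module.End K V :=
    { toFun := ρ
      map_one' := v.ext fun i => by rw [hv, hρ, map_one]; rfl
      map_mul' := fun g h => v.ext fun i => by
        show ρ (g * h) (v i) = ρ g (ρ h (v i))
        rw [hv, hρ, hρ, hρ, map_mul]; rfl }
  let M : G → Matrix (Fin n) (Fin n) K := fun g => Matrix.of fun i j => v.repr (ρ g (v i)) j
  have hM : ∀ g i, ρ g (v i) = ∑ j, M g i j • v j := fun g i => (v.sum_repr _).symm
  have hMmul : ∀ g h, M (g * h) = M h * M g := fun g h => by
    ext i k
    show v.repr (ρ' (g * h) (v i)) k = _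
    rw [map_mul, Module.End.mul_apply, show ρ' h (v i) = ∑ j, M h i j • v j from hM h i, map_sum, map_sum,
      Finsupp.finsetSum_apply, Matrix.mul_apply]
    exact Finset.sum_congr rfl fun j _ => by rw [map_smul, map_smul, Finsupp.smul_apply, smul_eq_mul]; rfl
  -- the invariants
  let B := FixedPoints.subring A G
  haveI : HenselianLocalRing B := henselian_fixed htriv
  letI : Algebra B L := ((algebraMap A L).comp B.subtype).toAlgebra
  let β : B →+* K := (residue L).comp (algebraMap B L)
  have hNA : IsUnit ((Nat.card G : ℕ) : A) := IsUnit.of_map (residue A) _ (by rwa [map_natCast])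
  have hNK : (Fintype.card G : K) ≠ 0 := by
    have := (hNA.map (algebraMap A L)).map (residue L)
    rw [map_natCast, map_natCast, Nat.card_eq_fintype_card] at this
    exact this.ne_zero
  have hβ : Function.Surjective β := fun z => by
    obtain ⟨l, rfl⟩ := residue_surjective z
    obtain ⟨a, ha⟩ := hconst l
    let q : A := ↑hNA.unit⁻¹ * ∑ g : G, g • a
    have hqfix : ∀ g : G, g • q = q := fun g => by
      have h1 : g • ∑ k : G, k • a = ∑ k : G, k • a := by
        rw [Finset.smul_sum]
        simp only [smul_smul]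
        exact Equiv.sum_comp (Equiv.mulLeft g) fun k => k • a
      have h2 : (Nat.card G : A) * (g • q) = (Nat.card G : A) * q := by
        conv_lhs => rw [← MulSemiringAction.toRingHom_apply G A g q, ← map_natCast (MulSemiringAction.toRingHom G A g),
          ← map_mul, MulSemiringAction.toRingHom_apply]
        simp only [q, ← mul_assoc, IsUnit.mul_val_inv, one_mul, h1]
      exact hNA.mul_left_cancel h2
    refine ⟨⟨q, hqfix⟩, ?_⟩
    show residue L (algebraMap A L q) = _
    have hN' : residue L (algebraMap A L (Nat.card G : A)) ≠ 0 := ((hNA.map _).map _).ne_zero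
    refine mul_left_cancel₀ hN' ?_
    rw [← map_mul, ← map_mul, show (Nat.card G : A) * q = ∑ g : G, g • a by simp [q, ← mul_assoc], map_sum, map_sum,
      Finset.sum_congr rfl fun g _ => (show residue L (algebraMap A L (g • a)) = residue L l by rw [← hact, hres, ha]),
      Finset.sum_const, Finset.card_univ, map_natCast, map_natCast, nsmul_eq_mul, Nat.card_eq_fintype_card]
  obtain ⟨e, he, hstab⟩ := exists_lift β hβ M hMmul hNK
  -- the group algebra acts
  let ρL : G →* Module.End B L :=
    { toFun := fun g =>
        { toFun := act g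
          map_add' := map_add _
          map_smul' := fun c l => by
            simp only [Algebra.smul_def, RingHom.id_apply, map_mul]
            congr 1
            show act g (algebraMap A L c.1) = algebraMap A L c.1
            rw [hact, c.2 g] }
      map_one' := LinearMap.ext fun l => show act 1 l = l by rw [map_one]; rfl
      map_mul' := fun g h => LinearMap.ext fun l => show act (g * h) l = act g (act h l) by rw [map_mul]; rfl }
  let actL := MonoidAlgebra.lift B (Module.End B L) G ρL
  let ev := MonoidAlgebra.lift K (Module.End K V) G ρ'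
  have hev : ∀ (y : MonoidAlgebra B G) (x : L), x ∈ maximalIdeal L →
      actL y x ∈ maximalIdeal L ∧ dFib A (actL y x) = ev (MonoidAlgebra.mapRingHom G β y) (dFib A x) := by
    intro y
    induction y using MonoidAlgebra.induction_on with
    | of g =>
      intro x hx
      simp only [MonoidAlgebra.of_apply, actL, ev, MonoidAlgebra.mapRingHom_single, MonoidAlgebra.lift_single, map_one,
        one_smul]
      refine ⟨?_, (hρ g x).symm⟩
      rw [← residue_eq_zero_iff] at hx ⊢
      exact (hres g x).trans hx
    | add y y' hy hy' =>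
      intro x hx
      obtain ⟨h1, h2⟩ := hy x hx
      obtain ⟨h1', h2'⟩ := hy' x hx
      rw [map_add, map_add, map_add, LinearMap.add_apply, LinearMap.add_apply, dFib_add, h2, h2']
      exact ⟨add_mem h1 h1', rfl⟩
    | smul c y hy =>
      intro x hx
      obtain ⟨h1, h2⟩ := hy x hx
      have : MonoidAlgebra.mapRingHom G β (c • y) = β c • MonoidAlgebra.mapRingHom G β y := by ext g; simp
      rw [map_smul, this, map_smul, LinearMap.smul_apply, LinearMap.smul_apply, ← h2, Algebra.smul_def]
      exact ⟨Ideal.mul_mem_left _ _ h1, dFib_algebraMap_mul c.1 _⟩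
  let Φ : Matrix (Fin n) (Fin n) (MonoidAlgebra B G) → Fin n → L := fun Y i => ∑ j, actL (Y i j) (t0 j)
  let Ψ : Matrix (Fin n) (Fin n) (MonoidAlgebra K G) → Fin n → V := fun Y i => ∑ j, ev (Y i j) (v j)
  have hΨ : ∀ i, Ψ (repIdem K M) i = v i := fun i => by
    let S := ∑ g, grpMat (n := n) K g * cMat K (M g⁻¹)
    have h1 : ∀ j, repIdem K M i j = (Fintype.card G : K)⁻¹ • S i j := fun j => by
      have hd : cMat (G := G) K ((Fintype.card G : K)⁻¹ • (1 : Matrix (Fin n) (Fin n) K)) =
          Matrix.diagonal fun _ => algebraMap K (MonoidAlgebra K G) (Fintype.card G : K)⁻¹ := by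
        rw [smul_one_eq_diagonal]
        exact Matrix.diagonal_map (map_zero _)
      show (cMat (G := G) K ((Fintype.card G : K)⁻¹ • (1 : Matrix (Fin n) (Fin n) K)) * S : Matrix (Fin n) (Fin n) (MonoidAlgebra K G)) i j = _
      rw [hd, Matrix.diagonal_mul, ← Algebra.smul_def]
    have h2 : ∀ g j, ev ((grpMat (n := n) K g * cMat (G := G) K (M g⁻¹) : Matrix (Fin n) (Fin n) (MonoidAlgebra K G)) i j) =
        M g⁻¹ i j • ρ g := fun g j => by
      simp [grpMat, cMat, Matrix.diagonal_mul, ev, MonoidAlgebra.coe_algebraMap]; rfl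
    show ∑ j, ev (repIdem K M i j) (v j) = v i
    simp only [h1, map_smul, LinearMap.smul_apply, S, Matrix.sum_apply, map_sum, LinearMap.sum_apply, h2]
    rw [← Finset.smul_sum, Finset.sum_comm]
    have h3 : ∀ g, ∑ j, M g⁻¹ i j • ρ g (v j) = v i := fun g => by
      rw [← Finset.sum_congr rfl fun j _ => map_smul (ρ g) (M g⁻¹ i j) (v j), ← map_sum, ← hM]
      show (ρ' g * ρ' g⁻¹) (v i) = v i
      rw [← map_mul, mul_inv_cancel, map_one]
      rfl
    rw [Finset.sum_congr rfl fun g _ => h3 g, Finset.sum_const, Finset.card_univ, ← Nat.cast_smul_eq_nsmul K,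
      smul_smul, inv_mul_cancel₀ hNK, one_smul]
  refine ⟨n, Φ e, v, fun i => Ideal.sum_mem _ fun j _ => (hev _ _ (ht0m j)).1, fun i => ?_, fun g i => ?_⟩
  · refine Eq.trans ?_ (hΨ i)
    show dFib A (∑ j, actL (e i j) (t0 j)) = _
    rw [dFib_sum]
    refine Finset.sum_congr rfl fun j _ => ?_
    rw [(hev _ _ (ht0m j)).2, hv]
    have he' : MonoidAlgebra.mapRingHom G β (e i j) = repIdem K M i j := by
      rw [← he, redMat, RingHom.mapMatrix_apply, Matrix.map_apply]
    rw [he']
  · obtain ⟨R, hR⟩ := hstab g
    have h1 : Φ (grpMat B g * e) i = act g (Φ e i) := by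
      simp only [Φ, grpMat, MonoidHom.coe_comp, Function.comp_apply, RingHom.toMonoidHom_eq_coe, MonoidHom.coe_coe,
        Matrix.scalar_apply, Matrix.diagonal_mul, map_mul, MonoidAlgebra.of_apply, actL, MonoidAlgebra.lift_single,
        one_smul, Module.End.mul_apply, map_sum]
      rfl
    have h2 : Φ (cMat B R * e) i = ∑ k, R i k • Φ e k := by
      simp only [Φ, cMat, RingHom.mapMatrix_apply, Matrix.mul_apply, Matrix.map_apply, map_sum, LinearMap.sum_apply,
        map_mul, AlgHom.commutes, Module.End.mul_apply, Module.algebraMap_end_apply, Finset.smul_sum]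
      exact Finset.sum_comm
    rw [← h1, hR, h2]
    refine Ideal.sum_mem _ fun k _ => ?_
    rw [Algebra.smul_def]
    exact Ideal.mul_mem_left _ _ (Ideal.subset_span (Set.mem_range_self k))

end Coords

section Point

variable {B0 : Type u} [CommRing B0] [Algebra A B0] [Algebra.IsStandardSmooth A B0] [Algebra B0 L]
  [IsScalarTower A B0 L]

omit [Finite G] [MulSemiringAction G A] in
/-- Elements with a basis of differentials cut out a unique point lifting a rational one. -/
theorem exists_unique_point (p : Ideal B0) [p.IsPrime] [IsLocalization.AtPrime L p] (χ : L →ₐ[A] ResidueField A) {n : ℕ} (t : Fin n → L)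
    (b : Module.Basis (Fin n) (ResidueField L) (ResidueField L ⊗[L] Ω[L⁄A]))
    (htm : ∀ i, t i ∈ maximalIdeal L) (htb : ∀ i, dFib A (t i) = b i) :
    ∃ r : L →ₐ[A] A, (∀ l, residue A (r l) = χ l) ∧ (∀ i, r (t i) = 0) ∧
      ∀ r' : L →ₐ[A] A, (∀ l, residue A (r' l) = χ l) → (∀ i, r' (t i) = 0) → r' = r := by
  haveI : Nontrivial B0 := RingHom.domain_nontrivial (algebraMap B0 L)
  haveI : IsLocalizedModule p.primeCompl (KaehlerDifferential.map A A B0 L) := inferInstance
  haveI : Module.Free L Ω[L⁄A] := Module.free_of_isLocalizedModule p.primeCompl (KaehlerDifferential.map A A B0 L)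
  haveI : Module.Finite L Ω[L⁄A] := Module.Finite.of_isLocalizedModule p.primeCompl (KaehlerDifferential.map A A B0 L)
  haveI : Algebra.FormallySmooth B0 L := Algebra.FormallySmooth.of_isLocalization p.primeCompl
  haveI : Algebra.FormallySmooth A L := Algebra.FormallySmooth.comp A B0 L
  choose ff hff using fun i => IsLocalization.surj p.primeCompl (t i)
  let f : Fin n → B0 := fun i => (ff i).1
  have hu : ∀ i, IsUnit (algebraMap B0 L (ff i).2) := fun i => IsLocalization.map_units L (ff i).2
  let f' : Fin n → L := fun i => algebraMap B0 L (f i)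
  have hf' : ∀ i, f' i = algebraMap B0 L (ff i).2 * t i := fun i => by rw [mul_comm]; exact (hff i).symm
  have hf'm : ∀ i, f' i ∈ maximalIdeal L := fun i => by rw [hf']; exact Ideal.mul_mem_left _ _ (htm i)
  let b' := b.unitsSMul fun i => ((hu i).map (residue L)).unit
  have hb' : ∀ i, dFib A (f' i) = b' i := fun i => by
    rw [hf', dFib_mul _ (htm i), htb, Module.Basis.unitsSMul_apply]; rfl
  have hbf : (fun k => dFib A (f' k)) = b' := funext hb'
  haveI := formallySmooth_quotient_span (R := A) f' hf'm (hbf ▸ b'.linearIndependent)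
  -- unramified
  haveI : Algebra.FormallyUnramified A (L ⧸ Ideal.span (Set.range f')) := by
    rw [Algebra.formallyUnramified_iff]
    refine subsingleton_of_forall_eq 0 fun z => ?_
    obtain ⟨w, rfl⟩ := KaehlerDifferential.map_surjective_of_surjective A A L (L ⧸ Ideal.span (Set.range f'))
      Ideal.Quotient.mk_surjective z
    have hw : w ∈ Submodule.span L (Set.range fun i => KaehlerDifferential.D A L (f' i)) := by
      rw [IsLocalRing.span_eq_top_of_tmul_eq_basis _ b' fun i => hb' i]; trivial
    refine (Submodule.span_le (p := LinearMap.ker (KaehlerDifferential.map A A L (L ⧸ Ideal.span (Set.range f'))))).mpr ?_ hw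
    rintro _ ⟨i, rfl⟩
    rw [SetLike.mem_coe, LinearMap.mem_ker, KaehlerDifferential.map_D,
      show algebraMap L (L ⧸ Ideal.span (Set.range f')) (f' i) = 0 from
        Ideal.Quotient.eq_zero_iff_mem.mpr (Ideal.subset_span (Set.mem_range_self i)), map_zero]
  set F := Ideal.span (Set.range f)
  set pC := p.map (Ideal.Quotient.mk F) with hpC
  have hFp : F ≤ p := Ideal.span_le.2 (Set.range_subset_iff.2 fun k => by
    show f k ∈ p
    rw [← IsLocalization.AtPrime.comap_maximalIdeal L p]
    exact hf'm k)
  haveI : pC.IsPrime := Ideal.map_isPrime_of_surjective Ideal.Quotient.mk_surjective (by rwa [Ideal.mk_ker])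
  have hcomap : pC.comap (Ideal.Quotient.mk F) = p := by
    rw [hpC, Ideal.comap_map_of_surjective _ Ideal.Quotient.mk_surjective, ← RingHom.ker_eq_comap_bot,
      Ideal.mk_ker, sup_eq_left]
    exact hFp
  have hmapF : F.map (algebraMap B0 L) = Ideal.span (Set.range f') := by
    rw [Ideal.map_span, ← Set.range_comp]; rfl
  haveI : IsScalarTower A (B0 ⧸ F) (L ⧸ F.map (algebraMap B0 L)) := IsScalarTower.of_algebraMap_eq fun r => by
    show Ideal.Quotient.mk _ (algebraMap A L r) = Ideal.Quotient.mk _ (algebraMap B0 L (algebraMap A B0 r))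
    rw [← IsScalarTower.algebraMap_apply]
  haveI hloc : IsLocalization pC.primeCompl (L ⧸ F.map (algebraMap B0 L)) := by
    have h := (inferInstance : IsLocalization (Algebra.algebraMapSubmonoid (B0 ⧸ F) p.primeCompl) (L ⧸ F.map (algebraMap B0 L)))
    have e : Algebra.algebraMapSubmonoid (B0 ⧸ F) p.primeCompl = pC.primeCompl := by
      ext x
      obtain ⟨x, rfl⟩ := Ideal.Quotient.mk_surjective x
      constructor
      · rintro ⟨y, hy, hyx⟩ hx
        apply hy
        show y ∈ p
        rw [← hcomap, Ideal.mem_comap]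
        exact hyx ▸ hx
      · intro hx
        exact ⟨x, fun h => hx (Ideal.mem_map_of_mem _ h), rfl⟩
    rwa [e] at h
  haveI : Algebra.IsEtaleAt A pC := by
    haveI : Algebra.FormallyEtale A (L ⧸ Ideal.span (Set.range f')) :=
      Algebra.FormallyEtale.of_formallyUnramified_and_formallySmooth
    exact Algebra.FormallyEtale.of_equiv ((Ideal.quotientEquivAlgOfEq A hmapF).symm.trans
      ((IsLocalization.algEquiv pC.primeCompl (L ⧸ F.map (algebraMap B0 L)) (Localization.AtPrime pC)).restrictScalars A))
  haveI : Algebra.FinitePresentation A (B0 ⧸ F) :=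
    Algebra.FinitePresentation.quotient (Submodule.fg_span (Set.finite_range f))
  obtain ⟨_, ⟨h, rfl⟩, hmem, hsub⟩ := PrimeSpectrum.isTopologicalBasis_basic_opens.exists_subset_of_mem_open
    (show (⟨pC, inferInstance⟩ : PrimeSpectrum (B0 ⧸ F)) ∈ Algebra.etaleLocus A (B0 ⧸ F) from ‹_›)
    Algebra.isOpen_etaleLocus
  haveI : Algebra.Etale A (Localization.Away h) := (Algebra.basicOpen_subset_etaleLocus_iff_etale).mp hsub
  -- the point
  let χB : B0 →ₐ[A] ResidueField A := χ.comp (IsScalarTower.toAlgHom A B0 L)
  have hχker : ∀ y : L, χ y = 0 ↔ y ∈ maximalIdeal L := fun y => by rw [← ker_chi χ]; rfl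
  let χC : B0 ⧸ F →ₐ[A] ResidueField A := Ideal.Quotient.liftₐ F χB fun y hy =>
    (hχker _).mpr (by
      have := hFp hy
      rw [← IsLocalization.AtPrime.comap_maximalIdeal L p] at this
      exact this)
  have hh : IsUnit (χC h) := by
    rw [isUnit_iff_ne_zero]
    intro h0
    obtain ⟨y, rfl⟩ := Ideal.Quotient.mk_surjective h
    refine hmem ?_
    show Ideal.Quotient.mk F y ∈ pC
    refine Ideal.mem_map_of_mem _ ?_
    rw [← IsLocalization.AtPrime.comap_maximalIdeal L p]
    exact (hχker _).mp h0
  let σ : Localization.Away h →ₐ[A] ResidueField A := IsLocalization.liftAlgHom (M := Submonoid.powers h) (f := χC)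
    (fun y => by obtain ⟨_, k, rfl⟩ := y; rw [map_pow]; exact hh.pow k)
  obtain ⟨g, hg, huniq⟩ := Groth.Hensel1.existsUnique_algHom_lift_residue (T := A) σ
  let r0 : B0 →ₐ[A] A :=
    (g.comp (IsScalarTower.toAlgHom A (B0 ⧸ F) (Localization.Away h))).comp (Ideal.Quotient.mkₐ A F)
  have hr0 : ∀ y, residue A (r0 y) = χ (algebraMap B0 L y) := fun y => by
    refine (hg _).trans ?_
    exact IsLocalization.lift_eq _ _
  have hr0u : ∀ y : p.primeCompl, IsUnit (r0 y) := fun y => by
    refine IsUnit.of_map (residue A) _ ?_
    rw [hr0]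
    exact (IsLocalization.map_units L y).map χ
  let r : L →ₐ[A] A := IsLocalization.liftAlgHom hr0u
  have hr : ∀ y, r (algebraMap B0 L y) = r0 y := fun y => IsLocalization.lift_eq _ _
  refine ⟨r, fun l => ?_, fun i => ?_, fun r' hr' ht' => ?_⟩
  · have : (IsScalarTower.toAlgHom A A (ResidueField A)).comp r = χ :=
      IsLocalization.algHom_ext p.primeCompl (AlgHom.ext fun y => by
        show residue A (r (algebraMap B0 L y)) = χ (algebraMap B0 L y)
        rw [hr, hr0])
    exact AlgHom.congr_fun this l
  · have h0 : r (f' i) = 0 := by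
      rw [hr]
      show g (algebraMap (B0 ⧸ F) _ (Ideal.Quotient.mk F (f i))) = 0
      rw [Ideal.Quotient.eq_zero_iff_mem.mpr (Ideal.subset_span (Set.mem_range_self i)), map_zero, map_zero]
    rw [hf', map_mul] at h0
    exact ((hu i).map r).mul_right_eq_zero.mp h0
  · let rC : B0 ⧸ F →ₐ[A] A := Ideal.Quotient.liftₐ F (r'.comp (IsScalarTower.toAlgHom A B0 L)) fun y hy => by
      have : y ∈ RingHom.ker (r'.comp (IsScalarTower.toAlgHom A B0 L)) := Ideal.span_le.mpr (by
        rintro _ ⟨i, rfl⟩
        show r' (f' i) = 0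
        rw [hf', map_mul, ht', mul_zero]) hy
      exact this
    have hC : ∀ y, residue A (rC y) = χC y := fun y => by
      obtain ⟨y, rfl⟩ := Ideal.Quotient.mk_surjective y
      exact hr' _
    let g' : Localization.Away h →ₐ[A] A := IsLocalization.liftAlgHom (M := Submonoid.powers h) (f := rC)
      (fun y => by
        obtain ⟨_, k, rfl⟩ := y
        rw [map_pow]
        exact (IsUnit.of_map (residue A) _ (by rw [hC]; exact hh)).pow k)
    have hgg : g' = g := huniq g' fun z => by
      have : (IsScalarTower.toAlgHom A A (ResidueField A)).comp g' = σ :=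
        IsLocalization.algHom_ext (Submonoid.powers h) (AlgHom.ext fun y => by
          show residue A (g' (algebraMap _ _ y)) = σ (algebraMap _ _ y)
          rw [show g' (algebraMap _ _ y) = rC y from IsLocalization.lift_eq _ _, hC]
          exact (IsLocalization.lift_eq _ _).symm)
      exact AlgHom.congr_fun this z
    refine IsLocalization.algHom_ext p.primeCompl (AlgHom.ext fun y => ?_)
    show r' (algebraMap B0 L y) = r (algebraMap B0 L y)
    rw [hr, show r0 y = g (algebraMap (B0 ⧸ F) _ (Ideal.Quotient.mk F y)) from rfl, ← hgg,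
      show g' (algebraMap (B0 ⧸ F) _ (Ideal.Quotient.mk F y)) = rC (Ideal.Quotient.mk F y) from IsLocalization.lift_eq _ _]
    rfl

/-- An equivariant point through a fixed rational point. -/
theorem exists_equivariant_point (act : G →* (L →+* L)) (χ : L →ₐ[A] ResidueField A)
    (hG : IsUnit ((Nat.card G : ℕ) : ResidueField A)) (htriv : ∀ (g : G) (a : A), g • a - a ∈ maximalIdeal A)
    (hact : ∀ g a, act g (algebraMap A L a) = algebraMap A L (g • a)) (hχ : ∀ g l, χ (act g l) = χ l)
    (p : Ideal B0) [p.IsPrime] [IsLocalization.AtPrime L p] :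
    ∃ r : L →ₐ[A] A, (∀ l, residue A (r l) = χ l) ∧ ∀ g l, r (act g l) = g • r l := by
  haveI : Nontrivial B0 := RingHom.domain_nontrivial (algebraMap B0 L)
  haveI : Module.Free L Ω[L⁄A] := Module.free_of_isLocalizedModule p.primeCompl (KaehlerDifferential.map A A B0 L)
  haveI : Module.Finite L Ω[L⁄A] := Module.Finite.of_isLocalizedModule p.primeCompl (KaehlerDifferential.map A A B0 L)
  obtain ⟨n, t, b, htm, htb, hst⟩ := exists_stable_coords act χ hG htriv hact hχ
  obtain ⟨r, hr, hrt, huniq⟩ := exists_unique_point p χ t b htm htb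
  refine ⟨r, hr, fun g l => ?_⟩
  let r' : L →ₐ[A] A :=
    { (MulSemiringAction.toRingHom G A g⁻¹).comp (r.toRingHom.comp (act g)) with
      commutes' := fun a => by
        show g⁻¹ • r (act g (algebraMap A L a)) = a
        rw [hact, r.commutes, show algebraMap A A (g • a) = g • a from rfl, inv_smul_smul] }
  have h : r' = r := huniq r' (fun l => by
      show residue A (g⁻¹ • r (act g l)) = χ l
      rw [← hχ g l, ← hr, ← sub_eq_zero, ← map_sub, residue_eq_zero_iff]
      exact htriv _ _) fun i => by
    show g⁻¹ • r (act g (t i)) = 0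
    have : r (act g (t i)) = 0 := by
      have hle : Ideal.span (Set.range t) ≤ RingHom.ker r := Ideal.span_le.mpr (by rintro _ ⟨j, rfl⟩; exact hrt j)
      exact hle (hst g i)
    rw [this, smul_zero]
  conv_rhs => rw [← h]
  show _ = g • (g⁻¹ • r (act g l))
  rw [smul_inv_smul]

end Point

end Groth.EquivSect
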