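import Groth.Prelude.Def_W4bk4git07Quot
import Groth.Agent.AlgGrp2.TorsorQuot
import Groth.Agent.S4959
import Mathlib

/-! Geometric quotients descend along flat surjective quasi-compact base change (helper97). -/

set_option autoImplicit false

universe u

open CategoryTheory CategoryTheory.Limits MonoidalCategory CartesianMonoidalCategory MonObj AlgebraicGeometry

namespace Groth.Misc14.GeomQuotDescent

set_option backward.isDefEq.respectTransparency.types false

open Groth.AlgGrp2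

section Functions

variable {A B : Scheme.{u}}

/-- Pull back a section over an open along a morphism into that open, on global sections. -/
lemma appTop_topIso_inv {P : Scheme.{u}} (V : B.Opens) (g : P ⟶ V.toScheme) (s : Γ(B, V))
    (h : (⊤ : P.Opens) ≤ (g ≫ V.ι) ⁻¹ᵁ V) :
    g.appTop (V.topIso.inv s) = (g ≫ V.ι).appLE V ⊤ h s := by
  have e : V.topIso.inv = V.ι.appLE V ⊤ (by simp) := by
    simp [Scheme.Hom.appLE]
    erw [← B.presheaf.map_comp]
    congr 1
  have e' : g.appTop = g.appLE ⊤ ⊤ le_top := by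
    rw [Scheme.Hom.appTop, Scheme.Hom.app_eq_appLE]
    rfl
  rw [e, e', ← CommRingCat.comp_apply, Scheme.Hom.appLE_comp_appLE]

variable {C : Scheme.{u}}

lemma appLE_app_apply (g : A ⟶ B) (f : B ⟶ C) (U : C.Opens) (W : A.Opens) (h : W ≤ g ⁻¹ᵁ (f ⁻¹ᵁ U))
    (h' : W ≤ (g ≫ f) ⁻¹ᵁ U) (s : Γ(C, U)) : g.appLE (f ⁻¹ᵁ U) W h (f.app U s) = (g ≫ f).appLE U W h' s := by
  rw [Scheme.Hom.app_eq_appLE, ← CommRingCat.comp_apply, Scheme.Hom.appLE_comp_appLE]

lemma appLE_appLE_apply (g : A ⟶ B) (f : B ⟶ C) (U : C.Opens) (V : B.Opens) (W : A.Opens) (h₁ : V ≤ f ⁻¹ᵁ U)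
    (h₂ : W ≤ g ⁻¹ᵁ V) (h' : W ≤ (g ≫ f) ⁻¹ᵁ U) (s : Γ(C, U)) :
    g.appLE V W h₂ (f.appLE U V h₁ s) = (g ≫ f).appLE U W h' s := by
  rw [← CommRingCat.comp_apply, Scheme.Hom.appLE_comp_appLE]

lemma appLE_congr_hom {g g' : A ⟶ B} (e : g = g') (U : B.Opens) (W : A.Opens) (h : W ≤ g ⁻¹ᵁ U)
    (h' : W ≤ g' ⁻¹ᵁ U) (s : Γ(B, U)) : g.appLE U W h s = g'.appLE U W h' s := by
  subst e; rfl

/-- Base change along a flat morphism keeps functions injective. -/
theorem app_injective_of_flat {A' B' : Scheme.{u}} {f : A ⟶ B} [QuasiCompact f] [QuasiSeparated f]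
    {g : B' ⟶ B} [Flat g] {p : A' ⟶ A} {f' : A' ⟶ B'} (H : IsPullback p f' f g)
    (hf : ∀ U : B.Opens, Function.Injective (f.app U)) (W : B'.Opens) : Function.Injective (f'.app W) := by
  intro s t hst
  refine TopCat.Presheaf.section_ext B'.sheaf W s t fun z hz => ?_
  obtain ⟨U, hU, hgz, -⟩ := exists_isAffineOpen_mem_and_subset (X := B) (U := ⊤) (show g z ∈ (⊤ : B.Opens) from trivial)
  obtain ⟨W', hW', hzW', hsub⟩ := exists_isAffineOpen_mem_and_subset (X := B') (U := W ⊓ g ⁻¹ᵁ U)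
    (show z ∈ W ⊓ g ⁻¹ᵁ U from ⟨hz, hgz⟩)
  have hWU : W' ≤ g ⁻¹ᵁ U := fun x hx => (hsub hx).2
  have hWW : W' ≤ W := fun x hx => (hsub hx).1
  let i : U ⟶ U := 𝟙 _
  set UY := p ⁻¹ᵁ (f ⁻¹ᵁ U) ⊓ f' ⁻¹ᵁ W' with hUY
  have hiso := isIso_pushoutSection_of_isQuasiSeparated_of_flat_right H.flip.flip
    (US := U) (UT := W') (UX := f ⁻¹ᵁ U) (UY := UY) hWU le_rfl hUY
    hU hW' (f.isCompact_preimage hU.isCompact) (f.isQuasiSeparated_preimage hU.isQuasiSeparated)
  have hpush := (isIso_pushoutSection_iff H (US := U) (UT := W') (UX := f ⁻¹ᵁ U) (UY := UY) hWU le_rfl hUY).1 hiso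
  have hflat : (g.appLE U W' hWU).hom.Flat := HasRingHomProperty.appLE @Flat g ‹_› ⟨U, hU⟩ ⟨W', hW'⟩ hWU
  have hinj : Function.Injective (f'.appLE W' UY inf_le_right) := by
    have h1 : Function.Injective (f.appLE U (f ⁻¹ᵁ U) le_rfl) := by
      rw [← Scheme.Hom.app_eq_appLE]; exact hf U
    let algX := (f.appLE U (f ⁻¹ᵁ U) le_rfl).hom.toAlgebra
    let algT := (g.appLE U W' hWU).hom.toAlgebra
    let algXY := (p.appLE (f ⁻¹ᵁ U) UY inf_le_left).hom.toAlgebra
    let algTY := (f'.appLE W' UY inf_le_right).hom.toAlgebra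
    let algY := ((p.appLE (f ⁻¹ᵁ U) UY inf_le_left).hom.comp (f.appLE U (f ⁻¹ᵁ U) le_rfl).hom).toAlgebra
    have : IsScalarTower Γ(B, U) Γ(A, f ⁻¹ᵁ U) Γ(A', UY) := IsScalarTower.of_algebraMap_eq fun _ => rfl
    have : IsScalarTower Γ(B, U) Γ(B', W') Γ(A', UY) := IsScalarTower.of_algebraMap_eq fun r =>
      congrArg (fun q : Γ(B, U) ⟶ Γ(A', UY) => q r) hpush.w
    have hAlg : Algebra.IsPushout Γ(B, U) Γ(B', W') Γ(A, f ⁻¹ᵁ U) Γ(A', UY) :=
      ((CommRingCat.isPushout_iff_isPushout).mp (by exact hpush.flip))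
    have : Module.Flat Γ(B, U) Γ(B', W') := hflat
    have h2 := Module.Flat.lTensor_preserves_injective_linearMap (M := Γ(B', W'))
      (Algebra.linearMap Γ(B, U) Γ(A, f ⁻¹ᵁ U)) h1
    intro x y hxy
    have h3 : Algebra.IsPushout.equiv Γ(B, U) Γ(B', W') Γ(A, f ⁻¹ᵁ U) Γ(A', UY) (x ⊗ₜ 1) =
        Algebra.IsPushout.equiv Γ(B, U) Γ(B', W') Γ(A, f ⁻¹ᵁ U) Γ(A', UY) (y ⊗ₜ 1) := by
      rw [Algebra.IsPushout.equiv_tmul, Algebra.IsPushout.equiv_tmul, map_one, _root_.mul_one, _root_.mul_one]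
      exact hxy
    have h4 := (Algebra.IsPushout.equiv Γ(B, U) Γ(B', W') Γ(A, f ⁻¹ᵁ U) Γ(A', UY)).injective h3
    have h5 : (Algebra.linearMap Γ(B, U) Γ(A, f ⁻¹ᵁ U)).lTensor Γ(B', W') (x ⊗ₜ 1) =
        (Algebra.linearMap Γ(B, U) Γ(A, f ⁻¹ᵁ U)).lTensor Γ(B', W') (y ⊗ₜ 1) := by
      simpa using h4
    have h6 := congrArg (_root_.TensorProduct.rid Γ(B, U) Γ(B', W')) (h2 h5)
    simpa using h6
  have h7 : B'.presheaf.map (homOfLE hWW).op s = B'.presheaf.map (homOfLE hWW).op t := by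
    apply hinj
    rw [← CommRingCat.comp_apply, ← CommRingCat.comp_apply, Scheme.Hom.map_appLE]
    show (f'.app W ≫ A'.presheaf.map _) s = (f'.app W ≫ A'.presheaf.map _) t
    rw [CommRingCat.comp_apply, CommRingCat.comp_apply, hst]
  have h8 := congrArg (B'.presheaf.germ W' z hzW') h7
  rwa [TopCat.Presheaf.germ_res_apply, TopCat.Presheaf.germ_res_apply] at h8

/-- Flat surjective quasi-compact morphisms are injective on functions. -/
theorem app_injective_of_fpqc (q : A ⟶ B) [Flat q] [Surjective q] [QuasiCompact q] (U : B.Opens) :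
    Function.Injective (q.app U) := by
  have : Flat (q ∣_ U) := IsZariskiLocalAtTarget.restrict ‹Flat q› U
  have : Surjective (q ∣_ U) := IsZariskiLocalAtTarget.restrict ‹Surjective q› U
  have : QuasiCompact (q ∣_ U) := IsZariskiLocalAtTarget.restrict ‹QuasiCompact q› U
  have : EffectiveEpi (q ∣_ U) := inferInstance
  intro s t h
  apply U.topIso.commRingCatIsoToRingEquiv.symm.injective
  apply ConstFun.appTop_injective_of_epi (q ∣_ U)
  show (q ∣_ U).appTop (U.topIso.inv s) = (q ∣_ U).appTop (U.topIso.inv t)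
  rw [appTop_topIso_inv U (q ∣_ U) s (fun x _ => by simp [x.2]),
    appTop_topIso_inv U (q ∣_ U) t (fun x _ => by simp [x.2])]
  simp only [morphismRestrict_ι, Scheme.Hom.comp_appLE, CommRingCat.comp_apply, h]

end Functions

variable {S : Scheme.{u}} {G X Y X' Y' : Over S} [GrpObj G]

/-- The induced action on a base change. -/
noncomputable def pullAction (a : AlgGrp.Action G X) {φ : X ⟶ Y} (hinv : GIT.IsInvariant a φ)
    {α : Y' ⟶ Y} {pr : X' ⟶ X} {φ' : X' ⟶ Y'} (hpb : IsPullback pr φ' φ α) : AlgGrp.Action G X' where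
  act := hpb.lift ((G ◁ pr) ≫ a.act) (snd G X' ≫ φ') (by
    rw [Category.assoc, show a.act ≫ φ = snd G X ≫ φ from hinv, ← Category.assoc, whiskerLeft_snd,
      Category.assoc, Category.assoc, hpb.w])
  one_act := by
    refine hpb.hom_ext ?_ ?_
    · rw [Category.assoc, hpb.lift_fst, ← whisker_exchange_assoc, a.one_act, leftUnitor_hom, leftUnitor_hom,
        whiskerLeft_snd]
    · rw [Category.assoc, hpb.lift_snd, leftUnitor_hom, whiskerRight_snd_assoc]
  mul_act := by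
    refine hpb.hom_ext ?_ ?_
    · simp only [Category.assoc, IsPullback.lift_fst, ← whisker_exchange_assoc, a.mul_act]
      simp only [← whiskerLeft_comp_assoc, IsPullback.lift_fst]
      simp only [whiskerLeft_comp, Category.assoc]
      rw [← associator_naturality_right_assoc]
    · simp only [Category.assoc, IsPullback.lift_snd, whiskerRight_snd_assoc, whiskerLeft_snd_assoc,
        associator_hom_snd_snd_assoc]

lemma pullAction_fst (a : AlgGrp.Action G X) {φ : X ⟶ Y} (hinv : GIT.IsInvariant a φ)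
    {α : Y' ⟶ Y} {pr : X' ⟶ X} {φ' : X' ⟶ Y'} (hpb : IsPullback pr φ' φ α) :
    (pullAction a hinv hpb).act ≫ pr = (G ◁ pr) ≫ a.act := hpb.lift_fst _ _ _

lemma pullAction_inv (a : AlgGrp.Action G X) {φ : X ⟶ Y} (hinv : GIT.IsInvariant a φ)
    {α : Y' ⟶ Y} {pr : X' ⟶ X} {φ' : X' ⟶ Y'} (hpb : IsPullback pr φ' φ α) :
    GIT.IsInvariant (pullAction a hinv hpb) φ' := hpb.lift_snd _ _ _

set_option maxHeartbeats 800000 in
/-- A geometric quotient after faithfully flat quasi-compact base change is a geometric quotient. -/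
theorem isGeomQuot (a : AlgGrp.Action G X) {φ : X ⟶ Y} (hinv : GIT.IsInvariant a φ)
    [QuasiCompact φ.left] [QuasiSeparated φ.left]
    {α : Y' ⟶ Y} [Flat α.left] [Surjective α.left] [QuasiCompact α.left]
    {pr : X' ⟶ X} {φ' : X' ⟶ Y'} (hpb : IsPullback pr φ' φ α)
    (a' : AlgGrp.Action G X') (heq : a'.act ≫ pr = (G ◁ pr) ≫ a.act)
    (h : GIT.IsGeomQuot a' φ') : GIT.IsGeomQuot a φ := by
  have H : IsPullback pr.left φ'.left φ.left α.left := hpb.map (Over.forget S)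
  have heq' : a'.act.left ≫ pr.left = (G ◁ pr).left ≫ a.act.left := by
    rw [← Over.comp_left, ← Over.comp_left, heq]
  have hsnd : (snd G X').left ≫ pr.left = (G ◁ pr).left ≫ (snd G X).left := by
    rw [← Over.comp_left, ← Over.comp_left, whiskerLeft_snd]
  have : QuasiCompact φ'.left := MorphismProperty.of_isPullback H ‹QuasiCompact φ.left›
  have : QuasiSeparated φ'.left := MorphismProperty.of_isPullback H ‹QuasiSeparated φ.left›
  have : Flat pr.left := MorphismProperty.of_isPullback H.flip ‹Flat α.left›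
  have : Surjective pr.left := MorphismProperty.of_isPullback H.flip ‹Surjective α.left›
  have : QuasiCompact pr.left := MorphismProperty.of_isPullback H.flip ‹QuasiCompact α.left›
  refine ⟨hinv, fun y => ?_, fun z => ?_, ?_, fun U => ?_⟩
  · obtain ⟨y', rfl⟩ := α.left.surjective y
    obtain ⟨x', rfl⟩ := h.surj y'
    exact ⟨pr.left x', by rw [← Scheme.Hom.comp_apply, H.w, Scheme.Hom.comp_apply]⟩
  · let m := pullback.fst φ.left φ.left ≫ φ.left
    obtain ⟨y', hy'⟩ := α.left.surjective (m z)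
    obtain ⟨t, ht, -⟩ := Scheme.Pullback.exists_preimage_pullback (f := m) (g := α.left) z y' hy'.symm
    let r₁ : pullback m α.left ⟶ X'.left := H.lift (pullback.fst m α.left ≫ pullback.fst φ.left φ.left)
      (pullback.snd m α.left) (by rw [Category.assoc]; exact pullback.condition)
    let r₂ : pullback m α.left ⟶ X'.left := H.lift (pullback.fst m α.left ≫ pullback.snd φ.left φ.left)
      (pullback.snd m α.left) (by rw [Category.assoc, ← pullback.condition]; exact pullback.condition)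
    have hr : r₁ ≫ φ'.left = r₂ ≫ φ'.left := by simp [r₁, r₂]
    obtain ⟨w, hw⟩ := h.orbit (pullback.lift r₁ r₂ hr t)
    let mp : pullback φ'.left φ'.left ⟶ pullback φ.left φ.left :=
      pullback.map _ _ _ _ pr.left pr.left α.left H.w.symm H.w.symm
    refine ⟨(G ◁ pr).left w, ?_⟩
    have e1 : GIT.PsiY a' φ' h.inv ≫ mp = (G ◁ pr).left ≫ GIT.PsiY a φ hinv := by
      refine pullback.hom_ext ?_ ?_
      · simp only [mp, GIT.PsiY, Category.assoc, pullback.lift_fst, pullback.lift_fst_assoc]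
        exact heq'
      · simp only [mp, GIT.PsiY, Category.assoc, pullback.lift_snd, pullback.lift_snd_assoc]
        exact hsnd
    have e2 : pullback.lift r₁ r₂ hr ≫ mp = pullback.fst m α.left := by
      refine pullback.hom_ext ?_ ?_
      · simp only [mp, r₁, Category.assoc, pullback.lift_fst, pullback.lift_fst_assoc]
        erw [H.lift_fst]
      · simp only [mp, r₂, Category.assoc, pullback.lift_snd, pullback.lift_snd_assoc]
        erw [H.lift_fst]
    rw [← Scheme.Hom.comp_apply, ← e1, Scheme.Hom.comp_apply, hw, ← Scheme.Hom.comp_apply, e2, ht]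
  · refine Groth.Agent.S4959.result φ.left α.left (Or.inr ⟨inferInstance, inferInstance⟩) ?_
    rw [← H.isoPullback_inv_snd]
    exact (MorphismProperty.cancel_left_of_respectsIso
      (topologically @Topology.IsQuotientMap).universally _ _).mpr h.subm
  -- functions
  have hinvrange : ∀ s : Γ(Y.left, U), GIT.IsInvSection a φ U (φ.left.app U s) := by
    intro s
    show (a.act.left.appLE _ _ _) _ = ((snd G X).left.appLE _ _ _) _
    rw [← CommRingCat.comp_apply, ← CommRingCat.comp_apply, Scheme.Hom.app_eq_appLE,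
      Scheme.Hom.appLE_comp_appLE, Scheme.Hom.appLE_comp_appLE]
    simp only [hinv.left]
  set V := α.left ⁻¹ᵁ U with hV
  have hVX : φ'.left ⁻¹ᵁ V ≤ pr.left ⁻¹ᵁ (φ.left ⁻¹ᵁ U) := by
    intro x hx
    show (pr.left ≫ φ.left) x ∈ U
    rw [H.w]
    exact hx
  have hsq : ∀ s : Γ(Y.left, U), pr.left.appLE (φ.left ⁻¹ᵁ U) (φ'.left ⁻¹ᵁ V) hVX (φ.left.app U s) =
      φ'.left.app V (α.left.app U s) := by
    intro s
    have hle : φ'.left ⁻¹ᵁ V ≤ (pr.left ≫ φ.left) ⁻¹ᵁ U := hVX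
    rw [appLE_app_apply pr.left φ.left U _ hVX hle, Scheme.Hom.app_eq_appLE (f := φ'.left)]
    refine Eq.trans ?_ (appLE_app_apply φ'.left α.left U _ le_rfl le_rfl s).symm
    exact appLE_congr_hom H.w U _ _ _ s
  refine ⟨fun s t hst => app_injective_of_fpqc α.left U ((h.sections V).1 ?_), Set.ext fun f => ⟨?_, fun hf => ?_⟩⟩
  · rw [← hsq, ← hsq, hst]
  · rintro ⟨s, rfl⟩
    exact hinvrange s
  set W := a.act.left ⁻¹ᵁ (φ.left ⁻¹ᵁ U) ⊓ (snd G X).left ⁻¹ᵁ (φ.left ⁻¹ᵁ U) with hW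
  set W' := a'.act.left ⁻¹ᵁ (φ'.left ⁻¹ᵁ V) ⊓ (snd G X').left ⁻¹ᵁ (φ'.left ⁻¹ᵁ V) with hW'
  have hWW : W' ≤ (G ◁ pr).left ⁻¹ᵁ W := by
    intro x hx
    refine ⟨?_, ?_⟩
    · show ((G ◁ pr).left ≫ a.act.left) x ∈ φ.left ⁻¹ᵁ U
      rw [← heq']
      exact hVX hx.1
    · show ((G ◁ pr).left ≫ (snd G X).left) x ∈ φ.left ⁻¹ᵁ U
      rw [← hsnd]
      exact hVX hx.2
  have hf' : GIT.IsInvSection a' φ' V (pr.left.appLE _ (φ'.left ⁻¹ᵁ V) hVX f) := by
    have he := congrArg ((G ◁ pr).left.appLE W W' hWW) hf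
    rw [appLE_appLE_apply _ a.act.left _ W W' inf_le_left hWW (fun x hx => (hWW hx).1) f,
      appLE_appLE_apply _ (snd G X).left _ W W' inf_le_right hWW (fun x hx => (hWW hx).2) f] at he
    have h1 : W' ≤ (a'.act.left ≫ pr.left) ⁻¹ᵁ (φ.left ⁻¹ᵁ U) := fun x hx => hVX hx.1
    have h2 : W' ≤ ((snd G X').left ≫ pr.left) ⁻¹ᵁ (φ.left ⁻¹ᵁ U) := fun x hx => hVX hx.2
    show a'.act.left.appLE _ W' _ _ = (snd G X').left.appLE _ W' _ _
    rw [appLE_appLE_apply _ pr.left _ _ W' hVX inf_le_left h1 f,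
      appLE_appLE_apply _ pr.left _ _ W' hVX inf_le_right h2 f,
      appLE_congr_hom heq' _ _ h1 (fun x hx => (hWW hx).1) f,
      appLE_congr_hom hsnd _ _ h2 (fun x hx => (hWW hx).2) f]
    exact he
  obtain ⟨s', hs'⟩ := (h.sections V).2.ge hf'
  let q := α.left ∣_ U
  have : Flat q := IsZariskiLocalAtTarget.restrict ‹Flat α.left› U
  have : Surjective q := IsZariskiLocalAtTarget.restrict ‹Surjective α.left› U
  have : QuasiCompact q := IsZariskiLocalAtTarget.restrict ‹QuasiCompact α.left› U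
  let p₁ : pullback q q ⟶ Y'.left := pullback.fst q q ≫ V.ι
  let p₂ : pullback q q ⟶ Y'.left := pullback.snd q q ≫ V.ι
  have hp : p₁ ≫ α.left = p₂ ≫ α.left := by
    have e : V.ι ≫ α.left = q ≫ U.ι := (morphismRestrict_ι _ _).symm
    show (pullback.fst q q ≫ V.ι) ≫ α.left = (pullback.snd q q ≫ V.ι) ≫ α.left
    rw [Category.assoc, Category.assoc, e, pullback.condition_assoc]
  have : Flat p₁ := inferInstanceAs (Flat (pullback.fst q q ≫ V.ι))
  let x₁ := pullback.fst φ'.left p₁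
  let π := pullback.snd φ'.left p₁
  let x₂ : pullback φ'.left p₁ ⟶ X'.left := H.lift (x₁ ≫ pr.left) (π ≫ p₂) (by
    rw [Category.assoc, H.w, ← Category.assoc, show x₁ ≫ φ'.left = π ≫ p₁ from pullback.condition,
      Category.assoc, hp, ← Category.assoc])
  have hb₁ : (⊤ : (pullback q q).Opens) ≤ p₁ ⁻¹ᵁ V := fun x _ => by
    show p₁ x ∈ V
    exact (pullback.fst q q x).2
  have hb₂ : (⊤ : (pullback q q).Opens) ≤ p₂ ⁻¹ᵁ V := fun x _ => by
    show p₂ x ∈ V
    exact (pullback.snd q q x).2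
  have key : π.app ⊤ (p₁.appLE V ⊤ hb₁ s') = π.app ⊤ (p₂.appLE V ⊤ hb₂ s') := by
    have e : ∀ (x : pullback φ'.left p₁ ⟶ X'.left) (p : pullback q q ⟶ Y'.left) (hb : ⊤ ≤ p ⁻¹ᵁ V)
        (hx : x ≫ φ'.left = π ≫ p) (hx' : ⊤ ≤ (x ≫ pr.left) ⁻¹ᵁ (φ.left ⁻¹ᵁ U)),
        π.app ⊤ (p.appLE V ⊤ hb s') = (x ≫ pr.left).appLE (φ.left ⁻¹ᵁ U) ⊤ hx' f := by
      intro x p hb hx hx'
      have hx'' : ⊤ ≤ x ⁻¹ᵁ (φ'.left ⁻¹ᵁ V) := fun y _ => by
        show (x ≫ φ'.left) y ∈ V
        rw [hx]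
        exact hb trivial
      have hle : (⊤ : (pullback φ'.left p₁).Opens) ≤ (π ≫ p) ⁻¹ᵁ V := fun y _ => hb trivial
      have hle' : (⊤ : (pullback φ'.left p₁).Opens) ≤ (x ≫ φ'.left) ⁻¹ᵁ V := hx''
      rw [← appLE_appLE_apply x pr.left (φ.left ⁻¹ᵁ U) (φ'.left ⁻¹ᵁ V) ⊤ hVX hx'' hx' f, ← hs',
        appLE_app_apply x φ'.left V ⊤ hx'' hle' s', appLE_congr_hom hx V ⊤ hle' hle s',
        Scheme.Hom.app_eq_appLE (f := π)]
      exact appLE_appLE_apply π p V ⊤ ⊤ hb le_top hle s'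
    have hxx : x₂ ≫ pr.left = x₁ ≫ pr.left := H.lift_fst _ _ _
    have hx' : (⊤ : (pullback φ'.left p₁).Opens) ≤ (x₁ ≫ pr.left) ⁻¹ᵁ (φ.left ⁻¹ᵁ U) := fun y _ => by
      refine hVX ?_
      show (x₁ ≫ φ'.left) y ∈ V
      rw [show x₁ ≫ φ'.left = π ≫ p₁ from pullback.condition]
      exact hb₁ trivial
    rw [e x₁ p₁ hb₁ pullback.condition hx', e x₂ p₂ hb₂ (H.lift_snd _ _ _) (hxx ▸ hx')]
    simp only [hxx]
  have hdesc := app_injective_of_flat (IsPullback.of_hasPullback φ'.left p₁) (fun O => (h.sections O).1) ⊤ key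
  obtain ⟨s, hs⟩ := exists_app_eq q (V.topIso.inv s') (by
    rw [appTop_topIso_inv V (pullback.fst q q) s' hb₁, appTop_topIso_inv V (pullback.snd q q) s' hb₂]
    exact hdesc)
  refine ⟨U.topIso.hom s, ?_⟩
  have hss : α.left.app U (U.topIso.hom s) = s' := by
    apply V.topIso.commRingCatIsoToRingEquiv.symm.injective
    show V.topIso.inv _ = V.topIso.inv s'
    rw [← hs]
    have h1 : q.appTop = U.topIso.hom ≫ α.left.app U ≫ V.topIso.inv := by
      rw [show q = α.left.resLE U V le_rfl from (Scheme.Hom.resLE_eq_morphismRestrict _).symm,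
        Scheme.Hom.appTop, Scheme.Hom.resLE_app_top, Scheme.Hom.app_eq_appLE]
    rw [h1]
    rfl
  have hinj : Function.Injective (pr.left.appLE (φ.left ⁻¹ᵁ U) (φ'.left ⁻¹ᵁ V) hVX) := by
    have e : φ'.left ⁻¹ᵁ V = pr.left ⁻¹ᵁ (φ.left ⁻¹ᵁ U) := by
      rw [hV, ← Scheme.Hom.comp_preimage, ← Scheme.Hom.comp_preimage]
      simp only [H.w]
    rw [Scheme.Hom.appLE]
    have : IsIso (homOfLE hVX) := by
      refine ⟨homOfLE e.ge, Subsingleton.elim _ _, Subsingleton.elim _ _⟩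
    exact (ConcreteCategory.bijective_of_isIso (X'.left.presheaf.map (homOfLE hVX).op)).1.comp
      (app_injective_of_fpqc pr.left _)
  apply hinj
  rw [hsq, hss, hs']

end Groth.Misc14.GeomQuotDescent
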