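import Mathlib
import Groth.Prelude.Def_W4c5modbuncurvesppStab

/-! Multigraph facts for `PhiStab`: parity of chains, trees, the excess function. -/

universe u

namespace Groth.Misc14.GraphTree

open Finset PhiStab

section basic

variable {V E : Type u} [Fintype V] [Fintype E] [DecidableEq V] [DecidableEq E] (ends : E → V × V)

/-- Edge-chain adjacency inside `T`. -/
def AdjIn (T : Finset E) (v w : V) : Prop := ∃ e ∈ T, ends e = (v, w) ∨ ends e = (w, v)

omit [Fintype V] [Fintype E] [DecidableEq V] [DecidableEq E] in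
theorem adj_spanEnds_iff (T : Finset E) (v w : V) : LabGraph.Adj (spanEnds ends T) v w ↔ AdjIn ends T v w :=
  ⟨fun ⟨⟨e, he⟩, h⟩ => ⟨e, he, h⟩, fun ⟨e, he, h⟩ => ⟨⟨e, he⟩, h⟩⟩

omit [Fintype V] [Fintype E] [DecidableEq V] [DecidableEq E] in
theorem reach_spanEnds_iff (T : Finset E) (v w : V) :
    Relation.ReflTransGen (LabGraph.Adj (spanEnds ends T)) v w ↔ Relation.ReflTransGen (AdjIn ends T) v w :=
  ⟨Relation.ReflTransGen.mono (fun a b => (adj_spanEnds_iff ends T a b).mp) v w,
    Relation.ReflTransGen.mono (fun a b => (adj_spanEnds_iff ends T a b).mpr) v w⟩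

omit [Fintype V] [DecidableEq V] [DecidableEq E] in
theorem adj_iff (v w : V) : LabGraph.Adj ends v w ↔ AdjIn ends univ v w :=
  ⟨fun ⟨e, h⟩ => ⟨e, mem_univ e, h⟩, fun ⟨e, _, h⟩ => ⟨e, h⟩⟩

omit [Fintype V] [Fintype E] [DecidableEq V] [DecidableEq E] in
theorem adjIn_symm {T : Finset E} {v w : V} (h : AdjIn ends T v w) : AdjIn ends T w v :=
  let ⟨e, he, h'⟩ := h; ⟨e, he, h'.symm⟩

omit [Fintype V] [Fintype E] [DecidableEq V] [DecidableEq E] in
theorem reach_symm {T : Finset E} {v w : V} (h : Relation.ReflTransGen (AdjIn ends T) v w) :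
    Relation.ReflTransGen (AdjIn ends T) w v := by
  induction h with
  | refl => exact .refl
  | tail _ hbc ih => exact Relation.ReflTransGen.head (adjIn_symm ends hbc) ih

omit [Fintype V] [Fintype E] [DecidableEq V] [DecidableEq E] in
theorem adjIn_of_mem {T : Finset E} {e : E} (he : e ∈ T) : AdjIn ends T (ends e).1 (ends e).2 :=
  ⟨e, he, Or.inl rfl⟩

/-- Number of edge-ends of one edge at `x`, mod 2. -/
def par (e : E) (x : V) : ZMod 2 :=
  (if (ends e).1 = x then 1 else 0) + (if (ends e).2 = x then 1 else 0)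

omit [Fintype V] [Fintype E] [DecidableEq E] in
theorem cast_endCount (C : Finset E) (x : V) : ((LabGraph.endCount ends C x : ℕ) : ZMod 2) = ∑ e ∈ C, par ends e x := by
  simp [LabGraph.endCount, par]

omit [Fintype V] [Fintype E] [DecidableEq E] in
theorem even_endCount_iff (C : Finset E) (x : V) :
    Even (LabGraph.endCount ends C x) ↔ ∑ e ∈ C, par ends e x = 0 := by
  rw [← cast_endCount, ZMod.natCast_eq_zero_iff_even]

omit [Fintype V] [Fintype E] in
theorem exists_odd_set {T : Finset E} {v w : V} (h : Relation.ReflTransGen (AdjIn ends T) v w) :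
    ∃ C ⊆ T, ∀ x, ∑ e ∈ C, par ends e x = (if v = x then 1 else 0) + (if w = x then 1 else 0) := by
  induction h with
  | refl => exact ⟨∅, empty_subset _, fun x => by rw [sum_empty, CharTwo.add_self_eq_zero]⟩
  | @tail b c _ hbc ih =>
    obtain ⟨C, hC, hx⟩ := ih
    obtain ⟨e, he, hee⟩ := hbc
    have hp : ∀ x, par ends e x = (if b = x then 1 else 0) + (if c = x then 1 else 0) := fun x => by
      rcases hee with h | h <;> simp [par, h, add_comm]
    have key : ∀ A B D : ZMod 2, (A + B) + (B + D) = A + D := by decide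
    by_cases heC : e ∈ C
    · refine ⟨C.erase e, (erase_subset _ _).trans hC, fun x => ?_⟩
      have := add_sum_erase C (fun e => par ends e x) heC
      rw [hx x, hp x] at this
      rw [← key _ (if b = x then 1 else 0) _, ← this]
      have k2 : ∀ A B D : ZMod 2, A = (B + D) + A + (B + D) := by decide
      exact k2 _ _ _
    · refine ⟨insert e C, insert_subset he hC, fun x => ?_⟩
      rw [sum_insert heC, hx x, hp x, add_comm, key]

omit [Fintype V] [Fintype E] in
theorem exists_circuit (C : Finset E) (hne : C.Nonempty) (hev : ∀ x, Even (LabGraph.endCount ends C x)) :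
    ∃ C' ⊆ C, LabGraph.IsCircuit ends C' := by
  induction C using Finset.strongInduction with
  | _ C ih =>
    by_cases h : ∀ C' : Finset E, C' ⊂ C → C'.Nonempty → ∃ v, ¬ Even (LabGraph.endCount ends C' v)
    · exact ⟨C, Subset.rfl, hne, hev, h⟩
    · push Not at h
      obtain ⟨C', hC', hne', hev'⟩ := h
      obtain ⟨C'', h1, h2⟩ := ih C' hC' hne' hev'
      exact ⟨C'', h1.trans hC'.subset, h2⟩

omit [Fintype V] in
/-- In a forest no edge is bypassed. -/
theorem not_reach_erase (hF : DualGr.IsForest ends) (e : E) :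
    ¬ Relation.ReflTransGen (AdjIn ends (univ.erase e)) (ends e).1 (ends e).2 := by
  intro h
  obtain ⟨C, hC, hx⟩ := exists_odd_set ends h
  have heC : e ∉ C := fun he => (mem_erase.mp (hC he)).1 rfl
  obtain ⟨C', _, hcirc⟩ := exists_circuit ends (insert e C) ⟨e, mem_insert_self _ _⟩ fun x => by
    rw [even_endCount_iff, sum_insert heC, hx x]
    exact CharTwo.add_self_eq_zero _
  exact hF C' hcirc

omit [Fintype E] in
/-- An edge of an even edge set is bypassed by the others. -/
theorem reach_erase_of_even {C : Finset E} (hev : ∀ x, Even (LabGraph.endCount ends C x)) {e : E} (he : e ∈ C) :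
    Relation.ReflTransGen (AdjIn ends (C.erase e)) (ends e).1 (ends e).2 := by
  classical
  set K : Finset V := univ.filter (fun x => Relation.ReflTransGen (AdjIn ends (C.erase e)) (ends e).1 x) with hK
  by_contra hno
  have h0 : ∑ x ∈ K, ∑ f ∈ C, par ends f x = 0 :=
    sum_eq_zero fun x _ => (even_endCount_iff ends C x).mp (hev x)
  rw [sum_comm] at h0
  have hval : ∀ f ∈ C, ∑ x ∈ K, par ends f x = if f = e then 1 else 0 := by
    intro f hf
    simp only [par, sum_add_distrib, sum_ite_eq]
    by_cases hfe : f = e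
    · subst hfe
      rw [if_pos rfl, if_pos (by simp only [hK, mem_filter, mem_univ, true_and]; exact Relation.ReflTransGen.refl),
        if_neg (by simpa [hK] using hno), add_zero]
    · rw [if_neg hfe]
      have hadj : AdjIn ends (C.erase e) (ends f).1 (ends f).2 := adjIn_of_mem ends (mem_erase.mpr ⟨hfe, hf⟩)
      have hiff : (ends f).1 ∈ K ↔ (ends f).2 ∈ K := by
        simp only [hK, mem_filter, mem_univ, true_and]
        exact ⟨fun h => h.tail hadj, fun h => h.tail (adjIn_symm ends hadj)⟩
      rw [if_congr hiff rfl rfl]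
      exact CharTwo.add_self_eq_zero _
  rw [sum_congr rfl hval, sum_ite_eq', if_pos he] at h0
  exact one_ne_zero h0

theorem mem_side (e : E) (v : V) :
    v ∈ side ends e ↔ Relation.ReflTransGen (AdjIn ends (univ.erase e)) (ends e).1 v := by
  simp [side, reach_spanEnds_iff]

theorem fst_mem_side (e : E) : (ends e).1 ∈ side ends e := (mem_side ends e _).mpr Relation.ReflTransGen.refl

theorem snd_notMem_side (hF : DualGr.IsForest ends) (e : E) : (ends e).2 ∉ side ends e :=
  fun h => not_reach_erase ends hF e ((mem_side ends e _).mp h)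

theorem side_iff (e : E) {f : E} (hf : f ≠ e) : (ends f).1 ∈ side ends e ↔ (ends f).2 ∈ side ends e := by
  have h : AdjIn ends (univ.erase e) (ends f).1 (ends f).2 := adjIn_of_mem ends (mem_erase.mpr ⟨hf, mem_univ f⟩)
  simp only [mem_side]
  exact ⟨fun h' => h'.tail h, fun h' => h'.tail (adjIn_symm ends h)⟩

/-- The divergence of an edge function. -/
def dvg {R : Type*} [CommRing R] (c : E → R) (v : V) : R :=
  ∑ e, ((if (ends e).1 = v then c e else 0) - (if (ends e).2 = v then c e else 0))

omit [Fintype V] [DecidableEq E] in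
theorem sum_dvg {R : Type*} [CommRing R] (c : E → R) (S : Finset V) :
    ∑ v ∈ S, dvg ends c v = ∑ e, ((if (ends e).1 ∈ S then c e else 0) - (if (ends e).2 ∈ S then c e else 0)) := by
  rw [show (fun v => dvg ends c v) = _ from rfl]
  simp only [dvg]
  rw [sum_comm]
  exact sum_congr rfl fun e _ => by rw [sum_sub_distrib, sum_ite_eq, sum_ite_eq]

omit [DecidableEq E] in
theorem sum_univ_dvg {R : Type*} [CommRing R] (c : E → R) : ∑ v, dvg ends c v = 0 := by
  rw [sum_dvg]; simp

theorem sum_side_dvg {R : Type*} [CommRing R] (hF : DualGr.IsForest ends) (c : E → R) (e : E) :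
    ∑ v ∈ side ends e, dvg ends c v = c e := by
  rw [sum_dvg, sum_eq_single e]
  · rw [if_pos (fst_mem_side ends e), if_neg (snd_notMem_side ends hF e), sub_zero]
  · intro f _ hf
    rw [if_congr (side_iff ends e hf) rfl rfl, sub_self]
  · simp

/-- A vertex function with prescribed sums over the sides of a tree. -/
theorem exists_side_sums {R : Type*} [CommRing R] (hT : DualGr.IsTree ends) (c : E → R) (c₀ : R) :
    ∃ φ : V → R, (∀ e, ∑ v ∈ side ends e, φ v = c e) ∧ ∑ v, φ v = c₀ := by
  obtain ⟨v0⟩ := hT.1.1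
  refine ⟨fun v => (if v = v0 then c₀ else 0) + dvg ends (fun e => c e - if v0 ∈ side ends e then c₀ else 0) v,
    fun e => ?_, ?_⟩
  · rw [sum_add_distrib, sum_side_dvg ends hT.2, sum_ite_eq']
    ring
  · rw [sum_add_distrib, sum_univ_dvg, sum_ite_eq', if_pos (mem_univ _), add_zero]

omit [DecidableEq E] in
theorem card_le_of_connected (h : LabGraph.Connected ends) : Fintype.card V ≤ Fintype.card E + 1 := by
  classical
  let G : SimpleGraph V := SimpleGraph.fromRel (fun v w => ∃ e, ends e = (v, w))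
  have hG : G.Connected := by
    haveI := h.1
    refine ⟨fun v w => ?_⟩
    induction h.2 v w with
    | refl => exact SimpleGraph.Reachable.refl _
    | @tail b c _ hbc ih =>
      refine ih.trans ?_
      by_cases hne : b = c
      · subst hne; exact SimpleGraph.Reachable.refl _
      · obtain ⟨e, he⟩ := hbc
        refine SimpleGraph.Adj.reachable ?_
        rw [SimpleGraph.fromRel_adj]
        exact ⟨hne, he.elim (fun h => Or.inl ⟨e, h⟩) (fun h => Or.inr ⟨e, h⟩)⟩
  have h1 := hG.card_vert_le_card_edgeSet_add_one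
  rw [Nat.card_eq_fintype_card] at h1
  have h2 : Nat.card G.edgeSet ≤ Fintype.card E := by
    have hsub : G.edgeSet ⊆ Set.range (fun e => s((ends e).1, (ends e).2)) := by
      intro x
      induction x using Sym2.ind with
      | h a b =>
        intro hx
        rw [SimpleGraph.mem_edgeSet, SimpleGraph.fromRel_adj] at hx
        obtain ⟨-, ⟨e, he⟩ | ⟨e, he⟩⟩ := hx
        · exact ⟨e, by simp [he]⟩
        · exact ⟨e, by simp [he, Sym2.eq_swap]⟩
    calc Nat.card G.edgeSet ≤ Nat.card (Set.range (fun e => s((ends e).1, (ends e).2))) :=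
          Nat.card_mono (Set.finite_range _) hsub
      _ ≤ Nat.card E := Finite.card_range_le _
      _ = Fintype.card E := Nat.card_eq_fintype_card
  omega

theorem side_sums_injective (hT : DualGr.IsTree ends) (φ ψ : V → ℝ)
    (h : ∀ e, ∑ v ∈ side ends e, φ v = ∑ v ∈ side ends e, ψ v) (h0 : ∑ v, φ v = ∑ v, ψ v) : φ = ψ := by
  let L : (V → ℝ) →ₗ[ℝ] (E → ℝ) × ℝ :=
    { toFun := fun f => (fun e => ∑ v ∈ side ends e, f v, ∑ v, f v)
      map_add' := fun f g => by ext <;> simp [sum_add_distrib]
      map_smul' := fun a f => by ext <;> simp [mul_sum] }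
  have hsurj : Function.Surjective L := fun y => by
    obtain ⟨f, h1, h2⟩ := exists_side_sums ends hT y.1 y.2
    exact ⟨f, Prod.ext (funext h1) h2⟩
  have hr : LinearMap.range L = ⊤ := LinearMap.range_eq_top.mpr hsurj
  have hn := L.finrank_range_add_finrank_ker
  rw [hr, finrank_top, Module.finrank_prod, Module.finrank_pi, Module.finrank_self, Module.finrank_pi] at hn
  have hle := card_le_of_connected ends hT.1
  have hker : LinearMap.ker L = ⊥ := Submodule.finrank_eq_zero.mp (by omega)
  exact LinearMap.ker_eq_bot.mp hker (Prod.ext (funext h) h0)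

/-- Indicator of an edge crossing `S`. -/
def cross (S : Finset V) (e : E) : ℕ :=
  if ((ends e).1 ∈ S ∧ (ends e).2 ∉ S) ∨ ((ends e).1 ∉ S ∧ (ends e).2 ∈ S) then 1 else 0

omit [DecidableEq E] in
theorem cut_eq_sum (S : Finset V) : LabGraph.cut ends S = ∑ e, cross ends S e := by
  rw [LabGraph.cut, card_filter]; rfl

omit [Fintype E] [DecidableEq E] in
theorem cross_compl (S : Finset V) (e : E) : cross ends Sᶜ e = cross ends S e := by
  unfold cross
  refine if_congr ?_ rfl rfl
  simp only [mem_compl, not_not]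
  tauto

omit [Fintype V] [Fintype E] [DecidableEq E] in
theorem cross_union {A B : Finset V} (hAB : Disjoint A B) (e : E)
    (h1 : ¬ ((ends e).1 ∈ A ∧ (ends e).2 ∈ B)) (h2 : ¬ ((ends e).1 ∈ B ∧ (ends e).2 ∈ A)) :
    cross ends (A ∪ B) e = cross ends A e + cross ends B e := by
  have d1 : ¬ ((ends e).1 ∈ A ∧ (ends e).1 ∈ B) := fun h => disjoint_left.mp hAB h.1 h.2
  have d2 : ¬ ((ends e).2 ∈ A ∧ (ends e).2 ∈ B) := fun h => disjoint_left.mp hAB h.1 h.2
  simp only [cross, mem_union]
  by_cases a1 : (ends e).1 ∈ A <;> by_cases a2 : (ends e).2 ∈ A <;> by_cases b1 : (ends e).1 ∈ B <;>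
    by_cases b2 : (ends e).2 ∈ B <;> simp [a1, a2, b1, b2] <;> tauto

/-- The excess per vertex. -/
noncomputable def excess (φ : V → ℝ) (m : V → ℤ) (N : Finset E) (v : V) : ℝ :=
  (m v : ℝ) - φ v + (LabGraph.endCount ends N v : ℝ) / 2

/-- `degOn S - φ S + cut S / 2`. -/
noncomputable def slack (φ : V → ℝ) (m : V → ℤ) (N : Finset E) (S : Finset V) : ℝ :=
  (degOn ends m N S : ℝ) - (∑ v ∈ S, φ v) + (LabGraph.cut ends S : ℝ) / 2

theorem slack_eq (φ : V → ℝ) (m : V → ℤ) (N : Finset E) (S : Finset V) :
    slack ends φ m N S = ∑ v ∈ S, excess ends φ m N v + (∑ e ∈ Nᶜ, (cross ends S e : ℝ)) / 2 := by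
  have h1 : ∑ v ∈ S, (LabGraph.endCount ends N v : ℝ) =
      ∑ e ∈ N, ((if (ends e).1 ∈ S then 1 else 0) + (if (ends e).2 ∈ S then (1 : ℝ) else 0)) := by
    simp only [LabGraph.endCount, Nat.cast_sum, Nat.cast_add, Nat.cast_ite, Nat.cast_one, Nat.cast_zero]
    rw [sum_comm]
    exact sum_congr rfl fun e _ => by rw [sum_add_distrib, sum_ite_eq, sum_ite_eq]
  have h2 : ((N ∩ inner ends S).card : ℝ) = ∑ e ∈ N, (if (ends e).1 ∈ S ∧ (ends e).2 ∈ S then (1 : ℝ) else 0) := by
    rw [PhiStab.inner, ← filter_mem_eq_inter, card_filter]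
    push_cast
    exact sum_congr rfl fun e _ => if_congr (by simp) rfl rfl
  have h3 : (LabGraph.cut ends S : ℝ) = ∑ e ∈ N, (cross ends S e : ℝ) + ∑ e ∈ Nᶜ, (cross ends S e : ℝ) := by
    rw [cut_eq_sum, Nat.cast_sum, sum_add_sum_compl]
  simp only [slack, degOn, excess, sum_add_distrib, sum_sub_distrib, ← sum_div, h1]
  push_cast
  rw [h2, h3, ← sub_eq_zero]
  have key : ∀ e ∈ N, (if (ends e).1 ∈ S ∧ (ends e).2 ∈ S then (1 : ℝ) else 0) + (cross ends S e : ℝ) / 2 =
      ((if (ends e).1 ∈ S then 1 else 0) + (if (ends e).2 ∈ S then (1 : ℝ) else 0)) / 2 := by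
    intro e _
    by_cases a : (ends e).1 ∈ S <;> by_cases b : (ends e).2 ∈ S <;> simp [cross, a, b]
  have := sum_congr rfl key
  rw [sum_add_distrib, ← sum_div, ← sum_div, sum_add_distrib] at this
  linarith

omit [Fintype E] [DecidableEq E] in
theorem sum_endCount (N : Finset E) : ∑ v, LabGraph.endCount ends N v = 2 * N.card := by
  unfold LabGraph.endCount
  rw [sum_comm]
  simp [sum_add_distrib, mul_comm 2]
  try ring

omit [DecidableEq E] in
theorem sum_excess (φ : V → ℝ) (m : V → ℤ) (N : Finset E) :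
    ∑ v, excess ends φ m N v = (totDeg m N : ℝ) - ∑ v, φ v := by
  simp only [excess, sum_add_distrib, sum_sub_distrib, ← sum_div, totDeg]
  rw [← Nat.cast_sum, sum_endCount]
  push_cast; ring

theorem isSemistable_iff (φ : V → ℝ) (m : V → ℤ) (N : Finset E) :
    IsSemistable ends φ m N ↔ ∀ S : Finset V, S.Nonempty → S ≠ univ → 0 ≤ slack ends φ m N S := by
  unfold IsSemistable slack
  exact forall_congr' fun S => forall_congr' fun _ => forall_congr' fun _ => ⟨fun h => by linarith, fun h => by linarith⟩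

theorem isStable_iff (φ : V → ℝ) (m : V → ℤ) (N : Finset E) :
    IsStable ends φ m N ↔ ∀ S : Finset V, S.Nonempty → S ≠ univ → 0 < slack ends φ m N S := by
  unfold IsStable slack
  exact forall_congr' fun S => forall_congr' fun _ => forall_congr' fun _ => ⟨fun h => by linarith, fun h => by linarith⟩

end basic

end Groth.Misc14.GraphTree
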