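import Mathlib
import Groth.Agent.Misc14.GraphTree

/-! Elementary sets and spanning trees. -/

universe u

namespace Groth.Misc14.GraphTree

open Finset PhiStab

variable {V E : Type u} [Fintype V] [Fintype E] [DecidableEq V] [DecidableEq E] (ends : E → V × V)

/-- The induced subgraph on `S` has one piece (possibly none). -/
def Piece (S : Finset V) : Prop :=
  ∀ v ∈ S, ∀ w ∈ S, Relation.ReflTransGen (AdjIn ends (PhiStab.inner ends S)) v w

theorem mem_inner {S : Finset V} {e : E} :
    e ∈ PhiStab.inner ends S ↔ (ends e).1 ∈ S ∧ (ends e).2 ∈ S := by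
  simp [PhiStab.inner]

theorem reach_inner_mem {S : Finset V} {v w : V} (hv : v ∈ S)
    (h : Relation.ReflTransGen (AdjIn ends (PhiStab.inner ends S)) v w) : w ∈ S := by
  induction h with
  | refl => exact hv
  | tail _ hbc _ =>
    obtain ⟨e, he, h | h⟩ := hbc
    · have := ((mem_inner ends).mp he).2; rwa [h] at this
    · have := ((mem_inner ends).mp he).1; rwa [h] at this

theorem connected_ind_iff (S : Finset V) :
    LabGraph.Connected (indEnds ends S) ↔ S.Nonempty ∧ Piece ends S := by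
  have hstep : ∀ a b : {v : V // v ∈ S},
      LabGraph.Adj (indEnds ends S) a b ↔ AdjIn ends (PhiStab.inner ends S) a.1 b.1 := by
    intro a b
    constructor
    · rintro ⟨⟨e, he⟩, h⟩
      refine ⟨e, he, h.imp (fun h => ?_) (fun h => ?_)⟩ <;>
        exact Prod.ext (congrArg (fun p => p.1.1) h) (congrArg (fun p => p.2.1) h)
    · rintro ⟨e, he, h⟩
      refine ⟨⟨e, he⟩, h.imp (fun h => ?_) (fun h => ?_)⟩ <;>
        exact Prod.ext (Subtype.ext (congrArg Prod.fst h)) (Subtype.ext (congrArg Prod.snd h))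
  constructor
  · rintro ⟨⟨v⟩, h⟩
    exact ⟨⟨v.1, v.2⟩, fun a ha b hb =>
      (h ⟨a, ha⟩ ⟨b, hb⟩).lift Subtype.val (fun x y hxy => (hstep x y).mp hxy)⟩
  · rintro ⟨⟨v, hv⟩, h⟩
    refine ⟨⟨⟨v, hv⟩⟩, fun a b => ?_⟩
    suffices H : ∀ w, Relation.ReflTransGen (AdjIn ends (PhiStab.inner ends S)) a.1 w → ∀ hw : w ∈ S,
        Relation.ReflTransGen (LabGraph.Adj (indEnds ends S)) a ⟨w, hw⟩ from H b.1 (h a.1 a.2 b.1 b.2) b.2
    intro w hw
    induction hw with
    | refl => intro _; exact .refl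
    | @tail x y hx hxy ih =>
      intro hy
      exact (ih (reach_inner_mem ends a.2 hx)).tail ((hstep _ _).mpr hxy)

theorem exists_split {S : Finset V} (h : ¬ Piece ends S) :
    ∃ A B : Finset V, A.Nonempty ∧ B.Nonempty ∧ Disjoint A B ∧ A ∪ B = S ∧
      ∀ e, ¬ ((ends e).1 ∈ A ∧ (ends e).2 ∈ B) ∧ ¬ ((ends e).1 ∈ B ∧ (ends e).2 ∈ A) := by
  classical
  simp only [Piece, not_forall] at h
  obtain ⟨v, hv, w, hw, hvw⟩ := h
  set A := S.filter (fun x => Relation.ReflTransGen (AdjIn ends (PhiStab.inner ends S)) v x) with hA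
  refine ⟨A, S \ A, ⟨v, mem_filter.mpr ⟨hv, .refl⟩⟩,
    ⟨w, mem_sdiff.mpr ⟨hw, fun h => hvw (mem_filter.mp h).2⟩⟩, disjoint_sdiff,
    union_sdiff_of_subset (filter_subset _ _), fun e => ?_⟩
  constructor <;> rintro ⟨h1, h2⟩
  · simp only [hA, mem_sdiff, mem_filter, not_and] at h1 h2
    exact h2.2 h2.1 (h1.2.tail (adjIn_of_mem ends ((mem_inner ends).mpr ⟨h1.1, h2.1⟩)))
  · simp only [hA, mem_sdiff, mem_filter, not_and] at h1 h2
    exact h1.2 h1.1 (h2.2.tail (adjIn_symm ends (adjIn_of_mem ends ((mem_inner ends).mpr ⟨h1.1, h2.1⟩))))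

theorem slack_union (φ : V → ℝ) (m : V → ℤ) (N : Finset E) {A B : Finset V} (hAB : Disjoint A B)
    (hno : ∀ e, ¬ ((ends e).1 ∈ A ∧ (ends e).2 ∈ B) ∧ ¬ ((ends e).1 ∈ B ∧ (ends e).2 ∈ A)) :
    slack ends φ m N (A ∪ B) = slack ends φ m N A + slack ends φ m N B := by
  rw [slack_eq, slack_eq, slack_eq, sum_union hAB]
  simp only [fun e => cross_union ends hAB e (hno e).1 (hno e).2, Nat.cast_add, sum_add_distrib]
  ring

theorem slack_compl_split (φ : V → ℝ) (m : V → ℤ) (N : Finset E) (hdeg : ∑ v, φ v = (totDeg m N : ℝ))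
    {S A B : Finset V} (hAB : Disjoint A B) (hS : A ∪ B = Sᶜ)
    (hno : ∀ e, ¬ ((ends e).1 ∈ A ∧ (ends e).2 ∈ B) ∧ ¬ ((ends e).1 ∈ B ∧ (ends e).2 ∈ A)) :
    slack ends φ m N S = slack ends φ m N Aᶜ + slack ends φ m N Bᶜ := by
  simp only [slack_eq]
  have h0 : ∑ v, excess ends φ m N v = 0 := by rw [sum_excess, hdeg, sub_self]
  have hA := sum_add_sum_compl A (excess ends φ m N)
  have hB := sum_add_sum_compl B (excess ends φ m N)
  have hSS := sum_add_sum_compl S (excess ends φ m N)
  rw [← hS, sum_union hAB] at hSS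
  have hc : ∀ e, (cross ends S e : ℝ) = (cross ends Aᶜ e : ℝ) + (cross ends Bᶜ e : ℝ) := fun e => by
    rw [cross_compl, cross_compl, ← cross_compl ends S, ← hS, cross_union ends hAB e (hno e).1 (hno e).2,
      Nat.cast_add]
  simp only [hc, sum_add_distrib]
  linarith

theorem piece_insert_part (hconn : LabGraph.Connected ends) {S A B : Finset V} (hSne : S.Nonempty)
    (hP : Piece ends S) (hS : A ∪ B = Sᶜ)
    (hno : ∀ e, ¬ ((ends e).1 ∈ A ∧ (ends e).2 ∈ B) ∧ ¬ ((ends e).1 ∈ B ∧ (ends e).2 ∈ A)) :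
    Piece ends (S ∪ B) := by
  obtain ⟨s0, hs0⟩ := hSne
  have hmono : ∀ {a b : V}, Relation.ReflTransGen (AdjIn ends (PhiStab.inner ends S)) a b →
      Relation.ReflTransGen (AdjIn ends (PhiStab.inner ends (S ∪ B))) a b := fun {a b} h =>
    Relation.ReflTransGen.mono (fun x y ⟨e, he, h⟩ =>
      ⟨e, (mem_inner ends).mpr ⟨mem_union_left _ ((mem_inner ends).mp he).1, mem_union_left _ ((mem_inner ends).mp he).2⟩, h⟩) a b h
  have hreach : ∀ v ∈ S ∪ B, Relation.ReflTransGen (AdjIn ends (PhiStab.inner ends (S ∪ B))) v s0 := by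
    intro v
    induction hconn.2 v s0 using Relation.ReflTransGen.head_induction_on with
    | refl => intro _; exact .refl
    | @head a c hac _ ih =>
      intro ha
      rcases mem_union.mp ha with haS | haB
      · exact hmono (hP a haS s0 hs0)
      · obtain ⟨e, he⟩ := hac
        have hc : c ∈ S ∪ B := by
          by_cases hcS : c ∈ S
          · exact mem_union_left _ hcS
          · have : c ∈ A ∪ B := by rw [hS]; exact mem_compl.mpr hcS
            rcases mem_union.mp this with hcA | hcB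
            · rcases he with he | he
              · exact absurd ⟨by rw [he]; exact haB, by rw [he]; exact hcA⟩ (hno e).2
              · exact absurd ⟨by rw [he]; exact hcA, by rw [he]; exact haB⟩ (hno e).1
            · exact mem_union_right _ hcB
        refine Relation.ReflTransGen.head ⟨e, (mem_inner ends).mpr ?_, he⟩ (ih hc)
        rcases he with he | he <;> rw [he] <;> exact ⟨by assumption, by assumption⟩
  intro v hv w hw
  exact (hreach v hv).trans (reach_symm ends (hreach w hw))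

theorem slack_of_elementary (hconn : LabGraph.Connected ends) (φ : V → ℝ) (m : V → ℤ) (N : Finset E)
    (hdeg : ∑ v, φ v = (totDeg m N : ℝ)) (P : ℝ → Prop) (hP : ∀ a b, P a → P b → P (a + b))
    (h : ∀ S, IsElementary ends S → P (slack ends φ m N S)) :
    ∀ S : Finset V, S.Nonempty → S ≠ univ → P (slack ends φ m N S) := by
  have hco : ∀ d, ∀ S : Finset V, Sᶜ.card = d → S.Nonempty → S ≠ univ → Piece ends S →
      P (slack ends φ m N S) := by
    intro d
    induction d using Nat.strong_induction_on with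
    | _ d ih =>
      intro S hd hne hnu hp
      by_cases hc : Piece ends Sᶜ
      · refine h S ⟨(connected_ind_iff ends S).mpr ⟨hne, hp⟩, (connected_ind_iff ends Sᶜ).mpr ⟨?_, hc⟩⟩
        rwa [nonempty_iff_ne_empty, Ne, compl_eq_empty_iff]
      · obtain ⟨A, B, hA, hB, hAB, hu, hno⟩ := exists_split ends hc
        have hAc : Aᶜ = S ∪ B := by
          ext x
          have h1 : x ∈ A ∪ B ↔ x ∈ Sᶜ := by rw [hu]
          have h2 : x ∈ A → x ∉ B := fun h => disjoint_left.mp hAB h
          simp only [mem_union, mem_compl] at h1 ⊢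
          tauto
        have hBc : Bᶜ = S ∪ A := by
          ext x
          have h1 : x ∈ A ∪ B ↔ x ∈ Sᶜ := by rw [hu]
          have h2 : x ∈ A → x ∉ B := fun h => disjoint_left.mp hAB h
          simp only [mem_union, mem_compl] at h1 ⊢
          tauto
        have hcard : A.card + B.card = d := by rw [← card_union_of_disjoint hAB, hu, hd]
        have hA' := hA.card_pos
        have hB' := hB.card_pos
        rw [slack_compl_split ends φ m N hdeg hAB hu hno]
        refine hP _ _ (ih A.card (by omega) Aᶜ (by rw [compl_compl]) ?_ ?_ ?_)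
          (ih B.card (by omega) Bᶜ (by rw [compl_compl]) ?_ ?_ ?_)
        · rw [hAc]; exact hne.mono subset_union_left
        · rw [Ne, compl_eq_univ_iff]; exact hA.ne_empty
        · rw [hAc]; exact piece_insert_part ends hconn hne hp hu hno
        · rw [hBc]; exact hne.mono subset_union_left
        · rw [Ne, compl_eq_univ_iff]; exact hB.ne_empty
        · rw [hBc]
          exact piece_insert_part ends hconn hne hp (by rw [union_comm, hu])
            (fun e => ⟨(hno e).2, (hno e).1⟩)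
  intro S
  induction S using Finset.strongInduction with
  | _ S ih =>
    intro hne hnu
    by_cases hp : Piece ends S
    · exact hco _ S rfl hne hnu hp
    · obtain ⟨A, B, hA, hB, hAB, hu, hno⟩ := exists_split ends hp
      subst hu
      rw [slack_union ends φ m N hAB hno]
      have hAs : A ⊂ A ∪ B := Finset.ssubset_iff_subset_ne.mpr ⟨subset_union_left, fun e => by
        obtain ⟨x, hx⟩ := hB
        exact disjoint_left.mp hAB (by rw [e]; exact mem_union_right _ hx) hx⟩
      have hBs : B ⊂ A ∪ B := Finset.ssubset_iff_subset_ne.mpr ⟨subset_union_right, fun e => by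
        obtain ⟨x, hx⟩ := hA
        exact disjoint_left.mp hAB hx (by rw [e]; exact mem_union_left _ hx)⟩
      exact hP _ _ (ih A hAs hA (fun e => hnu (eq_univ_of_forall fun x => mem_union_left _ (e ▸ mem_univ x))))
        (ih B hBs hB (fun e => hnu (eq_univ_of_forall fun x => mem_union_right _ (e ▸ mem_univ x))))

/-- A minimal spanning connected edge set. -/
theorem exists_spanning_tree (T₀ : Finset E) (hne : Nonempty V)
    (h : ∀ v w, Relation.ReflTransGen (AdjIn ends T₀) v w) :
    ∃ T ⊆ T₀, DualGr.IsTree (spanEnds ends T) := by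
  classical
  set s := T₀.powerset.filter (fun T => ∀ v w, Relation.ReflTransGen (AdjIn ends T) v w) with hs
  obtain ⟨T, hT, hmin⟩ := exists_min_image s card ⟨T₀, mem_filter.mpr ⟨mem_powerset_self _, h⟩⟩
  obtain ⟨hsub, hT⟩ := mem_filter.mp hT
  rw [mem_powerset] at hsub
  refine ⟨T, hsub, ⟨hne, fun v w => (reach_spanEnds_iff ends T v w).mpr (hT v w)⟩, fun C hC => ?_⟩
  obtain ⟨⟨f, hf⟩, hev, -⟩ := hC
  have hr := reach_erase_of_even (spanEnds ends T) hev hf
  have hr' : Relation.ReflTransGen (AdjIn ends (T.erase f.1)) (ends f.1).1 (ends f.1).2 := by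
    refine Relation.ReflTransGen.mono ?_ _ _ hr
    rintro a b ⟨g, hg, hgab⟩
    exact ⟨g.1, mem_erase.mpr ⟨fun e => (mem_erase.mp hg).1 (Subtype.ext e), g.2⟩, hgab⟩
  have hall : ∀ v w, Relation.ReflTransGen (AdjIn ends (T.erase f.1)) v w := by
    intro v w
    induction hT v w with
    | refl => exact .refl
    | @tail a b _ hab ih =>
      obtain ⟨g, hg, hgab⟩ := hab
      by_cases hgf : g = f.1
      · subst hgf
        rcases hgab with h | h <;> rw [h] at hr'
        · exact ih.trans hr'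
        · exact ih.trans (reach_symm ends hr')
      · exact ih.tail ⟨g, mem_erase.mpr ⟨hgf, hg⟩, hgab⟩
  have := hmin (T.erase f.1) (mem_filter.mpr ⟨mem_powerset.mpr ((erase_subset _ _).trans hsub), hall⟩)
  have h2 := card_erase_lt_of_mem f.2
  omega

/-- Existence and uniqueness of the balanced multidegree off a spanning tree, in slack form. -/
theorem semistable_of_small {T : Finset E} (hT : DualGr.IsTree (spanEnds ends T)) (φ : V → ℝ) (m : V → ℤ)
    (h0 : ∑ v, φ v = (totDeg m Tᶜ : ℝ))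
    (hsmall : ∀ e : {e : E // e ∈ T}, |∑ v ∈ side (spanEnds ends T) e, excess ends φ m Tᶜ v| ≤ 1 / 2) :
    IsSemistable ends φ m Tᶜ := by
  rw [isSemistable_iff]
  intro S _ _
  set c : {e : E // e ∈ T} → ℝ := fun e => ∑ v ∈ side (spanEnds ends T) e, excess ends φ m Tᶜ v with hc
  have hψ : excess ends φ m Tᶜ = dvg (spanEnds ends T) c :=
    side_sums_injective (spanEnds ends T) hT _ _ (fun e => by rw [sum_side_dvg _ hT.2])
      (by rw [sum_univ_dvg, sum_excess, h0, sub_self])
  rw [slack_eq, hψ, sum_dvg, compl_compl, ← sum_coe_sort T (fun e => (cross ends S e : ℝ)), sum_div, ← sum_add_distrib]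
  refine sum_nonneg fun e _ => ?_
  have h := abs_le.mp (hsmall e)
  simp only [spanEnds, cross]
  by_cases a : (ends e.1).1 ∈ S <;> by_cases b : (ends e.1).2 ∈ S <;> simp [a, b, hc] <;>
    linarith [h.1, h.2]

theorem side_proper {T : Finset E} (hT : DualGr.IsTree (spanEnds ends T)) (e : {e : E // e ∈ T}) :
    (side (spanEnds ends T) e).Nonempty ∧ side (spanEnds ends T) e ≠ univ ∧
      ∀ f ∈ T, cross ends (side (spanEnds ends T) e) f = if f = e.1 then 1 else 0 := by
  refine ⟨⟨_, fst_mem_side _ e⟩, fun h => snd_notMem_side _ hT.2 e (by rw [h]; exact mem_univ _), fun f hf => ?_⟩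
  by_cases hfe : f = e.1
  · subst hfe
    rw [if_pos rfl, cross, if_pos (Or.inl ⟨fst_mem_side (spanEnds ends T) e, snd_notMem_side _ hT.2 e⟩)]
  · rw [if_neg hfe, cross, if_neg]
    have := side_iff (spanEnds ends T) e (f := ⟨f, hf⟩) (fun h => hfe (congrArg Subtype.val h))
    simp only [spanEnds] at this ⊢
    tauto

theorem small_of_stable {T : Finset E} (hT : DualGr.IsTree (spanEnds ends T)) (φ : V → ℝ) (m : V → ℤ)
    (h0 : ∑ v, φ v = (totDeg m Tᶜ : ℝ)) (hst : IsStable ends φ m Tᶜ) (e : {e : E // e ∈ T}) :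
    |∑ v ∈ side (spanEnds ends T) e, excess ends φ m Tᶜ v| < 1 / 2 := by
  obtain ⟨hne, hnu, hcr⟩ := side_proper ends hT e
  set S := side (spanEnds ends T) e with hS
  rw [isStable_iff] at hst
  have h1 := hst S hne hnu
  have h2 := hst Sᶜ (by rwa [nonempty_iff_ne_empty, Ne, compl_eq_empty_iff])
    (by rw [Ne, compl_eq_univ_iff]; exact hne.ne_empty)
  have hsum : ∑ f ∈ (Tᶜ)ᶜ, (cross ends S f : ℝ) = 1 := by
    rw [compl_compl, sum_congr rfl (fun f hf => by rw [hcr f hf]), sum_eq_single e.1]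
    · simp
    · intro f _ hf; simp [hf]
    · exact fun h => absurd e.2 h
  rw [slack_eq, hsum] at h1
  simp only [slack_eq, cross_compl, hsum] at h2
  have hc := sum_add_sum_compl S (excess ends φ m Tᶜ)
  rw [sum_excess, h0, sub_self] at hc
  rw [abs_lt]; constructor <;> linarith

theorem exists_semistable {T : Finset E} (hT : DualGr.IsTree (spanEnds ends T)) (φ : V → ℝ) (b : ℤ)
    (hφ : ∑ v, φ v = (b : ℝ)) :
    ∃ m : V → ℤ, totDeg m Tᶜ = b ∧ IsSemistable ends φ m Tᶜ := by
  set ψ : V → ℝ := fun v => (LabGraph.endCount ends Tᶜ v : ℝ) / 2 - φ v with hψ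
  obtain ⟨m, hm, hm0⟩ := exists_side_sums (spanEnds ends T) (R := ℤ) hT
    (fun e => ⌈-1 / 2 - ∑ v ∈ side (spanEnds ends T) e, ψ v⌉) (b - (Tᶜ).card)
  have htot : totDeg m Tᶜ = b := by rw [totDeg, hm0]; ring
  refine ⟨m, htot, semistable_of_small ends hT φ m (by rw [htot]; exact hφ) fun e => ?_⟩
  have : ∑ v ∈ side (spanEnds ends T) e, excess ends φ m Tᶜ v =
      ((⌈-1 / 2 - ∑ v ∈ side (spanEnds ends T) e, ψ v⌉ : ℤ) : ℝ) + ∑ v ∈ side (spanEnds ends T) e, ψ v := by
    rw [← hm e]; push_cast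
    rw [← sum_add_distrib]
    exact sum_congr rfl fun v _ => by simp only [excess, hψ]; ring
  rw [this, abs_le]
  have h1 := Int.le_ceil (-1 / 2 - ∑ v ∈ side (spanEnds ends T) e, ψ v)
  have h2 := Int.ceil_lt_add_one (-1 / 2 - ∑ v ∈ side (spanEnds ends T) e, ψ v)
  constructor <;> linarith

theorem stable_unique {T : Finset E} (hT : DualGr.IsTree (spanEnds ends T)) (φ : V → ℝ)
    {m m' : V → ℤ} (h : ∑ v, φ v = (totDeg m Tᶜ : ℝ)) (h' : ∑ v, φ v = (totDeg m' Tᶜ : ℝ))
    (hs : IsStable ends φ m Tᶜ) (hs' : IsStable ends φ m' Tᶜ) : m = m' := by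
  have hside : ∀ e, ∑ v ∈ side (spanEnds ends T) e, m v = ∑ v ∈ side (spanEnds ends T) e, m' v := by
    intro e
    have a := abs_lt.mp (small_of_stable ends hT φ m h hs e)
    have a' := abs_lt.mp (small_of_stable ends hT φ m' h' hs' e)
    simp only [excess, sum_add_distrib, sum_sub_distrib] at a a'
    set x := ∑ v ∈ side (spanEnds ends T) e, m v with hx
    set x' := ∑ v ∈ side (spanEnds ends T) e, m' v with hx'
    have e1 : ∑ v ∈ side (spanEnds ends T) e, (m v : ℝ) = (x : ℝ) := by rw [hx, Int.cast_sum]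
    have e2 : ∑ v ∈ side (spanEnds ends T) e, (m' v : ℝ) = (x' : ℝ) := by rw [hx', Int.cast_sum]
    rw [e1] at a; rw [e2] at a'
    have u1 : ((x - x' : ℤ) : ℝ) < ((1 : ℤ) : ℝ) := by push_cast; linarith [a.2, a'.1]
    have u2 : ((-1 : ℤ) : ℝ) < ((x - x' : ℤ) : ℝ) := by push_cast; linarith [a.1, a'.2]
    have := Int.cast_lt.mp u1; have := Int.cast_lt.mp u2
    omega
  have htot : (∑ v, (m v : ℝ)) = ∑ v, (m' v : ℝ) := by
    rw [h] at h'
    simp only [totDeg] at h'
    push_cast at h'
    linarith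
  have := side_sums_injective (spanEnds ends T) hT (fun v => (m v : ℝ)) (fun v => (m' v : ℝ))
    (fun e => by exact_mod_cast congrArg (fun z : ℤ => (z : ℝ)) (hside e) ) htot
  funext v
  exact_mod_cast congrFun this v

end Groth.Misc14.GraphTree
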