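import Mathlib
import Groth.Prelude.Def_W4c5stacksedinertiaGpd

/-! Basic facts on isomorphism classes of finite groups in `W4c5stacksedinertia`. -/

universe u v

namespace Groth.Misc14.GrpClass

open W4c5stacksedinertia

noncomputable def finGrpEquiv (G : Type u) [Group G] [Finite G] : (FinGrp.of G).carrier ≃* G :=
  letI e := (Nat.equivFinOfCardPos (α := G) Nat.card_pos.ne').symm
  { toEquiv := e
    map_mul' := fun x y => by
      show e (e.symm (e x * e y)) = e x * e y
      exact e.apply_symm_apply _ }

theorem exists_repEquiv (G : Type u) [Group G] [Finite G] : Nonempty ((Idx.of G).rep ≃* G) := by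
  obtain ⟨e⟩ := Quotient.exact (s := FinGrp.setoid)
    (Quotient.out_eq (s := FinGrp.setoid) (Idx.of G))
  exact ⟨e.trans (finGrpEquiv G)⟩

noncomputable def repEquiv (G : Type u) [Group G] [Finite G] : (Idx.of G).rep ≃* G :=
  (exists_repEquiv G).some

theorem of_congr {G : Type u} {H : Type v} [Group G] [Finite G] [Group H] [Finite H] (e : G ≃* H) :
    Idx.of G = Idx.of H :=
  Quotient.sound ⟨(finGrpEquiv G).trans (e.trans (finGrpEquiv H).symm)⟩

theorem of_rep (i : Idx) : Idx.of i.rep = i := by
  conv_rhs => rw [← Quotient.out_eq (s := FinGrp.setoid) i]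
  exact Quotient.sound ⟨finGrpEquiv i.rep⟩

theorem card_of (G : Type u) [Group G] [Finite G] : (Idx.of G).card = Nat.card G :=
  Nat.card_congr (repEquiv G).toEquiv

theorem centerCard_of (G : Type u) [Group G] [Finite G] :
    (Idx.of G).centerCard = Nat.card (Subgroup.center G) :=
  Nat.card_congr (Subgroup.centerCongr (repEquiv G)).toEquiv

theorem inertiaR_single (r : ℕ) (i : Idx) (c : ℚ) :
    inertiaR r (Finsupp.single i c) = c • inertiaROf r i.rep :=
  Finsupp.linearCombination_single ℚ c i

theorem inertiaROf_mem_Kle (r : ℕ) (G : Type) [Group G] [Finite G] {n : ℕ} (hn : Nat.card G ≤ n) :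
    inertiaROf r G ∈ Kle n := by
  rw [inertiaROf]
  refine finsum_induction (· ∈ Kle n) (Submodule.zero_mem _) (fun _ _ => Submodule.add_mem _) fun O => ?_
  refine Finsupp.single_mem_supported ℚ _ ?_
  show (Idx.of _).card ≤ n
  rw [card_of]
  exact le_trans (Finite.card_subtype_le _) hn

theorem inertiaR_mem_Kle (r n : ℕ) {v : K} (hv : v ∈ Kle n) : inertiaR r v ∈ Kle n := by
  rw [← Finsupp.sum_single v, map_finsuppSum]
  refine Submodule.sum_mem _ fun i hi => ?_
  beta_reduce
  rw [inertiaR_single]
  exact Submodule.smul_mem _ _ (inertiaROf_mem_Kle r i.rep ((Finsupp.mem_supported _ _).mp hv hi))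

end Groth.Misc14.GrpClass
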