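import Mathlib
import Groth.Agent.Misc14.GrpClass

/-! The inertia operators: orbit-stabiliser form, triangularity, `inertia ∘ inertiaR r` identity,
and the resulting eigenspace decomposition. -/

universe u

namespace Groth.Misc14.Inertia

open W4c5stacksedinertia Groth.Misc14.GrpClass

/-- `|C(S)| • [C(S)]`. -/
noncomputable def wcl {G : Type u} [Group G] [Finite G] (S : Set G) : K :=
  (Nat.card (Subgroup.centralizer S) : ℚ) • cl (Subgroup.centralizer S)

theorem wcl_equiv {G : Type u} {H : Type*} [Group G] [Finite G] [Group H] [Finite H] (S : Set G)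
    (T : Set H) (e : Subgroup.centralizer S ≃* Subgroup.centralizer T) : wcl S = wcl T := by
  rw [wcl, wcl, cl, cl, Nat.card_congr e.toEquiv, of_congr e]

theorem centralizer_image {G : Type u} {H : Type*} [Group G] [Group H] (e : G ≃* H) (S : Set G) :
    (Subgroup.centralizer S).map e.toMonoidHom = Subgroup.centralizer (e '' S) := by
  ext y
  simp only [Subgroup.mem_map, Subgroup.mem_centralizer_iff, Set.forall_mem_image]
  constructor
  · rintro ⟨x, hx, rfl⟩ a ha
    show e a * e x = e x * e a
    rw [← map_mul, ← map_mul, hx a ha]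
  · intro h
    refine ⟨e.symm y, fun a ha => e.injective ?_, e.apply_symm_apply y⟩
    rw [map_mul, map_mul, e.apply_symm_apply]
    exact h ha

theorem wcl_image {G : Type u} {H : Type*} [Group G] [Finite G] [Group H] [Finite H] (e : G ≃* H)
    (S : Set G) : wcl (e '' S) = wcl S := by
  refine (wcl_equiv S (e '' S) ?_).symm
  exact ((Subgroup.centralizer S).equivMapOfInjective e.toMonoidHom e.injective).trans
    (MulEquiv.subgroupCongr (centralizer_image e S))

variable {G : Type u} [Group G] [Finite G] {r : ℕ}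

instance : Finite (CommTuple G r) :=
  inferInstanceAs (Finite {s : Fin r → G // Function.Injective s ∧ ∀ i j, Commute (s i) (s j)})

instance : Finite (CommTuple.Orbit G r) :=
  inferInstanceAs (Finite (Quotient (CommTuple.setoid G r)))

noncomputable instance : Fintype (CommTuple G r) := Fintype.ofFinite _
noncomputable instance : Fintype (CommTuple.Orbit G r) := Fintype.ofFinite _

@[reducible] def conjAct (G : Type u) [Group G] (r : ℕ) : MulAction G (CommTuple G r) where
  smul g s := ⟨fun i => MulAut.conj g (s.1 i), (MulAut.conj g).injective.comp s.2.1,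
    fun i j => (s.2.2 i j).map (MulAut.conj g)⟩
  one_smul s := Subtype.ext (funext fun i => by
    show MulAut.conj (1 : G) (s.1 i) = s.1 i
    simp)
  mul_smul g h s := Subtype.ext (funext fun i => by
    show MulAut.conj (g * h) (s.1 i) = MulAut.conj g (MulAut.conj h (s.1 i))
    simp)

theorem fibre_card (t : CommTuple G r) :
    Nat.card {s : CommTuple G r // (CommTuple.setoid G r).r t s} *
      Nat.card (Subgroup.centralizer (Set.range t.1)) = Nat.card G := by
  classical
  letI := conjAct G r
  have hf : Nat.card {s : CommTuple G r // (CommTuple.setoid G r).r t s} = Nat.card (MulAction.orbit G t) := by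
    refine Nat.card_congr (Equiv.subtypeEquivRight fun s => ?_)
    constructor
    · rintro ⟨g, hg⟩; exact ⟨g, Subtype.ext (funext fun i => hg i)⟩
    · rintro ⟨g, rfl⟩; exact ⟨g, fun i => rfl⟩
  have hs : Nat.card (Subgroup.centralizer (Set.range t.1)) = Nat.card (MulAction.stabilizer G t) := by
    refine Nat.card_congr (Equiv.subtypeEquivRight fun g => ?_)
    simp only [Subgroup.mem_centralizer_iff, Set.forall_mem_range, MulAction.mem_stabilizer_iff]
    constructor
    · intro h; exact Subtype.ext (funext fun i => by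
        show g * t.1 i * g⁻¹ = t.1 i
        rw [← h i, mul_inv_cancel_right])
    · intro h i
      have h' : g * t.1 i * g⁻¹ = t.1 i := congrFun (congrArg Subtype.val h) i
      exact (mul_inv_eq_iff_eq_mul.mp h').symm
  rw [hf, hs, ← Nat.card_prod]
  exact Nat.card_congr (MulAction.orbitProdStabilizerEquivGroup G t)

theorem wcl_conj (t s : CommTuple G r) (h : (CommTuple.setoid G r).r t s) :
    wcl (Set.range s.1) = wcl (Set.range t.1) := by
  obtain ⟨g, hg⟩ := h
  rw [← wcl_image (MulAut.conj g) (Set.range t.1), ← Set.range_comp]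
  exact congrArg (fun f => wcl (Set.range f)) (funext fun i => (hg i).symm)

/-- Orbit–stabiliser form of the inertia operators. -/
theorem inertiaROf_eq : inertiaROf r G =
    (Nat.card G : ℚ)⁻¹ • ∑ s : CommTuple G r, wcl (Set.range s.1) := by
  classical
  have hG : (Nat.card G : ℚ) ≠ 0 := by exact_mod_cast Nat.card_pos.ne'
  rw [inertiaROf, finsum_eq_sum_of_fintype,
    ← Finset.sum_fiberwise Finset.univ (Quotient.mk (CommTuple.setoid G r)) (fun s => wcl (Set.range s.1)),
    Finset.smul_sum]
  refine Finset.sum_congr (Finset.ext fun O => ⟨fun _ => @Finset.mem_univ _ (_) O, fun _ => @Finset.mem_univ _ (_) O⟩) fun O _ => ?_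
  set t := Quotient.out (s := CommTuple.setoid G r) O with ht
  have key : ∀ s, Quotient.mk (CommTuple.setoid G r) s = O ↔ (CommTuple.setoid G r).r t s := fun s => by
    conv_lhs => rw [← Quotient.out_eq (s := CommTuple.setoid G r) O]
    rw [Quotient.eq]
    exact ⟨fun h => Setoid.symm' _ h, fun h => Setoid.symm' _ h⟩
  have hfib : ∀ s ∈ Finset.univ.filter (fun s => Quotient.mk (CommTuple.setoid G r) s = O),
      wcl (Set.range s.1) = wcl (Set.range t.1) := fun s hs =>
    wcl_conj t s ((key s).mp (Finset.mem_filter.mp hs).2)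
  rw [Finset.sum_congr rfl hfib, Finset.sum_const, ← Nat.cast_smul_eq_nsmul ℚ, wcl, smul_smul, smul_smul]
  have hc : (Finset.univ.filter (fun s => Quotient.mk (CommTuple.setoid G r) s = O)).card =
      Nat.card {s : CommTuple G r // (CommTuple.setoid G r).r t s} := by
    rw [Nat.card_eq_fintype_card, Fintype.card_subtype]
    exact congrArg Finset.card (Finset.filter_congr fun s _ => key s)
  rw [hc]
  have := congrArg (Nat.cast : ℕ → ℚ) (fibre_card t)
  push_cast at this
  rw [mul_assoc, this, inv_mul_cancel₀ hG, one_smul]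

theorem inertiaROf_congr {H : Type*} [Group H] [Finite H] (e : G ≃* H) (r : ℕ) :
    inertiaROf r G = inertiaROf r H := by
  rw [inertiaROf_eq, inertiaROf_eq, Nat.card_congr e.toEquiv]
  congr 1
  let E : CommTuple G r ≃ CommTuple H r :=
    { toFun := fun s => ⟨e ∘ s.1, e.injective.comp s.2.1, fun i j => (s.2.2 i j).map e⟩
      invFun := fun s => ⟨e.symm ∘ s.1, e.symm.injective.comp s.2.1, fun i j => (s.2.2 i j).map e.symm⟩
      left_inv := fun s => Subtype.ext (funext fun i => e.symm_apply_apply _)
      right_inv := fun s => Subtype.ext (funext fun i => e.apply_symm_apply _) }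
  refine Fintype.sum_equiv E _ _ fun s => ?_
  show wcl (Set.range s.1) = wcl (Set.range (e ∘ s.1))
  rw [Set.range_comp, wcl_image]

theorem inertiaR_cl (r : ℕ) (G : Type u) [Group G] [Finite G] : inertiaR r (cl G) = inertiaROf r G := by
  rw [cl, inertiaR_single, one_smul]
  exact inertiaROf_congr (repEquiv G) r

/-- Centraliser inside a centraliser. -/
def nestedEquiv (S : Set G) (T : Set (Subgroup.centralizer S)) :
    Subgroup.centralizer T ≃* Subgroup.centralizer (S ∪ Subtype.val '' T) where
  toFun x := ⟨x.1.1, fun a ha => by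
    rcases ha with ha | ⟨b, hb, rfl⟩
    · exact x.1.2 a ha
    · exact congrArg Subtype.val (x.2 b hb)⟩
  invFun x := ⟨⟨x.1, fun a ha => x.2 a (Or.inl ha)⟩, fun b hb => Subtype.ext (x.2 _ (Or.inr ⟨b, hb, rfl⟩))⟩
  left_inv _ := rfl
  right_inv _ := rfl
  map_mul' _ _ := rfl

theorem inertiaR_wcl_one (S : Set G) [Fintype (Subgroup.centralizer S)] : inertia (wcl S) =
    ∑ g : Subgroup.centralizer S, wcl (insert (g : G) S) := by
  classical
  have hC : (Nat.card (Subgroup.centralizer S) : ℚ) ≠ 0 := by exact_mod_cast Nat.card_pos.ne'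
  rw [wcl, map_smul, inertiaR_cl, inertiaROf_eq, smul_smul, mul_inv_cancel₀ hC, one_smul]
  let E : Subgroup.centralizer S ≃ CommTuple (Subgroup.centralizer S) 1 :=
    { toFun := fun g => ⟨fun _ => g, Function.injective_of_subsingleton _, fun _ _ => Commute.refl _⟩
      invFun := fun s => s.1 0
      left_inv := fun g => rfl
      right_inv := fun s => Subtype.ext (funext fun i => by rw [Subsingleton.elim i 0]) }
  refine (Fintype.sum_equiv E _ _ fun g => ?_).symm
  show wcl (insert (g : G) S) = wcl (Set.range fun _ : Fin 1 => g)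
  rw [Set.range_const]
  refine wcl_equiv _ _ (MulEquiv.trans ?_ (nestedEquiv S {g}).symm)
  exact MulEquiv.subgroupCongr (by rw [Set.image_singleton, Set.union_singleton])

def snocEquiv : CommTuple G (r + 1) ≃
    Σ s : CommTuple G r, {g : G // g ∈ Subgroup.centralizer (Set.range s.1) ∧ g ∉ Set.range s.1} where
  toFun t := ⟨⟨Fin.init t.1, fun _ _ h => Fin.castSucc_injective _ (t.2.1 h), fun i j => t.2.2 _ _⟩,
    ⟨t.1 (Fin.last r), by
      rintro _ ⟨i, rfl⟩; exact t.2.2 _ _,
      by rintro ⟨i, hi⟩; exact (Fin.castSucc_lt_last i).ne (t.2.1 hi)⟩⟩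
  invFun p := ⟨Fin.snoc p.1.1 p.2.1,
    Fin.snoc_injective_iff.mpr ⟨p.1.2.1, p.2.2.2⟩,
    fun i j => by
      induction i using Fin.lastCases with
      | last =>
        induction j using Fin.lastCases with
        | last => exact Commute.refl _
        | cast j => simpa [Commute, SemiconjBy] using (p.2.2.1 _ ⟨j, rfl⟩).symm
      | cast i =>
        induction j using Fin.lastCases with
        | last => simpa [Commute, SemiconjBy] using p.2.2.1 _ ⟨i, rfl⟩
        | cast j => simpa using p.1.2.2 i j⟩
  left_inv t := Subtype.ext (Fin.snoc_init_self t.1)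
  right_inv p := by
    obtain ⟨⟨s, hs⟩, ⟨g, hg⟩⟩ := p
    refine Sigma.subtype_ext (Subtype.ext ?_) ?_
    · exact Fin.init_snoc (α := fun _ => G) g s
    · exact Fin.snoc_last (α := fun _ => G) g s

theorem range_snoc (t : CommTuple G (r + 1)) :
    Set.range t.1 = insert (t.1 (Fin.last r)) (Set.range (Fin.init t.1)) := by
  conv_lhs => rw [← Fin.snoc_init_self t.1, Fin.range_snoc]

theorem inertia_inertiaROf (r : ℕ) (G : Type u) [Group G] [Finite G] :
    inertia (inertiaROf r G) = inertiaROf (r + 1) G + (r : ℚ) • inertiaROf r G := by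
  classical
  have := Fintype.ofFinite G
  rw [inertiaROf_eq, inertiaROf_eq (r := r + 1), map_smul, map_sum, smul_comm, ← smul_add]
  congr 1
  rw [Fintype.sum_equiv (snocEquiv (G := G) (r := r)) (fun t => wcl (Set.range t.1))
    (fun p => wcl (insert p.2.1 (Set.range p.1.1))) (fun t => by rw [range_snoc]; rfl),
    Fintype.sum_sigma, Finset.smul_sum, ← Finset.sum_add_distrib]
  refine Finset.sum_congr rfl fun s _ => ?_
  rw [inertiaR_wcl_one]
  have h1 : ∑ g : Subgroup.centralizer (Set.range s.1), wcl (insert (g : G) (Set.range s.1)) =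
      ∑ g ∈ Finset.univ.filter (· ∈ Subgroup.centralizer (Set.range s.1)), wcl (insert g (Set.range s.1)) :=
    (Finset.sum_subtype (Finset.univ.filter (· ∈ Subgroup.centralizer (Set.range s.1))) (fun _ => by simp)
      (fun g => wcl (insert g (Set.range s.1)))).symm
  have h2 : ∑ g : {g : G // g ∈ Subgroup.centralizer (Set.range s.1) ∧ g ∉ Set.range s.1},
      wcl (insert g.1 (Set.range s.1)) =
      ∑ g ∈ Finset.univ.filter (fun g => g ∈ Subgroup.centralizer (Set.range s.1) ∧ g ∉ Set.range s.1),
        wcl (insert g (Set.range s.1)) :=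
    (Finset.sum_subtype (Finset.univ.filter (fun g => g ∈ Subgroup.centralizer (Set.range s.1) ∧ g ∉ Set.range s.1))
      (fun _ => by simp) (fun g => wcl (insert g (Set.range s.1)))).symm
  rw [h1, h2, ← Finset.filter_filter,
    ← Finset.sum_filter_add_sum_filter_not _ (fun g => g ∉ Set.range s.1)]
  congr 1
  have h3 : (Finset.univ.filter (· ∈ Subgroup.centralizer (Set.range s.1))).filter
      (fun g => ¬ g ∉ Set.range s.1) = Finset.univ.image s.1 := by
    ext g
    simp only [Finset.mem_filter, Finset.mem_univ, true_and, not_not, Finset.mem_image, Set.mem_range]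
    refine ⟨fun h => h.2, ?_⟩
    rintro ⟨i, rfl⟩
    exact ⟨by rintro _ ⟨j, rfl⟩; exact s.2.2 j i, i, rfl⟩
  rw [h3, Finset.sum_congr rfl (fun g hg => by
      rw [Set.insert_eq_of_mem (by simpa [Set.mem_range] using hg)] :
      ∀ g ∈ Finset.univ.image s.1, wcl (insert g (Set.range s.1)) = wcl (Set.range s.1)),
    Finset.sum_const, Finset.card_image_of_injective _ s.2.1, Finset.card_univ, Fintype.card_fin,
    Nat.cast_smul_eq_nsmul]

theorem inertia_comp_inertiaR (r : ℕ) (v : K) :
    inertia (inertiaR r v) = inertiaR (r + 1) v + (r : ℚ) • inertiaR r v := by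
  induction v using Finsupp.induction_linear with
  | zero => simp
  | add x y hx hy => simp only [map_add, hx, hy, smul_add]; abel
  | single i c =>
    rw [inertiaR_single, inertiaR_single, map_smul, inertia_inertiaROf, smul_add, smul_comm c]

theorem inertiaROf_zero (G : Type u) [Group G] [Finite G] : inertiaROf 0 G = cl G := by
  have hG : (Nat.card G : ℚ) ≠ 0 := by exact_mod_cast Nat.card_pos.ne'
  haveI : Subsingleton (CommTuple G 0) := ⟨fun a b => Subtype.ext (Subsingleton.elim _ _)⟩
  let t : CommTuple G 0 := ⟨Fin.elim0, fun i => i.elim0, fun i => i.elim0⟩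
  rw [inertiaROf_eq, Finset.sum_eq_single t (fun b _ hb => (hb (Subsingleton.elim _ _)).elim) (by simp)]
  have e : Subgroup.centralizer (Set.range t.1) ≃* G :=
    (MulEquiv.subgroupCongr (by ext; simp [Subgroup.mem_centralizer_iff])).trans Subgroup.topEquiv
  rw [wcl, cl, cl, Nat.card_congr e.toEquiv, of_congr e, smul_smul, inv_mul_cancel₀ hG, one_smul]

theorem inertiaR_zero (v : K) : inertiaR 0 v = v := by
  induction v using Finsupp.induction_linear with
  | zero => simp
  | add x y hx hy => simp only [map_add, hx, hy]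
  | single i c =>
    rw [inertiaR_single, inertiaROf_zero, cl, of_rep, Finsupp.smul_single, smul_eq_mul, mul_one]

theorem inertiaR_of_mem_eigenspace {k : ℕ} {v : K} (hv : v ∈ Module.End.eigenspace inertia (k : ℚ)) :
    ∀ r, inertiaR r v = (k.descFactorial r : ℚ) • v := by
  intro r
  induction r with
  | zero => simp [inertiaR_zero]
  | succ r ih =>
    have hv' : inertia v = (k : ℚ) • v := Module.End.mem_eigenspace_iff.mp hv
    have h := inertia_comp_inertiaR r v
    rw [ih, map_smul, hv', smul_smul, smul_smul, ← sub_eq_iff_eq_add, ← sub_smul] at h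
    rw [← h]
    congr 1
    rw [Nat.descFactorial_succ]
    rcases le_or_gt r k with hk | hk
    · push_cast [Nat.cast_sub hk]; ring
    · simp [Nat.descFactorial_eq_zero_iff_lt.mpr hk]

/-- Triangularity. -/
theorem inertiaROf_sub_mem (r : ℕ) (G : Type u) [Group G] [Finite G] :
    inertiaROf r G - ((Nat.card (Subgroup.center G)).descFactorial r : ℚ) • cl G ∈
      Finsupp.supported ℚ ℚ
        {i : Idx | i.card < Nat.card G ∧ Nat.card (Subgroup.center G) < i.centerCard} := by
  classical
  have := Fintype.ofFinite G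
  have hG : (Nat.card G : ℚ) ≠ 0 := by exact_mod_cast Nat.card_pos.ne'
  rw [inertiaROf_eq, ← Finset.sum_filter_add_sum_filter_not Finset.univ
    (fun s : CommTuple G r => ∀ i, s.1 i ∈ Subgroup.center G), smul_add]
  set Z := Finset.univ.filter (fun s : CommTuple G r => ∀ i, s.1 i ∈ Subgroup.center G) with hZ
  have hcentral : ∀ s ∈ Z, wcl (Set.range s.1) = (Nat.card G : ℚ) • cl G := by
    intro s hs
    have h := (Finset.mem_filter.mp hs).2
    have e : Subgroup.centralizer (Set.range s.1) ≃* G :=
      (MulEquiv.subgroupCongr (Subgroup.centralizer_eq_top_iff_subset.mpr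
        (by rintro _ ⟨i, rfl⟩; exact h i))).trans Subgroup.topEquiv
    rw [wcl, cl, cl, Nat.card_congr e.toEquiv, of_congr e]
  have hcard : Z.card = (Nat.card (Subgroup.center G)).descFactorial r := by
    rw [Nat.card_eq_fintype_card, hZ, ← Fintype.card_subtype]
    let E : {s : CommTuple G r // ∀ i, s.1 i ∈ Subgroup.center G} ≃ (Fin r ↪ Subgroup.center G) :=
      { toFun := fun s => ⟨fun i => ⟨s.1.1 i, s.2 i⟩, fun a b h => s.1.2.1 (congrArg Subtype.val h)⟩
        invFun := fun f => ⟨⟨fun i => (f i).1, fun a b h => f.injective (Subtype.ext h),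
          fun i j => (Subgroup.mem_center_iff.mp (f j).2 _)⟩, fun i => (f i).2⟩
        left_inv := fun s => rfl
        right_inv := fun f => rfl }
    rw [Fintype.card_congr E, Fintype.card_embedding_eq, Fintype.card_fin]
  rw [Finset.sum_congr rfl hcentral, Finset.sum_const, hcard, ← Nat.cast_smul_eq_nsmul ℚ, smul_smul,
    smul_smul, mul_comm _ (Nat.card G : ℚ), ← mul_assoc, mul_inv_cancel₀ hG, one_mul, add_sub_cancel_left]
  refine Submodule.smul_mem _ _ (Submodule.sum_mem _ fun s hs => Submodule.smul_mem _ _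
    (Finsupp.single_mem_supported ℚ _ ?_))
  have hnot := (Finset.mem_filter.mp hs).2
  push Not at hnot
  obtain ⟨i, hi⟩ := hnot
  set C := Subgroup.centralizer (Set.range s.1) with hC
  refine ⟨?_, ?_⟩
  · rw [card_of]
    refine lt_of_le_of_ne (Finite.card_subtype_le _) fun he => hi ?_
    have htop : C = ⊤ := Subgroup.eq_top_of_card_eq _ he
    exact Subgroup.centralizer_eq_top_iff_subset.mp htop ⟨i, rfl⟩
  · rw [centerCard_of]
    have hlt : Subgroup.center G < (Subgroup.center C).map C.subtype := by
      refine lt_of_le_of_ne (fun z hz => ?_) fun he => hi ?_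
      · exact ⟨⟨z, fun a _ => (Subgroup.mem_center_iff.mp hz a)⟩,
          Subgroup.mem_center_iff.mpr fun x => Subtype.ext (Subgroup.mem_center_iff.mp hz x.1), rfl⟩
      · rw [he]
        exact ⟨⟨s.1 i, by rintro _ ⟨j, rfl⟩; exact s.2.2 j i⟩,
          Subgroup.mem_center_iff.mpr fun x => Subtype.ext (x.2 _ ⟨i, rfl⟩).symm, rfl⟩
    calc Nat.card (Subgroup.center G) < Nat.card ((Subgroup.center C).map C.subtype) :=
          lt_of_not_ge fun hle => hlt.ne (Subgroup.eq_of_le_of_card_ge hlt.le hle)
      _ = Nat.card (Subgroup.center C) := Subgroup.card_map_of_injective C.subtype_injective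

theorem single_mem_iSup_ge : ∀ (n : ℕ) (i : Idx), i.card ≤ n →
    Finsupp.single i (1 : ℚ) ∈ ⨆ (k : ℕ) (_ : i.centerCard ≤ k), Module.End.eigenspace inertia (k : ℚ) := by
  intro n
  induction n with
  | zero => intro i hi; exact absurd hi (not_le.mpr (Nat.card_pos (α := i.rep)))
  | succ n ih =>
    intro i hi
    set z := i.centerCard with hz
    set S := ⨆ (k : ℕ) (_ : z < k), Module.End.eigenspace inertia (k : ℚ) with hS
    have hw : inertia (Finsupp.single i 1) - (z : ℚ) • Finsupp.single i 1 ∈ S := by
      have h := inertiaROf_sub_mem 1 i.rep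
      rw [cl, of_rep, Nat.descFactorial_one] at h
      rw [inertiaR_single, one_smul, ← Finsupp.sum_single (inertiaROf 1 i.rep - (z : ℚ) • Finsupp.single i 1)]
      refine Submodule.sum_mem _ fun j hj => ?_
      obtain ⟨hj1, hj2⟩ := (Finsupp.mem_supported _ _).mp h hj
      rw [← Finsupp.smul_single_one]
      refine Submodule.smul_mem _ _ ((iSup₂_le fun k hk => ?_ : _ ≤ S) (ih j ?_))
      · exact le_iSup₂ (f := fun (k : ℕ) (_ : z < k) => Module.End.eigenspace inertia (k : ℚ)) k
          (lt_of_lt_of_le hj2 hk)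
      · have : i.card = Nat.card i.rep := rfl
        omega
    have hsurj : S ≤ S.map (inertia - (z : ℚ) • (LinearMap.id : K →ₗ[ℚ] K)) := by
      refine iSup₂_le fun k hk x hx => ?_
      have hkz : (k : ℚ) - z ≠ 0 := by
        rw [sub_ne_zero]; exact_mod_cast hk.ne'
      refine ⟨((k : ℚ) - z)⁻¹ • x, Submodule.smul_mem _ _
        (le_iSup₂ (f := fun (k : ℕ) (_ : z < k) => Module.End.eigenspace inertia (k : ℚ)) k hk hx), ?_⟩
      rw [map_smul, LinearMap.sub_apply, LinearMap.smul_apply, LinearMap.id_apply,
        Module.End.mem_eigenspace_iff.mp hx, ← sub_smul, smul_smul, inv_mul_cancel₀ hkz, one_smul]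
    obtain ⟨w, hw1, hw2⟩ := hsurj hw
    have hsplit : Finsupp.single i (1 : ℚ) = (Finsupp.single i 1 - w) + w := by abel
    rw [hsplit]
    refine Submodule.add_mem _ ?_ ((iSup₂_le fun k hk => le_iSup₂_of_le k hk.le le_rfl : S ≤ _) hw1)
    refine le_iSup₂ (f := fun (k : ℕ) (_ : z ≤ k) => Module.End.eigenspace inertia (k : ℚ)) z le_rfl ?_
    rw [Module.End.mem_eigenspace_iff, map_sub, smul_sub]
    rw [LinearMap.sub_apply, LinearMap.smul_apply, LinearMap.id_apply] at hw2
    linear_combination (norm := module) -hw2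

theorem iSup_eigenspace_eq_top : (⨆ k : ℕ, Module.End.eigenspace inertia (k : ℚ)) = ⊤ := by
  rw [eq_top_iff]
  intro v _
  rw [← Finsupp.sum_single v]
  refine Submodule.sum_mem _ fun i _ => ?_
  rw [← Finsupp.smul_single_one]
  exact Submodule.smul_mem _ _ ((iSup₂_le fun k _ => le_iSup (fun k : ℕ => Module.End.eigenspace inertia (k : ℚ)) k) (single_mem_iSup_ge i.card i le_rfl))

theorem exists_decomp (v : K) : ∃ x : ℕ →₀ K,
    (∀ k : ℕ, x k ∈ Module.End.eigenspace inertia (k : ℚ)) ∧ (x.sum fun _ y => y) = v :=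
  (Submodule.mem_iSup_iff_exists_finsupp _ _).mp (iSup_eigenspace_eq_top.symm ▸ Submodule.mem_top)

end Groth.Misc14.Inertia
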