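import Mathlib
import Groth.Agent.Calg1.SerreConditions
import Groth.Agent.CIntNormal.ConeNormal
import Groth.Agent.Ega4Algebra2.SchemeFibre
import Groth.Agent.Calg4.RegularFlat
import Groth.Agent.Ega43Geom.Pointwise
import Groth.Agent.S15848
import Groth.Agent.Ega4Algebra1.RegularNormal
import Groth.Prelude.Def_Pi1

/-! Normality of the total space of a flat family with reduced fibres over a normal base whose fibres over
the maximal points are smooth (Serre's criterion). -/

set_option autoImplicit false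

universe u

open CategoryTheory AlgebraicGeometry IsLocalRing

namespace Groth.Misc14.NormalTotal

variable {R : Type u} [CommRing R] [IsLocalRing R] [IsNoetherianRing R]

omit [IsNoetherianRing R] in
theorem nonempty_atMax : Nonempty (R ≃+* Localization.AtPrime (maximalIdeal R)) :=
  ⟨(IsLocalization.atUnits R (maximalIdeal R).primeCompl
    (fun _ ha => IsLocalRing.notMem_maximalIdeal.1 ha)).toRingEquiv⟩

theorem min_le_depth_of_hasSk {k : ℕ} (h : LocCoh.HasSk k R R) :
    min (k : WithBot ℕ∞) (ringKrullDim R) ≤ ((LocCoh.depth R R : ℕ∞) : WithBot ℕ∞) := by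
  obtain ⟨e⟩ := nonempty_atMax (R := R)
  have h1 := (Groth.Calg1.hasSk_self_iff k).1 h (maximalIdeal R)
  rw [← Groth.Ega4b.depth_eq_of_ringEquiv e] at h1
  rw [← maximalIdeal_height_eq_ringKrullDim, ← WithBot.coe_natCast, ← WithBot.coe_min, WithBot.coe_le_coe]
  exact h1

theorem min_one_le_depth_of_isReduced [_root_.IsReduced R] :
    min (1 : WithBot ℕ∞) (ringKrullDim R) ≤ ((LocCoh.depth R R : ℕ∞) : WithBot ℕ∞) := by
  simpa using min_le_depth_of_hasSk (R := R) ((Groth.Calg1.isReduced_iff (R := R)).1 ‹_›).2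

theorem min_two_le_depth_of_normal [IsDomain R] [IsIntegrallyClosed R] :
    min (2 : WithBot ℕ∞) (ringKrullDim R) ≤ ((LocCoh.depth R R : ℕ∞) : WithBot ℕ∞) := by
  have h : ∀ (p : Ideal R) [p.IsPrime], IsDomain (Localization.AtPrime p) ∧
      IsIntegrallyClosed (Localization.AtPrime p) := fun p _ =>
    ⟨IsLocalization.isDomain_localization p.primeCompl_le_nonZeroDivisors,
      isIntegrallyClosed_of_isLocalization _ p.primeCompl p.primeCompl_le_nonZeroDivisors⟩
  simpa using min_le_depth_of_hasSk (R := R) ((Groth.Calg1.normal_iff (R := R)).1 h).2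

theorem arith_dim {b a c : WithBot ℕ∞} (ha : 0 ≤ a) (hc : 0 ≤ c) (h : b = a + c) (hb : b ≤ 1) :
    a ≤ 1 ∧ (a = 0 ∨ c = 0) := by
  induction a using WithBot.recBotCoe with
  | bot => simp at ha
  | coe a =>
    induction c using WithBot.recBotCoe with
    | bot => simp at hc
    | coe c =>
      subst h
      rw [← WithBot.coe_add] at hb
      have hb' : a + c ≤ 1 := by exact_mod_cast hb
      refine ⟨by exact_mod_cast (le_self_add.trans hb'), ?_⟩
      by_cases h0 : a = 0
      · exact Or.inl (by rw [h0]; rfl)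
      · refine Or.inr ?_
        have h1 : (1 : ℕ∞) ≤ a := Order.one_le_iff_pos.2 (pos_iff_ne_zero.2 h0)
        have h2 : 1 + c ≤ 1 + 0 := by rw [add_zero]; exact (add_le_add h1 le_rfl).trans hb'
        have h3 : c ≤ 0 := (ENat.add_le_add_iff_left (by simp)).1 h2
        rw [nonpos_iff_eq_zero.1 h3]; rfl

theorem arith_depth {a c p q : ℕ∞} (hp : min 2 a ≤ p) (hq : min 1 c ≤ q) (h0 : a = 0 → min 2 c ≤ q) :
    min 2 (a + c) ≤ p + q := by
  rcases eq_or_ne a 0 with rfl | ha
  · simpa using (h0 rfl).trans le_add_self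
  · rcases le_or_gt 2 a with h | h
    · rw [min_eq_left h] at hp
      exact (min_le_left _ _).trans (hp.trans le_self_add)
    · have h1 : a = 1 := le_antisymm (ENat.lt_natCast_add_one_iff (n := 1) |>.1 (by exact_mod_cast h))
        (Order.one_le_iff_pos.2 (pos_iff_ne_zero.2 ha))
      subst h1
      rw [min_eq_right (by norm_num)] at hp
      calc min 2 (1 + c) = 1 + min 1 c := by rw [← min_add_add_left]; norm_num
        _ ≤ p + q := add_le_add hp hq

/-- Serre's conditions at the closed point of a flat local extension. -/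
theorem regular_and_depth {A B F : Type u} [CommRing A] [CommRing B] [CommRing F] [IsLocalRing A]
    [IsLocalRing B] [IsLocalRing F] [IsNoetherianRing A] [IsNoetherianRing B] [IsNoetherianRing F]
    [Algebra A B] [IsLocalHom (algebraMap A B)] [Module.Flat A B] [IsDomain A] [IsIntegrallyClosed A]
    [_root_.IsReduced F] (e : (B ⧸ (maximalIdeal A).map (algebraMap A B)) ≃+* F)
    (hreg : ringKrullDim A = 0 → IsRegularLocalRing F) :
    (ringKrullDim B ≤ 1 → IsRegularLocalRing B) ∧
      min (2 : WithBot ℕ∞) (ringKrullDim B) ≤ ((LocCoh.depth B B : ℕ∞) : WithBot ℕ∞) := by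
  haveI : IsLocalRing (B ⧸ (maximalIdeal A).map (algebraMap A B)) := e.symm.isLocalRing
  have hdim : ringKrullDim B = ringKrullDim A + ringKrullDim F := by
    rw [Groth.Calg4.ringKrullDim_eq_add_of_flat A B, ringKrullDim_eq_of_ringEquiv e]
  have hdepth : LocCoh.depth B B = LocCoh.depth A A + LocCoh.depth F F := by
    rw [Groth.Ega4b.depth_eq_add_of_flat A B, Groth.Ega4b.depth_eq_of_ringEquiv
      (R := B ⧸ (maximalIdeal A).map (algebraMap A B)) (R' := F) e]
  refine ⟨fun hB => ?_, ?_⟩
  · obtain ⟨hA, h⟩ := arith_dim ringKrullDim_nonneg_of_nontrivial ringKrullDim_nonneg_of_nontrivial hdim hB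
    haveI := Groth.CIntNormal.isRegularLocalRing_of_normal_dim_le_one (L := A) hA
    haveI : IsRegularLocalRing F := by
      rcases h with h | h
      · exact hreg h
      · haveI : Ring.KrullDimLE 0 F := Ring.krullDimLE_iff.mpr (by rw [h]; rfl)
        exact Groth.Ega4Algebra1.isRegularLocalRing_of_maximalIdeal_eq_bot
          (isField_iff_maximalIdeal_eq.mp Ring.KrullDimLE.isField_of_isReduced)
    haveI := IsRegularLocalRing.of_ringEquiv e.symm
    exact Groth.Calg4.isRegularLocalRing_of_flat_of_quotient A B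
  · have hp := min_two_le_depth_of_normal (R := A)
    have hq := min_one_le_depth_of_isReduced (R := F)
    rw [← maximalIdeal_height_eq_ringKrullDim] at hp hq
    rw [hdim, hdepth, ← maximalIdeal_height_eq_ringKrullDim, ← maximalIdeal_height_eq_ringKrullDim,
      ← WithBot.coe_add, show (2 : WithBot ℕ∞) = ((2 : ℕ∞) : WithBot ℕ∞) from rfl,
      ← WithBot.coe_min, WithBot.coe_le_coe]
    refine arith_depth (WithBot.coe_le_coe.1 hp) (WithBot.coe_le_coe.1 hq) fun h0 => ?_
    haveI := hreg (by rw [← maximalIdeal_height_eq_ringKrullDim, h0]; rfl)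
    haveI : IsDomain F := Groth.Ega4Algebra1.isDomain_of_isRegularLocalRing F
    haveI : IsIntegrallyClosed F := Groth.Ega4Algebra1.isIntegrallyClosed_of_isRegularLocalRing F
    have hq2 := min_two_le_depth_of_normal (R := F)
    rw [← maximalIdeal_height_eq_ringKrullDim] at hq2
    exact WithBot.coe_le_coe.1 hq2

theorem isNormalScheme {C S : Scheme.{u}} [IsLocallyNoetherian C] [IsLocallyNoetherian S] (f : C ⟶ S)
    [Flat f] (hS : Pi1.IsNormalScheme S) [∀ s, AlgebraicGeometry.IsReduced (f.fiber s)]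
    (hgen : ∀ s : S, (∀ t, t ⤳ s → t = s) → Smooth (f.fiberToSpecResidueField s)) :
    Pi1.IsNormalScheme C := by
  have key : ∀ w : C, (ringKrullDim (C.presheaf.stalk w) ≤ 1 → IsRegularLocalRing (C.presheaf.stalk w)) ∧
      min (2 : WithBot ℕ∞) (ringKrullDim (C.presheaf.stalk w)) ≤
        ((LocCoh.depth (C.presheaf.stalk w) (C.presheaf.stalk w) : ℕ∞) : WithBot ℕ∞) := by
    intro w
    letI := (f.stalkMap w).hom.toAlgebra
    haveI : IsLocalHom (algebraMap (S.presheaf.stalk (f w)) (C.presheaf.stalk w)) :=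
      inferInstanceAs (IsLocalHom (f.stalkMap w).hom)
    haveI : Module.Flat (S.presheaf.stalk (f w)) (C.presheaf.stalk w) := Flat.stalkMap f w
    obtain ⟨e⟩ := Groth.Ega4b.nonempty_fiber_stalk_equiv f (f w) (f.asFiber w) w (f.fiberι_asFiber w)
    haveI := (hS (f w)).1
    haveI := (hS (f w)).2
    haveI : IsNoetherianRing ((f.fiber (f w)).presheaf.stalk (f.asFiber w)) :=
      isNoetherianRing_of_ringEquiv _ e
    refine regular_and_depth e fun h0 => ?_
    have hmax : ∀ t, t ⤳ f w → t = f w := fun t ht => by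
      obtain ⟨Q, hQ⟩ : t ∈ Set.range (S.fromSpecStalk (f w)) := by
        rw [Scheme.range_fromSpecStalk]; exact ht
      haveI : Ring.KrullDimLE 0 (S.presheaf.stalk (f w)) := Ring.krullDimLE_iff.mpr (by rw [h0]; rfl)
      haveI : Q.asIdeal.IsPrime := PrimeSpectrum.isPrime Q
      have hQc : Q = closedPoint (S.presheaf.stalk (f w)) :=
        PrimeSpectrum.ext (Ring.KrullDimLE.eq_maximalIdeal_of_isPrime Q.asIdeal)
      rw [← hQ, hQc]
      exact Scheme.fromSpecStalk_closedPoint
    exact @Groth.Agent.S15848.isRegularLocalRing_of_smooth_field (S.residueField (f w)) _ _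
      (f.fiberToSpecResidueField (f w)) (hgen (f w) hmax) (f.asFiber w)
  intro z
  have hall := (Groth.Ega43Geom.forall_prime_stalk_iff z
    (fun R [CommRing R] => (ringKrullDim R ≤ 1 → IsRegularLocalRing R) ∧
      ∀ (_ : IsLocalRing R), min (2 : WithBot ℕ∞) (ringKrullDim R) ≤ ((LocCoh.depth R R : ℕ∞) : WithBot ℕ∞))
    (fun {R R'} _ _ e h => ⟨fun h1 => by
        haveI := h.1 (by rw [ringKrullDim_eq_of_ringEquiv e]; exact h1)
        exact IsRegularLocalRing.of_ringEquiv e,
      fun _ => by
        haveI := e.symm.isLocalRing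
        rw [← Groth.Ega4b.depth_eq_of_ringEquiv e, ← ringKrullDim_eq_of_ringEquiv e]
        exact h.2 inferInstance⟩)).2 fun w _ => ⟨(key w).1, fun _ => (key w).2⟩
  have hn := (Groth.Calg1.normal_iff (R := C.presheaf.stalk z)).2
    ⟨fun p _ hp => (hall p).1 (by rw [IsLocalization.AtPrime.ringKrullDim_eq_height p]; exact_mod_cast hp),
      (Groth.Calg1.hasSk_self_iff 2).2 fun p _ => by
        have h := (hall p).2 inferInstance
        rw [IsLocalization.AtPrime.ringKrullDim_eq_height p,
          show (2 : WithBot ℕ∞) = ((2 : ℕ∞) : WithBot ℕ∞) from rfl, ← WithBot.coe_min, WithBot.coe_le_coe] at h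
        exact h⟩
  obtain ⟨e⟩ := nonempty_atMax (R := C.presheaf.stalk z)
  obtain ⟨h1, h2⟩ := hn (maximalIdeal _)
  haveI := h1
  haveI := h2
  exact ⟨MulEquiv.isDomain _ e.toMulEquiv, IsIntegrallyClosed.of_equiv e.symm⟩

end Groth.Misc14.NormalTotal
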