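import Groth.Agent.Misc14.ParCurve
import Groth.Agent.Misc15.RankLe

/-!
# Additivity of the parabolic degree on curves; saturation
-/

set_option autoImplicit false

universe u

open CategoryTheory CategoryTheory.Limits AlgebraicGeometry

namespace Groth.ParCurve

open Groth.KTheory.LocFree (stalkₗ)
open Groth.DegMono (genRank)

variable {X : Scheme.{u}}

/-- A submodule meets the kernel in the kernel of its map to the image. -/
theorem exists_pullback_ses {K E V : X.Modules} (j : K ⟶ E) [Mono j] (q : E ⟶ V) [Epi q] (w : j ≫ q = 0)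
    (hex : (ShortComplex.mk j q w).Exact) (A : Subobject E) :
    Nonempty ((((Subobject.pullback j).obj A : Subobject K) : X.Modules) ≅
      kernel (factorThruImageSubobject (A.arrow ≫ q))) := by
  let g := factorThruImageSubobject (A.arrow ≫ q)
  have hg : g ≫ (imageSubobject (A.arrow ≫ q)).arrow = A.arrow ≫ q := imageSubobject_arrow_comp _
  obtain ⟨l, hl⟩ := KernelFork.IsLimit.lift' (haveI : Mono (ShortComplex.mk j q w).f := ‹Mono j›; hex.fIsKernel)
    (kernel.ι g ≫ A.arrow) (by
      change (kernel.ι g ≫ A.arrow) ≫ q = 0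
      exact (Category.assoc _ _ _).trans ((congrArg (kernel.ι g ≫ ·) hg).symm.trans
        ((kernel.condition_assoc g _).trans Limits.zero_comp)))
  replace hl : l ≫ j = kernel.ι g ≫ A.arrow := hl
  have hF : ((Subobject.pullback j).obj A).Factors l := by
    rw [Limits.pullback_factors_iff, hl]
    exact Subobject.factors_comp_arrow _
  have hw : Subobject.pullbackπ j A ≫ g = 0 := by
    rw [← cancel_mono (imageSubobject (A.arrow ≫ q)).arrow, Category.assoc, hg, Limits.zero_comp,
      ← Category.assoc, (Subobject.isPullback j A).w, Category.assoc, w, Limits.comp_zero]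
  haveI : Mono (Subobject.pullbackπ j A) := by
    haveI : Mono (Subobject.pullbackπ j A ≫ A.arrow) := by
      rw [(Subobject.isPullback j A).w]; exact mono_comp _ _
    exact mono_of_mono _ A.arrow
  exact ⟨{ hom := kernel.lift g (Subobject.pullbackπ j A) hw
           inv := ((Subobject.pullback j).obj A).factorThru l hF
           hom_inv_id := by
             rw [← cancel_mono ((Subobject.pullback j).obj A).arrow, Category.assoc,
               Subobject.factorThru_arrow, Category.id_comp, ← cancel_mono j, Category.assoc, hl,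
               kernel.lift_ι_assoc, (Subobject.isPullback j A).w]
           inv_hom_id := by
             rw [← cancel_mono (kernel.ι g), Category.assoc, kernel.lift_ι, Category.id_comp,
               ← cancel_mono A.arrow, Category.assoc, (Subobject.isPullback j A).w,
               ← Category.assoc, Subobject.factorThru_arrow, hl] }⟩

variable [IsIntegral X]

/-- Saturation of a submodule of a locally free module on a curve. -/
theorem exists_saturation_locFree [IsLocallyNoetherian X]
    (hp : ∀ x : X, IsPrincipalIdealRing (X.presheaf.stalk x)) {V F : X.Modules} {r : ℕ}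
    (hV : FlatMod.IsFinLocFreeOfRank r V) (hF : FlatMod.IsFinLocFree F) (f : V ⟶ F) [Mono f] :
    ∃ (V' : X.Modules) (ι : V' ⟶ F) (v : V ⟶ V'), Mono ι ∧ Mono v ∧ v ≫ ι = f ∧
      FlatMod.IsFinLocFreeOfRank r V' ∧ FlatMod.IsFinLocFree (cokernel ι) := by
  have hFc := Groth.KTheory.LocFree.isCoh hF
  have := hFc.1
  have := (Groth.KTheory.LocFree.isCoh (Groth.LocFree.isFinLocFree_of_rank hV)).1
  have hC := Groth.QCohMod.isCoh_cokernel f hFc
  let β := cokernel.π f ≫ RefHull.bidualMap (cokernel f)
  have hdd : Coh.IsCoh (RefHull.ddual (cokernel f)) := Groth.RefRank.isCoh_dual (Groth.RefRank.isCoh_dual hC)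
  have := hdd.1
  have hKc : Coh.IsCoh (kernel β) := Groth.QCohMod.isCoh_kernel β hFc
  have := hKc.1
  have hv0 : f ≫ β = 0 := by rw [← Category.assoc, cokernel.condition, zero_comp]
  let v := kernel.lift β f hv0
  have hvι : v ≫ kernel.ι β = f := kernel.lift_ι _ _ _
  haveI : Mono v := mono_of_mono_fac hvι
  have hgen : GenSurj v := by
    intro w
    have h0 : stalkₗ (cokernel.π f) (genericPoint X) (stalkₗ (kernel.ι β) _ w) = 0 := by
      refine (Groth.RefRank.bidual_gen_bijective hC).1 ?_
      rw [map_zero, ← Groth.DegMono.stalkₗ_eq_stalkMapₗ, ← stalkₗ_comp, ← stalkₗ_comp]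
      rw [show kernel.ι β ≫ cokernel.π f ≫ RefHull.bidualMap (cokernel f) = 0 from kernel.condition β, stalkₗ_zero]
    have hex := (ShortComplex.exact_cokernel f).map (Groth.QCohMod.stalk (genericPoint X))
    rw [ShortComplex.ab_exact_iff] at hex
    obtain ⟨t, ht⟩ := hex _ h0
    refine ⟨t, (Groth.QCohMod.mono_iff_stalk (kernel.ι β)).mp inferInstance _ ?_⟩
    show stalkₗ (kernel.ι β) _ (stalkₗ v _ t) = stalkₗ (kernel.ι β) _ w
    refine (stalkₗ_comp v (kernel.ι β) _ t).symm.trans ?_
    rw [hvι]
    exact ht
  have hrank : genRank (kernel β) = r := by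
    rw [← Groth.DegMono.genRank_eq hV]
    exact ((LinearEquiv.ofBijective (stalkₗ v (genericPoint X))
      ⟨(Groth.QCohMod.mono_iff_stalk v).mp inferInstance _, hgen⟩).finrank_eq).symm
  refine ⟨kernel β, kernel.ι β, v, inferInstance, inferInstance, hvι,
    hrank ▸ Groth.DegMono.isFinLocFreeOfRank_of_mono hp hKc hF (kernel.ι β), ?_⟩
  -- the cokernel embeds in a double dual
  let m := cokernel.desc (kernel.ι β) β (kernel.condition β)
  haveI : Mono m := by
    let e : cokernel (kernel.ι β) ≅ Abelian.coimage β := Iso.refl _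
    have : m = Abelian.factorThruCoimage β := rfl
    rw [this]
    infer_instance
  have hCc : Coh.IsCoh (cokernel (kernel.ι β)) := Groth.QCohMod.isCoh_cokernel _ hFc
  refine Groth.LocFree.isFinLocFree_of_rank (Groth.DegMono.isFinLocFreeOfRank_of_torsionFree hp hCc fun x => ?_)
  let E := (Groth.RefRank.homStalkEquiv (G := Coh.structureModule X) (Groth.RefRank.isCoh_dual hC) x).trans
    ((Groth.RefRank.dualEquiv hC x).arrowCongr (Groth.RefRank.oneEquiv x).symm)
  have hinj : Function.Injective (E.toLinearMap ∘ₗ stalkₗ m x) :=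
    E.injective.comp ((Groth.QCohMod.mono_iff_stalk m).mp inferInstance x)
  exact hinj.moduleIsTorsionFree _ (map_smul _)

variable (k : Type u) [Field k] [X.Over (Spec (CommRingCat.of k))] [IsProper (X ↘ Spec (CommRingCat.of k))]
  (hdim : topologicalKrullDim X ≤ 1)

include hdim in
/-- The parabolic degree is additive in short exact sequences of bundles. -/
theorem parDeg_add (I : X.IdealSheafData) (hD : FGA.IsEffCartier I) {K E V : X.Modules} {s n r : ℕ}
    (hK : FlatMod.IsFinLocFreeOfRank s K) (hE : FlatMod.IsFinLocFreeOfRank n E)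
    (hV : FlatMod.IsFinLocFreeOfRank r V) (hn : n = s + r) (𝓔 : ParSh.Str E) (h𝓔 : 𝓔.Along I)
    (j : K ⟶ E) [Mono j] (q : E ⟶ V) [Epi q] (w : j ≫ q = 0) (hex : (ShortComplex.mk j q w).Exact) :
    𝓔.parDeg k X n = (𝓔.induced j).parDeg k X s + (𝓔.coinduced q).parDeg k X r := by
  have hKf := Groth.LocFree.isFinLocFree_of_rank hK
  have hVf := Groth.LocFree.isFinLocFree_of_rank hV
  have hKc := Groth.KTheory.LocFree.isCoh hKf
  have hVc := Groth.KTheory.LocFree.isCoh hVf
  haveI := (twist_exact I hKf).1
  haveI := (twist_exact I hVf).1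
  have key : ∀ t : Fin (𝓔.l + 2), (Curv2.euler k X (𝓔.pieceX t : X.Modules) : ℝ) =
      Curv2.euler k X ((𝓔.induced j).pieceX t : X.Modules) + Curv2.euler k X ((𝓔.coinduced q).pieceX t : X.Modules) := by
    intro t
    rw [Groth.HilbStab.Par.induced_pieceX, Groth.HilbStab.Par.coinduced_pieceX]
    set A := 𝓔.pieceX t
    have hbot : ParSh.twistSub I E ≤ A := h𝓔 ▸ 𝓔.bot_le_pieceX t
    have hfP : Groth.EulerDeg.FinCoh k (((Subobject.pullback j).obj A : Subobject K) : X.Modules) := by
      refine finCoh_sub k hdim (isCoh_twist I hD hK) hKc (ParSh.twistMap I K) (genSurj_twistMap I hD K) _ ?_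
      rw [Limits.pullback_factors_iff, ← twistMap_natural]
      exact Subobject.factors_of_le _ hbot (Subobject.factors_of_factors_right _ (twistSub_factors_self I E))
    have hfI : Groth.EulerDeg.FinCoh k ((imageSubobject (A.arrow ≫ q) : Subobject V) : X.Modules) := by
      refine finCoh_sub k hdim (isCoh_twist I hD hV) hVc (ParSh.twistMap I V) (genSurj_twistMap I hD V) _ ?_
      refine Subobject.factors_of_le _ ?_ (twistSub_factors_self I V)
      rw [← image_twistSub I q, ← Subobject.ofLE_arrow hbot, Category.assoc]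
      exact imageSubobject_comp_le _ _
    obtain ⟨e⟩ := exists_pullback_ses j q w hex A
    let g := factorThruImageSubobject (A.arrow ≫ q)
    have hS : (ShortComplex.mk (kernel.ι g) g (kernel.condition g)).ShortExact :=
      { exact := ShortComplex.exact_kernel g }
    have h := Groth.EulerDeg.euler_add (k := k) hS (hfP.of_iso e) hfI
    rw [Groth.EulerDeg.euler_congr k e]
    exact_mod_cast h
  have hwt : 𝓔.parWt k X = (𝓔.induced j).parWt k X + (𝓔.coinduced q).parWt k X := by
    let A : Fin (𝓔.l + 1) → ℝ := fun t => 𝓔.wt t * ((Curv2.euler k X ((𝓔.induced j).pieceX t.castSucc : X.Modules) : ℝ) -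
      Curv2.euler k X ((𝓔.induced j).pieceX t.succ : X.Modules))
    let B : Fin (𝓔.l + 1) → ℝ := fun t => 𝓔.wt t * ((Curv2.euler k X ((𝓔.coinduced q).pieceX t.castSucc : X.Modules) : ℝ) -
      Curv2.euler k X ((𝓔.coinduced q).pieceX t.succ : X.Modules))
    have hA : (𝓔.induced j).parWt k X = ∑ t, A t := by
      simp only [ParSh.Str.parWt]
      refine Finset.sum_congr rfl fun t _ => ?_
      rw [← ParSh.Str.pieceX_castSucc (𝓔.induced j) t]
      rfl
    have hB : (𝓔.coinduced q).parWt k X = ∑ t, B t := by
      simp only [ParSh.Str.parWt]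
      refine Finset.sum_congr rfl fun t _ => ?_
      rw [← ParSh.Str.pieceX_castSucc (𝓔.coinduced q) t]
      rfl
    rw [hA, hB, ← Finset.sum_add_distrib]
    simp only [ParSh.Str.parWt]
    refine Finset.sum_congr rfl fun t _ => ?_
    rw [← ParSh.Str.pieceX_castSucc 𝓔 t, key t.castSucc, key t.succ]
    simp only [A, B]
    ring
  have hS : (ShortComplex.mk j q w).ShortExact := { exact := hex }
  have hdeg := Groth.DegMono.deg_add_of_ses k hS hKc hVc hn
  simp only [ParSh.Str.parDeg, hwt]
  have : (Curv2.deg k X E n : ℝ) = Curv2.deg k X K s + Curv2.deg k X V r := by exact_mod_cast hdeg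
  rw [this]
  ring

end Groth.ParCurve
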