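import Groth.Agent.Misc14.ParWeights
import Groth.Agent.DegMono.GPMor
import Groth.Agent.EulerDeg.Tensor
import Groth.Agent.EulerDeg.GenericRank
import Groth.Agent.KTheory.LambdaVb
import Groth.Agent.PicAux.EffCartierLine
import Groth.Agent.LocFree.Tensor

/-!
# Parabolic degree of images and saturations on curves
-/

set_option autoImplicit false

universe u

open CategoryTheory CategoryTheory.Limits AlgebraicGeometry TensorProduct

namespace Groth.ParCurve

open Groth.KTheory.LocFree (stalkₗ)
open Groth.DegMono (IsTors toRestrict)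

variable {X : Scheme.{u}}

theorem stalkₗ_comp {A B C : X.Modules} (a : A ⟶ B) (b : B ⟶ C) (x : X) (v : A.presheaf.stalk x) :
    stalkₗ (a ≫ b) x v = stalkₗ b x (stalkₗ a x v) :=
  congr($((Groth.QCohMod.stalk x).map_comp a b) v)

theorem stalkₗ_zero {A B : X.Modules} (x : X) (v : A.presheaf.stalk x) :
    stalkₗ (0 : A ⟶ B) x v = 0 :=
  congr($((Groth.QCohMod.stalk x).map_zero A B) v)

theorem mono_f_comp (T : ShortComplex X.Modules) (hT : T.ShortExact) {N : X.Modules} (e : T.X₂ ⟶ N) (he : Mono e) :
    Mono (T.f ≫ e) :=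
  haveI := he
  haveI := hT.mono_f
  mono_comp _ _

theorem exists_lift_of_shortExact (T : ShortComplex X.Modules) (hT : T.ShortExact) {W : X.Modules}
    (g : W ⟶ T.X₂) (h : g ≫ T.g = 0) : ∃ l, l ≫ T.f = g :=
  haveI := hT.mono_f
  ⟨hT.exact.lift g h, hT.exact.lift_f g h⟩

/-- The twist as a tensored exact sequence. -/
theorem twist_exact (I : X.IdealSheafData) {E : X.Modules} (hE : FlatMod.IsFinLocFree E) :
    Mono (ParSh.twistMap I E) ∧ ∀ {W : X.Modules} (g : W ⟶ E), g ≫ toRestrict I E = 0 →
      ∃ l : W ⟶ CohB1.tensorMod E (ClSub.idealMod I), l ≫ ParSh.twistMap I E = g := by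
  let S := ShortComplex.mk (ClSub.idealModι I) (ClSub.toSubscheme I) (kernel.condition (ClSub.toSubscheme I))
  haveI : S.X₁.IsQuasicoherent := Groth.OmegaSheaf.isQCoh_idealMod I
  haveI : S.X₂.IsQuasicoherent := Groth.PicAux.isQCoh_structureModule X
  haveI : S.X₃.IsQuasicoherent := Groth.OmegaSheaf.isQCoh_quotMod I
  have hT := Groth.KTheory.LambdaVb.shortExact_tensor hE (Groth.PicAux.shortExact_idealMod I)
  let T := S.map ((DCoh.tensorBi (X := X)).obj E)
  have hT' : T.ShortExact := hT
  have h0 : ParSh.twistMap I E = T.f ≫ (SecTwist.unitorR E).hom := by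
    rw [ParSh.twistMap, KoszTw.tensorMap, CategoryTheory.Functor.map_id]
    exact congrArg (· ≫ _) (Category.id_comp _)
  have h1 : toRestrict I E = (SecTwist.unitorR E).inv ≫ T.g := by
    rw [toRestrict, KoszTw.tensorMap, CategoryTheory.Functor.map_id]
    exact congrArg (_ ≫ ·) (Category.id_comp _)
  refine ⟨h0 ▸ mono_f_comp T hT' _ (@IsIso.mono_of_iso _ _ _ _ _ (Iso.isIso_hom (SecTwist.unitorR E))), fun {W} g hg => ?_⟩
  have hgb : (g ≫ (SecTwist.unitorR E).inv) ≫ T.g = 0 :=
    (Category.assoc _ _ _).trans ((congrArg (g ≫ ·) h1.symm).trans hg)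
  obtain ⟨l, hl⟩ := exists_lift_of_shortExact T hT' _ hgb
  refine ⟨l, ?_⟩
  refine (congrArg (l ≫ ·) h0).trans ((Category.assoc _ _ _).symm.trans ?_)
  refine (congrArg (· ≫ (SecTwist.unitorR E).hom) hl).trans ?_
  exact (Category.assoc _ _ _).trans ((congrArg (g ≫ ·) (SecTwist.unitorR E).inv_hom_id).trans (Category.comp_id _))

theorem twistMap_toRestrict (I : X.IdealSheafData) (E : X.Modules) :
    ParSh.twistMap I E ≫ toRestrict I E = 0 := by
  rw [ParSh.twistMap, toRestrict, Category.assoc, Iso.hom_inv_id_assoc, ← KoszTw.tensorMap_comp, Category.id_comp,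
    show ClSub.idealModι I ≫ ClSub.toSubscheme I = 0 from kernel.condition _]
  rw [KoszTw.tensorMap, CategoryTheory.Functor.map_id, ((DCoh.tensorBi (X := X)).obj E).map_zero]
  exact Limits.comp_zero

theorem twistMap_natural (I : X.IdealSheafData) {E F : X.Modules} (f : E ⟶ F) :
    KoszTw.tensorMap f (𝟙 (ClSub.idealMod I)) ≫ ParSh.twistMap I F = ParSh.twistMap I E ≫ f := by
  rw [ParSh.twistMap, ParSh.twistMap, Category.assoc, ← Groth.DegMono.unitorR_natural, ← Category.assoc,
    ← Category.assoc, ← KoszTw.tensorMap_comp, ← KoszTw.tensorMap_comp]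
  simp only [Category.id_comp, Category.comp_id]

theorem twistSub_factors_self (I : X.IdealSheafData) (E : X.Modules) :
    (ParSh.twistSub I E).Factors (ParSh.twistMap I E) := by
  have := imageSubobject_factors_comp_self (ParSh.twistMap I E) (𝟙 _)
  rwa [Category.id_comp] at this

theorem epi_tensorMap_left (I : X.IdealSheafData) {E V : X.Modules} (q : E ⟶ V) [Epi q] :
    Epi (KoszTw.tensorMap q (𝟙 (ClSub.idealMod I))) := by
  refine (Groth.QCohMod.epi_iff_stalk _).mpr fun x t => ?_
  obtain ⟨w, rfl⟩ := (Groth.QCohMod.stalkTensorEquiv V (ClSub.idealMod I) x).surjective t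
  have hq : Function.Surjective (stalkₗ q x) := (Groth.QCohMod.epi_iff_stalk q).mp inferInstance x
  obtain ⟨z, rfl⟩ := LinearMap.rTensor_surjective ((ClSub.idealMod I).presheaf.stalk x) hq w
  exact ⟨_, Groth.DegMono.stalkTensor_tensorMap q (ClSub.idealMod I) x z⟩

theorem factors_of_comp_cokernel {W M : X.Modules} (B : Subobject M) (g : W ⟶ M)
    (h : g ≫ cokernel.π B.arrow = 0) : B.Factors g := by
  rw [← Abelian.monoLift_comp B.arrow g h]
  exact Subobject.factors_comp_arrow _

theorem twistSub_arrow_comp (I : X.IdealSheafData) {E W : X.Modules} (g : E ⟶ W)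
    (h : ParSh.twistMap I E ≫ g = 0) : (ParSh.twistSub I E).arrow ≫ g = 0 := by
  show (imageSubobject (ParSh.twistMap I E)).arrow ≫ g = 0
  rw [← cancel_epi (factorThruImageSubobject (ParSh.twistMap I E)), comp_zero, ← Category.assoc,
    imageSubobject_arrow_comp, h]

/-- The image of `I·E` in a quotient is `I·V`. -/
theorem image_twistSub (I : X.IdealSheafData) {E V : X.Modules} (q : E ⟶ V) [Epi q] :
    imageSubobject ((ParSh.twistSub I E).arrow ≫ q) = ParSh.twistSub I V := by
  haveI := epi_tensorMap_left I q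
  apply le_antisymm
  · refine imageSubobject_le _ ((ParSh.twistSub I V).factorThru ((ParSh.twistSub I E).arrow ≫ q)
      (factors_of_comp_cokernel _ _ ?_)) (Subobject.factorThru_arrow _ _ _)
    rw [Category.assoc]
    refine twistSub_arrow_comp I _ ?_
    rw [← Category.assoc, ← twistMap_natural, Category.assoc,
      ← Subobject.factorThru_arrow _ _ (twistSub_factors_self I V), Category.assoc, cokernel.condition, comp_zero, comp_zero]
  · refine imageSubobject_le _ ((imageSubobject ((ParSh.twistSub I E).arrow ≫ q)).factorThru (ParSh.twistMap I V) ?_) (Subobject.factorThru_arrow _ _ _)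
    refine factors_of_comp_cokernel _ _ ?_
    rw [← cancel_epi (KoszTw.tensorMap q (𝟙 (ClSub.idealMod I))), comp_zero,
      ← Category.assoc, twistMap_natural, ← Subobject.factorThru_arrow _ _ (twistSub_factors_self I E),
      Category.assoc _ _ q, Category.assoc]
    refine (congrArg (fun z => (ParSh.twistSub I E).factorThru _ (twistSub_factors_self I E) ≫ z) ?_).trans comp_zero
    refine (congrArg (· ≫ cokernel.π _) (imageSubobject_arrow_comp ((ParSh.twistSub I E).arrow ≫ q))).symm.trans ?_
    rw [Category.assoc, cokernel.condition, comp_zero]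

variable [IsIntegral X]

/-- Surjective on the generic stalks. -/
def GenSurj {A B : X.Modules} (f : A ⟶ B) : Prop := Function.Surjective (stalkₗ f (genericPoint X))

theorem GenSurj.comp {A B C : X.Modules} {a : A ⟶ B} {b : B ⟶ C} (ha : GenSurj a) (hb : GenSurj b) :
    GenSurj (a ≫ b) := fun w => by
  obtain ⟨v, rfl⟩ := hb w
  obtain ⟨u, rfl⟩ := ha v
  exact ⟨u, stalkₗ_comp a b _ u⟩

theorem GenSurj.isTors_cokernel {A B : X.Modules} {f : A ⟶ B} (hf : GenSurj f) : IsTors (cokernel f) := by
  refine subsingleton_of_forall_eq 0 fun t => ?_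
  obtain ⟨v, rfl⟩ := (Groth.QCohMod.epi_iff_stalk (cokernel.π f)).mp inferInstance (genericPoint X) t
  obtain ⟨w, rfl⟩ := hf v
  refine (stalkₗ_comp f (cokernel.π f) _ w).symm.trans ?_
  rw [cokernel.condition, stalkₗ_zero]

theorem genSurj_of_isTors {A B : X.Modules} (f : A ⟶ B) (h : IsTors (cokernel f)) : GenSurj f := by
  intro v
  have hex := (ShortComplex.exact_cokernel f).map (Groth.QCohMod.stalk (genericPoint X))
  rw [ShortComplex.ab_exact_iff] at hex
  exact hex v (@Subsingleton.elim _ h _ _)

theorem genSurj_twistMap (I : X.IdealSheafData) (hI : FGA.IsEffCartier I) (E : X.Modules) :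
    GenSurj (ParSh.twistMap I E) := by
  have hη : genericPoint X ∉ (I.support : Set X) := by
    obtain ⟨U, hxU, a, ha, hIU⟩ := hI (genericPoint X)
    intro hmem
    rw [SetLike.mem_coe, Scheme.IdealSheafData.mem_support_iff_of_mem hxU, hIU] at hmem
    simp only [Scheme.zeroLocus_span, Scheme.mem_zeroLocus_iff, Set.mem_singleton_iff, forall_eq] at hmem
    apply hmem
    rw [Scheme.mem_basicOpen X a _ hxU]
    have : Nonempty U.1 := ⟨⟨_, hxU⟩⟩
    refine IsUnit.mk0 (G₀ := X.functionField) _ fun h => nonZeroDivisors.ne_zero ha ?_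
    exact (map_eq_zero_iff _ (AlgebraicGeometry.germ_injective_of_isIntegral X (genericPoint X) hxU)).1 h
  exact Groth.HilbStab.Par.surjective_stalk_twistMap I E hη

variable (k : Type u) [Field k] [X.Over (Spec (CommRingCat.of k))] [IsProper (X ↘ Spec (CommRingCat.of k))]
  (hdim : topologicalKrullDim X ≤ 1)

include hdim in
theorem finCoh_sub_tors {Q T : X.Modules} (hT : Coh.IsCoh T) (ht : IsTors T) (m : Q ⟶ T) [Mono m] :
    Groth.EulerDeg.FinCoh k Q where
  finite n := by
    cases n with
    | zero =>
      haveI := (Groth.DegMono.finCoh k hT).finite 0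
      exact Module.Finite.of_injective (Groth.EulerDeg.hMap k m 0) (Groth.DegMono.hMap_injective_of_mono k m)
    | succ n =>
      haveI := Groth.DegMono.subsingleton_HH_succ k hdim (ht.of_mono m) n
      exact Module.Finite.of_finite
  bounded := ⟨1, fun n hn => by
    obtain ⟨m', rfl⟩ : ∃ j, n = j + 1 := ⟨n - 1, by omega⟩
    exact Groth.DegMono.subsingleton_HH_succ k hdim (ht.of_mono m) m'⟩

include hdim in
/-- Subobjects containing a coherent module of full rank have finite cohomology. -/
theorem finCoh_sub {K M : X.Modules} (hK : Coh.IsCoh K) (hM : Coh.IsCoh M) (c : K ⟶ M) [Mono c]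
    (hc : GenSurj c) (A : Subobject M) (hA : A.Factors c) :
    Groth.EulerDeg.FinCoh k (A : X.Modules) := by
  haveI := hK.1
  let l := A.factorThru c hA
  have hl : l ≫ A.arrow = c := Subobject.factorThru_arrow _ _ _
  haveI : Mono l := mono_of_mono_fac hl
  have sq : IsPullback l (𝟙 K) A.arrow c := IsPullback.of_isLimit' ⟨by rw [hl, Category.id_comp]⟩
    (PullbackCone.IsLimit.mk _ (fun s => s.snd)
      (fun s => by rw [← cancel_mono A.arrow, Category.assoc, hl, s.condition])
      (fun s => Category.comp_id _)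
      (fun s m _ h2 => by simpa using h2))
  haveI := Abelian.mono_cokernel_map_of_isPullback sq
  have h3 := finCoh_sub_tors k hdim (Groth.QCohMod.isCoh_cokernel c hM) hc.isTors_cokernel (cokernel.map _ _ _ _ sq.w)
  exact Groth.EulerDeg.FinCoh.mid (S := ShortComplex.mk l (cokernel.π l) (cokernel.condition l))
    { exact := ShortComplex.exact_cokernel l } (Groth.DegMono.finCoh k hK) h3

include hdim in
/-- The Euler characteristic grows along subobjects of full rank. -/
theorem euler_le {K M : X.Modules} (hK : Coh.IsCoh K) (hM : Coh.IsCoh M) (c : K ⟶ M) [Mono c]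
    (hc : GenSurj c) (A B : Subobject M) (hA : A.Factors c) (hAB : A ≤ B) :
    Curv2.euler k X (A : X.Modules) ≤ Curv2.euler k X (B : X.Modules) := by
  have hfA := finCoh_sub k hdim hK hM c hc A hA
  have hfB := finCoh_sub k hdim hK hM c hc B (Subobject.factors_of_le _ hAB hA)
  let o := Subobject.ofLE A B hAB
  have hS : (ShortComplex.mk o (cokernel.π o) (cokernel.condition o)).ShortExact :=
    { exact := ShortComplex.exact_cokernel o }
  have hf3 := Groth.EulerDeg.FinCoh.right hS hfA hfB
  have h := Groth.EulerDeg.euler_add (k := k) hS hfA hf3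
  have ho : GenSurj o := fun v => by
    obtain ⟨w, hw⟩ := hc (stalkₗ B.arrow _ v)
    refine ⟨stalkₗ (A.factorThru c hA) _ w, (Groth.QCohMod.mono_iff_stalk B.arrow).mp inferInstance _ ?_⟩
    show stalkₗ B.arrow _ (stalkₗ o _ _) = stalkₗ B.arrow _ v
    rw [← stalkₗ_comp, ← stalkₗ_comp, Subobject.ofLE_arrow, Subobject.factorThru_arrow, hw]
  have h3 : 0 ≤ Curv2.euler k X (cokernel o) := by
    rw [Groth.DegMono.euler_cokernel k hdim o ho.isTors_cokernel]
    exact Int.natCast_nonneg _
  change Curv2.euler k X (B : X.Modules) = _ at h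
  change _ = Curv2.euler k X (A : X.Modules) + Curv2.euler k X (cokernel o) at h
  omega

theorem isInvertible_idealMod (I : X.IdealSheafData) (hD : FGA.IsEffCartier I) :
    PicF.IsInvertible (ClSub.idealMod I) := Groth.PicAux.isInvertible_idealMod hD

include hdim in
/-- `χ(I·E) = χ(E) + r deg I`. -/
theorem euler_twistSub (I : X.IdealSheafData) (hD : FGA.IsEffCartier I) {E : X.Modules} {n : ℕ}
    (hE : FlatMod.IsFinLocFreeOfRank n E) :
    Curv2.euler k X ((ParSh.twistSub I E : Subobject E) : X.Modules) =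
      Curv2.euler k X E + n * Curv2.deg k X (ClSub.idealMod I) 1 := by
  haveI := (twist_exact I (Groth.LocFree.isFinLocFree_of_rank hE)).1
  have h := Groth.EulerDeg.deg_tensor k hdim hE
    (Groth.LocFree.isInvertible_iff_ofRank_one.mp (isInvertible_idealMod I hD))
  rw [ParSh.twistSub, Groth.EulerDeg.euler_congr k (Subobject.isoOfEq _ _ (imageSubobject_mono (ParSh.twistMap I E)) ≪≫ Subobject.underlyingIso _)]
  simp only [Curv2.deg, mul_one, Nat.cast_one, one_mul] at h ⊢
  linarith

theorem isCoh_twist (I : X.IdealSheafData) (hD : FGA.IsEffCartier I) {E : X.Modules} {n : ℕ}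
    (hE : FlatMod.IsFinLocFreeOfRank n E) : Coh.IsCoh (CohB1.tensorMod E (ClSub.idealMod I)) :=
  Groth.KTheory.LocFree.isCoh (Groth.LocFree.isFinLocFree_of_rank (Groth.LocFree.isFinLocFreeOfRank_tensorMod hE
    (Groth.LocFree.isInvertible_iff_ofRank_one.mp (isInvertible_idealMod I hD))))

include hdim in
theorem parDeg_coinduced_le (I : X.IdealSheafData) (hD : FGA.IsEffCartier I)
    {E F V V' : X.Modules} {r : ℕ}
    (𝓔 : ParSh.Str E) (h𝓔 : 𝓔.Along I) (𝓕 : ParSh.Str F) (h𝓕 : 𝓕.Along I)
    (φ : E ⟶ F) (hφ : ParSh.IsParHom 𝓔 𝓕 φ)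
    (q : E ⟶ V) [Epi q] (v : V ⟶ V') [Mono v] (ι : V' ⟶ F) [Mono ι] (hfac : q ≫ v ≫ ι = φ)
    (hV : FlatMod.IsFinLocFreeOfRank r V) (hV' : FlatMod.IsFinLocFreeOfRank r V')
    (hsat : FlatMod.IsFinLocFree (cokernel ι)) :
    (𝓔.coinduced q).parDeg k X r ≤ (𝓕.induced ι).parDeg k X r := by
  have hVf := Groth.LocFree.isFinLocFree_of_rank hV
  have hVf' := Groth.LocFree.isFinLocFree_of_rank hV'
  have hVc := Groth.KTheory.LocFree.isCoh hVf
  have hVc' := Groth.KTheory.LocFree.isCoh hVf'
  haveI := (twist_exact I hVf).1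
  -- the bottoms
  have hbot : (𝓔.coinduced q).bot = ParSh.twistSub I V := by
    show imageSubobject (𝓔.bot.arrow ≫ q) = _
    rw [show 𝓔.bot = ParSh.twistSub I E from h𝓔]
    exact image_twistSub I q
  have hbot' : (𝓕.induced ι).bot = ParSh.twistSub I V' := by
    show (Subobject.pullback ι).obj 𝓕.bot = _
    rw [show 𝓕.bot = ParSh.twistSub I F from h𝓕]
    apply le_antisymm
    · set P := (Subobject.pullback ι).obj (ParSh.twistSub I F)
      refine Subobject.le_of_comm ?_ ?_
      rotate_left
      swap
      · refine (ParSh.twistSub I V').factorThru P.arrow ?_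
        haveI := Groth.DegMono.mono_tensorMap_of_shortExact
          (S := ShortComplex.mk ι (cokernel.π ι) (cokernel.condition ι)) { exact := ShortComplex.exact_cokernel ι }
          hsat (ClSub.quotMod I)
        have h0 : P.arrow ≫ toRestrict I V' = 0 := by
          rw [← cancel_mono (KoszTw.tensorMap ι (𝟙 (ClSub.quotMod I))), Category.assoc, ← Groth.DegMono.toRestrict_natural,
            zero_comp, ← Category.assoc]
          have hP : (ParSh.twistSub I F).Factors (P.arrow ≫ ι) :=
            (Limits.pullback_factors_iff ι _ _).mp (Subobject.factors_self P)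
          rw [← Subobject.factorThru_arrow _ _ hP, Category.assoc]
          have : (ParSh.twistSub I F).arrow ≫ toRestrict I F = 0 := by
            exact twistSub_arrow_comp I _ (twistMap_toRestrict I F)
          rw [this, comp_zero]
        obtain ⟨l, hl⟩ := (twist_exact I hVf').2 P.arrow h0
        rw [← hl]
        exact Subobject.factors_of_factors_right l (twistSub_factors_self I V')
      · exact Subobject.factorThru_arrow _ _ _
    · refine imageSubobject_le _ (((Subobject.pullback ι).obj (ParSh.twistSub I F)).factorThru (ParSh.twistMap I V') ?_)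
        (Subobject.factorThru_arrow _ _ _)
      rw [Limits.pullback_factors_iff, ← twistMap_natural]
      exact Subobject.factors_of_factors_right _ (twistSub_factors_self I F)
  -- comparison of the filtrations
  let c : CohB1.tensorMod V (ClSub.idealMod I) ⟶ V' := ParSh.twistMap I V ≫ v
  have hgv : GenSurj v := genSurj_of_isTors v (Groth.DegMono.subsingleton_stalk_cokernel hV hV' v)
  have hc : GenSurj c := (genSurj_twistMap I hD V).comp hgv
  have hle : ∀ a ∈ Set.Ioc (0 : ℝ) 1,
      Curv2.euler k X (((𝓔.coinduced q).at a : Subobject V) : X.Modules) ≤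
        Curv2.euler k X (((𝓕.induced ι).at a : Subobject V') : X.Modules) := by
    intro a ha
    set A := (𝓔.coinduced q).at a
    let e : (A : X.Modules) ≅ ((Subobject.mk (A.arrow ≫ v) : Subobject V') : X.Modules) :=
      (Subobject.underlyingIso _).symm
    rw [Groth.EulerDeg.euler_congr k e]
    have hbA : A.Factors (ParSh.twistMap I V) :=
      Subobject.factors_of_le _ ((𝓔.coinduced q).bot_le_at a) (hbot ▸ twistSub_factors_self I V)
    refine euler_le k hdim (isCoh_twist I hD hV) hVc' c hc _ _ ?_ ?_
    · refine (Subobject.mk_factors_iff _ _).mpr ⟨A.factorThru _ hbA, ?_⟩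
      show A.factorThru _ hbA ≫ A.arrow ≫ v = c
      rw [← Category.assoc, Subobject.factorThru_arrow]
    · refine Subobject.mk_le_of_comm (((𝓕.induced ι).at a).factorThru (A.arrow ≫ v) ?_) (Subobject.factorThru_arrow _ _ _)
      rw [induced_at, Limits.pullback_factors_iff]
      have hA : A = imageSubobject ((𝓔.at a).arrow ≫ q) := coinduced_at 𝓔 q a
      have hle : A ≤ (Subobject.pullback (v ≫ ι)).obj (𝓕.at a) := by
        rw [hA]
        refine imageSubobject_le _ (((Subobject.pullback (v ≫ ι)).obj (𝓕.at a)).factorThru _ ?_) (Subobject.factorThru_arrow _ _ _)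
        rw [Limits.pullback_factors_iff, Category.assoc, hfac]
        exact hφ a ha.1.le ha.2
      have := Subobject.factors_of_le _ hle (Subobject.factors_self A)
      rw [Limits.pullback_factors_iff] at this
      rwa [Category.assoc]
  have h1 := euler_twistSub k hdim I hD hV
  have h2 := euler_twistSub k hdim I hD hV'
  have hwt := parWt_le k (𝓔.coinduced q) (𝓕.induced ι) ((Curv2.euler k X V' : ℝ) - Curv2.euler k X V) fun a ha => by
    have h := (Int.cast_le (R := ℝ)).2 (hle a ha)
    rw [hbot, hbot', h1, h2]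
    push_cast
    linarith
  simp only [ParSh.Str.parDeg, Curv2.deg]
  push_cast
  linarith

end Groth.ParCurve
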