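import Groth.Agent.HilbStab.Par.Morph
import Mathlib

/-!
# Weight terms of parabolic structures as integrals; filtrations of induced structures
-/

set_option autoImplicit false

universe u v

open CategoryTheory CategoryTheory.Limits MeasureTheory AlgebraicGeometry

namespace Groth.ParCurve

/-- Comparison of weighted sums through the associated step functions. -/
theorem weighted_sum_le {ι ι' : Type*} [Fintype ι] [Fintype ι'] (w c : ι → ℝ) (w' c' : ι' → ℝ) (d : ℝ)
    (hw : ∀ j, w j ∈ Set.Icc (0 : ℝ) 1) (hw' : ∀ j, w' j ∈ Set.Icc (0 : ℝ) 1)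
    (h : ∀ a ∈ Set.Ioc (0 : ℝ) 1,
      (∑ j, if a ≤ w j then c j else 0) ≤ (∑ j, if a ≤ w' j then c' j else 0) + d) :
    ∑ j, w j * c j ≤ (∑ j, w' j * c' j) + d := by
  have hint : ∀ (t b : ℝ), IntegrableOn (fun a : ℝ => if a ≤ t then b else 0) (Set.Ioc 0 1) := fun t b => by
    have : (fun a : ℝ => if a ≤ t then b else 0) = (Set.Iic t).indicator fun _ => b := by
      funext a; simp [Set.indicator_apply]
    rw [this]
    exact (integrableOn_const (by simp)).indicator measurableSet_Iic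
  have hval : ∀ (t b : ℝ), t ∈ Set.Icc (0 : ℝ) 1 → (∫ a in Set.Ioc (0 : ℝ) 1, if a ≤ t then b else 0) = t * b := fun t b ht => by
    have : (fun a : ℝ => if a ≤ t then b else 0) = (Set.Iic t).indicator fun _ => b := by
      funext a; simp [Set.indicator_apply]
    rw [this, setIntegral_indicator measurableSet_Iic, setIntegral_const,
      show Set.Ioc (0 : ℝ) 1 ∩ Set.Iic t = Set.Ioc 0 t by
        ext a; simp only [Set.mem_inter_iff, Set.mem_Ioc, Set.mem_Iic]; exact ⟨fun h => ⟨h.1.1, h.2⟩, fun h => ⟨⟨h.1, h.2.trans ht.2⟩, h.2⟩⟩]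
    simp [Real.volume_real_Ioc_of_le ht.1]
  have hL : IntegrableOn (fun a : ℝ => ∑ j, if a ≤ w j then c j else 0) (Set.Ioc 0 1) :=
    integrable_finsetSum _ fun j _ => hint _ _
  have hR : IntegrableOn (fun a : ℝ => ∑ j, if a ≤ w' j then c' j else 0) (Set.Ioc 0 1) :=
    integrable_finsetSum _ fun j _ => hint _ _
  have hd : IntegrableOn (fun _ : ℝ => d) (Set.Ioc 0 1) := integrableOn_const (by simp)
  have key := setIntegral_mono_on hL (hR.add hd) measurableSet_Ioc fun a ha => h a ha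
  rw [integral_finsetSum _ fun j _ => hint _ _] at key
  have hR' : (∫ a in Set.Ioc (0 : ℝ) 1, (∑ j, if a ≤ w' j then c' j else 0) + d) = (∑ j, w' j * c' j) + d := by
    rw [integral_add hR hd, integral_finsetSum _ fun j _ => hint _ _, setIntegral_const]
    simp [Finset.sum_congr rfl fun j _ => hval (w' j) (c' j) (hw' j), Real.volume_real_Ioc_of_le zero_le_one]
  rw [Finset.sum_congr rfl fun j _ => hval (w j) (c j) (hw j)] at key
  exact key.trans_eq hR'

theorem wt_mem_Icc {C : Type u} [Category.{v} C] {E : C} (𝓔 : ParSh.Str E) (j : Fin (𝓔.l + 1)) :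
    𝓔.wt j ∈ Set.Icc (0 : ℝ) 1 :=
  ⟨𝓔.wt_nonneg.trans (𝓔.wt_strictMono.monotone (Fin.zero_le j)),
    (𝓔.wt_strictMono.monotone (Fin.le_last j)).trans 𝓔.wt_lt_one.le⟩

theorem exists_first {C : Type u} [Category.{v} C] {E : C} (𝓔 : ParSh.Str E) (a : ℝ) :
    (∀ j, 𝓔.wt j < a) ∨ ∃ j, a ≤ 𝓔.wt j ∧ ∀ j' < j, 𝓔.wt j' < a := by
  by_cases h : ∀ j, 𝓔.wt j < a
  · exact Or.inl h
  push Not at h
  have hne : (Finset.univ.filter fun j => a ≤ 𝓔.wt j).Nonempty := by
    obtain ⟨j, hj⟩ := h; exact ⟨j, by simp [hj]⟩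
  refine Or.inr ⟨_, (Finset.mem_filter.1 (Finset.min'_mem _ hne)).2, fun j' hj' => ?_⟩
  by_contra hle
  exact absurd (Finset.min'_le _ j' (by simp [not_lt.1 hle])) (not_le.2 hj')

section Scheme

variable {X : Scheme.{u}} {E : X.Modules}

/-- The step function of the weights telescopes to a piece of the filtration. -/
theorem sum_steps_eq_at (𝓔 : ParSh.Str E) (f : X.Modules → ℝ) (a : ℝ) :
    (∑ j : Fin (𝓔.l + 1), if a ≤ 𝓔.wt j then f (𝓔.piece j : X.Modules) - f (𝓔.pieceX j.succ : X.Modules) else 0) =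
      f ((𝓔.at a : Subobject E) : X.Modules) - f (𝓔.bot : X.Modules) := by
  let F : Fin (𝓔.l + 2) → ℝ := fun j => f (𝓔.pieceX j : X.Modules)
  have htel : ∀ i : Fin (𝓔.l + 2),
      (∑ j : Fin (𝓔.l + 1), if i ≤ j.castSucc then F j.castSucc - F j.succ else 0) = F i - F (Fin.last _) := by
    intro i
    induction i using Fin.reverseInduction with
    | last =>
      rw [sub_self]
      exact Finset.sum_eq_zero fun j _ => if_neg (not_le.2 (Fin.castSucc_lt_last j))
    | cast i ih =>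
      rw [← sub_add_sub_cancel (F i.castSucc) (F i.succ) (F (Fin.last _)), ← ih,
        ← Finset.sum_ite_eq' Finset.univ i (fun j => F j.castSucc - F j.succ) |>.trans (if_pos (Finset.mem_univ i)),
        ← Finset.sum_add_distrib]
      refine Finset.sum_congr rfl fun j _ => ?_
      rcases lt_trichotomy j i with h | rfl | h
      · simp [h.ne, not_le.2 h, Fin.succ_le_castSucc_iff, not_lt.2 h.le]
      · simp
      · simp [h.ne', h.le, Fin.succ_le_castSucc_iff, h]
  have hF : ∀ j : Fin (𝓔.l + 1), f (𝓔.piece j : X.Modules) = F j.castSucc := fun j => by simp [F]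
  rcases exists_first 𝓔 a with h | ⟨i, hi, hlt⟩
  · rw [𝓔.at_eq_bot h, sub_self]
    exact Finset.sum_eq_zero fun j _ => if_neg (not_le.2 (h j))
  · rw [𝓔.at_eq_piece i hi hlt, hF i, show f (𝓔.bot : X.Modules) = F (Fin.last _) by simp [F], ← htel]
    refine Finset.sum_congr rfl fun j _ => ?_
    rw [hF j]
    by_cases hj : i ≤ j
    · rw [if_pos (hi.trans (𝓔.wt_strictMono.monotone hj)), if_pos (Fin.castSucc_le_castSucc_iff.2 hj)]
    · rw [if_neg (not_le.2 (hlt j (not_le.1 hj))), if_neg (by simpa using hj)]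

theorem induced_at {F : X.Modules} (𝓔 : ParSh.Str E) (i : F ⟶ E) (a : ℝ) :
    (𝓔.induced i).at a = (Subobject.pullback i).obj (𝓔.at a) := by
  rcases exists_first 𝓔 a with h | ⟨j, hj, hlt⟩
  · rw [𝓔.at_eq_bot h]; exact (𝓔.induced i).at_eq_bot h
  · rw [𝓔.at_eq_piece j hj hlt]; exact (𝓔.induced i).at_eq_piece j hj hlt

theorem coinduced_at {G : X.Modules} (𝓔 : ParSh.Str E) (p : E ⟶ G) [Epi p] (a : ℝ) :
    (𝓔.coinduced p).at a = imageSubobject ((𝓔.at a).arrow ≫ p) := by
  rcases exists_first 𝓔 a with h | ⟨j, hj, hlt⟩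
  · rw [𝓔.at_eq_bot h]; exact (𝓔.coinduced p).at_eq_bot h
  · rw [𝓔.at_eq_piece j hj hlt]; exact (𝓔.coinduced p).at_eq_piece j hj hlt

variable (k : Type u) [Field k] [X.Over (Spec (CommRingCat.of k))]

/-- Comparison of weight terms from comparison of the filtrations. -/
theorem parWt_le {V W : X.Modules} (𝓥 : ParSh.Str V) (𝓦 : ParSh.Str W) (d : ℝ)
    (h : ∀ a ∈ Set.Ioc (0 : ℝ) 1,
      ((Curv2.euler k X ((𝓥.at a : Subobject V) : X.Modules) : ℝ) - Curv2.euler k X (𝓥.bot : X.Modules)) ≤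
        ((Curv2.euler k X ((𝓦.at a : Subobject W) : X.Modules) : ℝ) - Curv2.euler k X (𝓦.bot : X.Modules)) + d) :
    𝓥.parWt k X ≤ 𝓦.parWt k X + d := by
  refine weighted_sum_le _ _ _ _ d (wt_mem_Icc 𝓥) (wt_mem_Icc 𝓦) fun a ha => ?_
  rw [sum_steps_eq_at 𝓥 (fun M => (Curv2.euler k X M : ℝ)) a, sum_steps_eq_at 𝓦 (fun M => (Curv2.euler k X M : ℝ)) a]
  exact h a ha

end Scheme

end Groth.ParCurve
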