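import Groth.Agent.Misc1.Azumaya.HenselLift
import Mathlib

/-!
# Lifting representations of finite groups of invertible order over henselian local rings
-/

set_option autoImplicit false
set_option linter.style.haveILetI false

universe u

open IsLocalRing Matrix MonoidAlgebra

namespace Groth.EquivSect

variable {G : Type u} [Group G] {n : ℕ}

/-- The scalar matrix of a group element. -/
noncomputable def grpMat (K : Type u) [CommRing K] : G →* Matrix (Fin n) (Fin n) (MonoidAlgebra K G) :=
  (Matrix.scalar (Fin n)).toMonoidHom.comp (MonoidAlgebra.of K G)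

/-- A matrix of constants. -/
noncomputable def cMat (K : Type u) [CommRing K] :
    Matrix (Fin n) (Fin n) K →+* Matrix (Fin n) (Fin n) (MonoidAlgebra K G) :=
  (algebraMap K (MonoidAlgebra K G)).mapMatrix

theorem grpMat_comm (K : Type u) [CommRing K] (g : G) (X : Matrix (Fin n) (Fin n) K) :
    grpMat K g * cMat K X = cMat K X * grpMat K g := by
  ext1 i j
  simp only [grpMat, cMat, MonoidHom.coe_comp, Function.comp_apply, RingHom.toMonoidHom_eq_coe,
    MonoidHom.coe_coe, RingHom.mapMatrix_apply, Matrix.scalar_apply, Matrix.diagonal_mul,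
    Matrix.mul_diagonal, Matrix.map_apply]
  exact (Algebra.commutes _ _).symm

/-- Reduction of matrices over the group algebra. -/
noncomputable def redMat {B K : Type u} [CommRing B] [CommRing K] (β : B →+* K) :
    Matrix (Fin n) (Fin n) (MonoidAlgebra B G) →+* Matrix (Fin n) (Fin n) (MonoidAlgebra K G) :=
  (MonoidAlgebra.mapRingHom G β).mapMatrix

theorem redMat_grpMat {B K : Type u} [CommRing B] [CommRing K] (β : B →+* K) (g : G) :
    redMat (n := n) β (grpMat B g) = grpMat K g := by
  ext1 i j
  by_cases h : i = j <;> simp [redMat, grpMat, h]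

theorem redMat_cMat {B K : Type u} [CommRing B] [CommRing K] (β : B →+* K) (X : Matrix (Fin n) (Fin n) B) :
    redMat (G := G) β (cMat B X) = cMat K (X.map β) := by
  ext1 i j
  simp [redMat, cMat]

/-- The idempotent of a matrix representation over a ring in which the group order is invertible. -/
noncomputable def repIdem [Fintype G] (K : Type u) [Field K] (M : G → Matrix (Fin n) (Fin n) K) :
    Matrix (Fin n) (Fin n) (MonoidAlgebra K G) :=
  cMat K ((Fintype.card G : K)⁻¹ • 1) * ∑ g, grpMat K g * cMat K (M g⁻¹)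

theorem repIdem_spec [Fintype G] (K : Type u) [Field K] (M : G → Matrix (Fin n) (Fin n) K)
    (hMmul : ∀ g h, M (g * h) = M h * M g) (hN : (Fintype.card G : K) ≠ 0) :
    IsIdempotentElem (repIdem K M) ∧ ∀ h, grpMat K h * repIdem K M = cMat K (M h) * repIdem K M := by
  let Θ : G → Matrix (Fin n) (Fin n) (MonoidAlgebra K G) := fun g => grpMat K g * cMat K (M g⁻¹)
  let Nm : Matrix (Fin n) (Fin n) K := (Fintype.card G : K)⁻¹ • 1
  have hΘ : ∀ g h, Θ g * Θ h = Θ (g * h) := fun g h => by
    simp only [Θ, _root_.mul_inv_rev, hMmul, map_mul]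
    rw [mul_assoc, ← mul_assoc (cMat K (M g⁻¹)), ← grpMat_comm, mul_assoc, mul_assoc]
  have hc : ∀ X : Matrix (Fin n) (Fin n) K, Nm * X = X * Nm := fun X => by simp [Nm]
  have hu : ∀ h, grpMat K h * (∑ g, Θ g) = cMat K (M h) * ∑ g, Θ g := fun h => by
    have e : ∀ g, grpMat K h * Θ g = cMat K (M h) * Θ (h * g) := fun g => by
      simp only [Θ, _root_.mul_inv_rev]
      rw [← mul_assoc (cMat K (M h)), ← grpMat_comm, mul_assoc (grpMat K (h * g)), ← map_mul (cMat K),
        show M h * M (g⁻¹ * h⁻¹) = M g⁻¹ by rw [← hMmul, inv_mul_cancel_right], map_mul (grpMat K), mul_assoc]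
    rw [Finset.mul_sum, Finset.mul_sum, Finset.sum_congr rfl fun g _ => e g]
    exact Equiv.sum_comp (Equiv.mulLeft h) fun g => cMat K (M h) * Θ g
  have hΘS : ∀ g, Θ g * (∑ k, Θ k) = ∑ k, Θ k := fun g => by
    rw [Finset.mul_sum, Finset.sum_congr rfl fun k _ => hΘ g k]
    exact Equiv.sum_comp (Equiv.mulLeft g) Θ
  have hΘN : ∀ g, Θ g * cMat K Nm = cMat K Nm * Θ g := fun g => by
    simp only [Θ]
    rw [mul_assoc, ← map_mul, ← hc, map_mul, ← mul_assoc, grpMat_comm, mul_assoc]
  refine ⟨?_, fun h => ?_⟩
  · show cMat K Nm * (∑ g, Θ g) * (cMat K Nm * ∑ g, Θ g) = cMat K Nm * ∑ g, Θ g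
    have h1 : (∑ g, Θ g) * cMat K Nm = cMat K Nm * ∑ g, Θ g := by
      rw [Finset.sum_mul, Finset.mul_sum]; exact Finset.sum_congr rfl fun g _ => hΘN g
    have h2 : (∑ g, Θ g) * (∑ g, Θ g) = cMat K ((Fintype.card G : K) • 1) * ∑ g, Θ g := by
      rw [Finset.sum_mul, Finset.sum_congr rfl fun g _ => hΘS g, Finset.sum_const, Finset.card_univ,
        Nat.cast_smul_eq_nsmul, map_nsmul, map_one, smul_mul_assoc, one_mul]
    rw [mul_assoc, ← mul_assoc (∑ g, Θ g), h1, mul_assoc, h2]
    congr 1
    rw [← mul_assoc, ← map_mul, show Nm * ((Fintype.card G : K) • 1) = 1 by simp [Nm, smul_smul, mul_inv_cancel₀ hN],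
      map_one, one_mul]
  · show grpMat K h * (cMat K Nm * ∑ g, Θ g) = cMat K (M h) * (cMat K Nm * ∑ g, Θ g)
    rw [← mul_assoc, grpMat_comm, mul_assoc, hu, ← mul_assoc, ← map_mul, hc, map_mul, mul_assoc]

/-- A representation over the residue field lifts: an idempotent of the group algebra matrices whose
row space is spanned by its rows over the constants. -/
theorem exists_lift [Fintype G] {B K : Type u} [CommRing B] [HenselianLocalRing B] [Field K]
    (β : B →+* K) (hβ : Function.Surjective β) (M : G → Matrix (Fin n) (Fin n) K)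
    (hMmul : ∀ g h, M (g * h) = M h * M g) (hN : (Fintype.card G : K) ≠ 0) :
    ∃ e : Matrix (Fin n) (Fin n) (MonoidAlgebra B G), redMat β e = repIdem K M ∧
      ∀ h, ∃ R : Matrix (Fin n) (Fin n) B, grpMat B h * e = cMat B R * e := by
  classical
  obtain ⟨hidem, hrel⟩ := repIdem_spec K M hMmul hN
  have hker : RingHom.ker β = maximalIdeal B := eq_maximalIdeal (RingHom.ker_isMaximal_of_surjective β hβ)
  haveI : Module.Finite B (MonoidAlgebra B G) :=
    Module.Finite.of_fg_top ⟨Finset.univ.image fun g => MonoidAlgebra.single g (1 : B), by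
      rw [eq_top_iff]
      intro y hy
      clear hy
      induction y using MonoidAlgebra.induction_on with
      | of g => exact Submodule.subset_span (Finset.mem_coe.2 (Finset.mem_image.2 ⟨g, Finset.mem_univ _, rfl⟩))
      | add x y hx hy => exact add_mem hx hy
      | smul r x hx => exact Submodule.smul_mem _ r hx⟩
  have hsingle : ∀ (i j : Fin n) (g : G) (b : B), β b = 0 →
      Matrix.single i j (MonoidAlgebra.single g b) ∈ maximalIdeal B • (⊤ : Submodule B (Matrix (Fin n) (Fin n) (MonoidAlgebra B G))) := fun i j g b hb => by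
    have : Matrix.single i j (MonoidAlgebra.single g b) =
        b • (Matrix.single i j (MonoidAlgebra.single g (1 : B)) : (Matrix (Fin n) (Fin n) (MonoidAlgebra B G))) := by
      rw [Matrix.smul_single, MonoidAlgebra.smul_single', mul_one]
    rw [this]
    exact Submodule.smul_mem_smul (hker ▸ hb) trivial
  have hφ : ∀ y : (Matrix (Fin n) (Fin n) (MonoidAlgebra B G)), redMat β y = 0 → y ∈ maximalIdeal B • (⊤ : Submodule B (Matrix (Fin n) (Fin n) (MonoidAlgebra B G))) := fun y hy => by
    rw [Matrix.matrix_eq_sum_single y]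
    refine Submodule.sum_mem _ fun i _ => Submodule.sum_mem _ fun j _ => ?_
    have hc : ∀ g, β ((y i j).coeff g) = 0 := fun g => by
      have h := congrArg (fun z : MonoidAlgebra K G => z.coeff g) (congrFun (congrFun hy i) j)
      simpa [redMat] using h
    rw [← MonoidAlgebra.sum_coeff_single (y i j)]
    rw [Finsupp.sum, ← Matrix.singleAddMonoidHom_apply, map_sum]
    exact Submodule.sum_mem _ fun g _ => hsingle i j g _ (hc g)
  have hsurj : Function.Surjective (MonoidAlgebra.mapRingHom G β) := fun y => by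
    induction y using MonoidAlgebra.induction_on with
    | of g => exact ⟨MonoidAlgebra.single g 1, by simp⟩
    | add x y hx hy =>
      obtain ⟨a, rfl⟩ := hx
      obtain ⟨b, rfl⟩ := hy
      exact ⟨a + b, map_add _ _ _⟩
    | smul r x hx =>
      obtain ⟨a, rfl⟩ := hx
      obtain ⟨b, rfl⟩ := hβ r
      exact ⟨b • a, by ext g; simp⟩
  choose e0 he0 using fun (p : Fin n × Fin n) => hsurj (repIdem K M p.1 p.2)
  let c : (Matrix (Fin n) (Fin n) (MonoidAlgebra B G)) := Matrix.of fun i j => e0 (i, j)
  have hc : redMat β c = repIdem K M := by ext1 i j; exact he0 (i, j)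
  obtain ⟨e, he, hec⟩ := Groth.Azum.exists_idempotent_lift_noncomm (R := B) c
    (hφ _ (by rw [map_sub, map_mul, hc, hidem.eq, sub_self]))
  have hlin : ∀ (z : (Matrix (Fin n) (Fin n) (MonoidAlgebra B G))), z ∈ maximalIdeal B • (⊤ : Submodule B (Matrix (Fin n) (Fin n) (MonoidAlgebra B G))) → redMat β z = 0 := fun z hz => by
    refine Submodule.smul_induction_on hz (fun b hb y _ => ?_) fun y y' hy hy' => by rw [map_add, hy, hy', add_zero]
    have hb0 : β b = 0 := by rwa [← RingHom.mem_ker, hker]
    rw [Algebra.smul_def, map_mul]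
    refine mul_eq_zero_of_left ?_ _
    ext1 i j
    by_cases hij : i = j <;> simp [redMat, Matrix.algebraMap_matrix_apply, hij, MonoidAlgebra.coe_algebraMap, hb0]
  have hre : redMat β e = repIdem K M := by
    rw [← hc, ← sub_eq_zero, ← map_sub]; exact hlin _ hec
  refine ⟨e, hre, fun h => ?_⟩
  choose sl hsl using hβ
  let W : Submodule B (Matrix (Fin n) (Fin n) (MonoidAlgebra B G)) := LinearMap.range ((LinearMap.mulRight B e).comp
    (Algebra.linearMap B (MonoidAlgebra B G)).mapMatrix)
  let Q : Submodule B (Matrix (Fin n) (Fin n) (MonoidAlgebra B G)) := LinearMap.range (LinearMap.mulRight B e)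
  have hW : ∀ X : Matrix (Fin n) (Fin n) B, cMat B X * e ∈ W := fun X => ⟨X, rfl⟩
  have hQ : Q ≤ W ⊔ maximalIdeal B • Q := by
    rintro _ ⟨y, rfl⟩
    show y * e ∈ _
    have hterm : ∀ (g : G) (i j : Fin n), (cMat B (y.map fun z => z.coeff g) * grpMat B g : (Matrix (Fin n) (Fin n) (MonoidAlgebra B G))) i j =
        MonoidAlgebra.single g ((y i j).coeff g) := fun g i j => by
      simp only [cMat, grpMat, RingHom.mapMatrix_apply, MonoidHom.coe_comp, Function.comp_apply,
        RingHom.toMonoidHom_eq_coe, MonoidHom.coe_coe, Matrix.scalar_apply, Matrix.mul_diagonal, Matrix.map_apply]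
      simp [MonoidAlgebra.coe_algebraMap]
    have hy : y = ∑ g, cMat B (y.map fun z => z.coeff g) * grpMat B g := by
      funext i j
      refine Eq.trans ?_ (Matrix.sum_apply i j Finset.univ _).symm
      rw [Finset.sum_congr rfl fun g _ => hterm g i j]
      exact (MonoidAlgebra.sum_coeff_single (y i j)).symm.trans (Finsupp.sum_fintype _ _ fun g => by simp)
    rw [hy, Finset.sum_mul]
    refine Submodule.sum_mem _ fun g _ => ?_
    set X := y.map fun z => z.coeff g
    let R := (M g).map sl
    have hR : R.map β = M g := by ext i j; exact hsl _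
    have hd : cMat B X * (grpMat B g * e - cMat B R * e) ∈ maximalIdeal B • Q := by
      have h0 : cMat B X * (grpMat B g * e - cMat B R * e) ∈ maximalIdeal B • (⊤ : Submodule B (Matrix (Fin n) (Fin n) (MonoidAlgebra B G))) := hφ _ (by
        rw [map_mul, map_sub, map_mul, map_mul, redMat_grpMat, redMat_cMat β R, hR, hre, hrel, sub_self, mul_zero])
      have h1 := Submodule.mem_map_of_mem (f := LinearMap.mulRight B e) h0
      rw [Submodule.map_smul'', Submodule.map_top, LinearMap.mulRight_apply] at h1
      simpa only [mul_assoc, sub_mul, he.eq] using h1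
    have : cMat B X * grpMat B g * e = cMat B (X * R) * e + cMat B X * (grpMat B g * e - cMat B R * e) := by
      simp only [map_mul, mul_sub, mul_assoc]; abel
    rw [this]
    exact add_mem (Submodule.mem_sup_left (hW _)) (Submodule.mem_sup_right hd)
  have hQW : Q ≤ W := Submodule.le_of_le_smul_of_le_jacobson_bot (Module.Finite.iff_fg.1 inferInstance)
    (maximalIdeal_le_jacobson _) hQ
  obtain ⟨R, hR⟩ := hQW ⟨grpMat B h, rfl⟩
  exact ⟨R, hR.symm⟩

end Groth.EquivSect
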