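import Groth.Agent.Misc14.SmoothLiftPoint
import Mathlib

/-!
# Lifting a smooth closed subscheme near a finite set of points
-/

set_option autoImplicit false
set_option linter.style.haveILetI false

universe u

open CategoryTheory CategoryTheory.Limits AlgebraicGeometry TopologicalSpace

namespace Groth.SmoothLift

variable {Y X₁ Z Z₁ : Scheme.{u}} [IsAffine Y] (φ : Y ⟶ X₁) (i : Z ⟶ Y) [IsClosedImmersion i]
  (g : Z ⟶ Z₁) (i₁ : Z₁ ⟶ X₁) [IsClosedImmersion i₁]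

theorem exists_notMem_ptIdeal {x : Y} (hx : x ∉ Set.range i) :
    ∃ a ∈ RingHom.ker i.appTop.hom, a ∉ ptIdeal x := by
  have h1 : x ∉ i.ker.support := by
    intro h
    rw [← SetLike.mem_coe, Scheme.Hom.support_ker] at h
    change x ∈ closure (Set.range i) at h
    rw [i.isClosedEmbedding.isClosed_range.closure_eq] at h
    exact hx h
  rw [Scheme.IdealSheafData.mem_support_iff_of_mem (U := ⟨⊤, isAffineOpen_top Y⟩) trivial,
    Scheme.Hom.ker_apply, Scheme.mem_zeroLocus_iff] at h1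
  push Not at h1
  obtain ⟨a, ha, hxa⟩ := h1
  exact ⟨a, ha, fun h => (mem_ptIdeal_iff x a).1 h hxa⟩

theorem goodNhd_of_notMem {c : ℕ} (f : Fin c → Γ(Y, ⊤)) {x : Y} (k : Fin c) (hx : f k ∉ ptIdeal x) :
    GoodNhd φ i i₁ f x := by
  have hxk : x ∈ Y.basicOpen (f k) := not_not.1 fun h => hx ((mem_ptIdeal_iff x _).2 h)
  refine ⟨⟨Y.basicOpen (f k), (isAffineOpen_top Y).basicOpen _⟩, hxk, ?_, ?_⟩
  · have htop : (cutOut f).ideal ⟨Y.basicOpen (f k), (isAffineOpen_top Y).basicOpen _⟩ = ⊤ := by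
      rw [cutOut, Scheme.IdealSheafData.ofIdealTop_ideal]
      exact Ideal.eq_top_of_isUnit_mem _ (Ideal.mem_map_of_mem _ (Ideal.subset_span ⟨k, rfl⟩))
        (RingedSpace.isUnit_res_basicOpen _ _)
    have hemp : ∀ w : (cutOut f).subscheme, (cutOut f).subschemeι w ∉ Y.basicOpen (f k) := fun w hw => by
      have h1 : (cutOut f).subschemeι w ∈ (cutOut f).support := by
        rw [← SetLike.mem_coe, ← Scheme.IdealSheafData.range_subschemeι]; exact ⟨w, rfl⟩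
      rw [Scheme.IdealSheafData.mem_support_iff_of_mem (U := ⟨Y.basicOpen (f k), (isAffineOpen_top Y).basicOpen _⟩) hw,
        htop, Submodule.top_coe, Scheme.mem_zeroLocus_iff] at h1
      exact h1 1 trivial (by rw [Scheme.basicOpen_of_isUnit _ isUnit_one]; exact hw)
    haveI : IsEmpty ((cutOut f).subschemeι ⁻¹ᵁ Y.basicOpen (f k)).toScheme :=
      ⟨fun w => hemp w.1 w.2⟩
    infer_instance
  · have htop : (cutOut f).ideal ⟨Y.basicOpen (f k), (isAffineOpen_top Y).basicOpen _⟩ = ⊤ := by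
      rw [cutOut, Scheme.IdealSheafData.ofIdealTop_ideal]
      exact Ideal.eq_top_of_isUnit_mem _ (Ideal.mem_map_of_mem _ (Ideal.subset_span ⟨k, rfl⟩))
        (RingedSpace.isUnit_res_basicOpen _ _)
    rw [htop, top_sup_eq]
    exact le_top

theorem specializes_of_ptIdeal_le {x y : Y} (h : ptIdeal x ≤ ptIdeal y) : x ⤳ y := by
  rw [specializes_iff_forall_open]
  intro s hs hy
  obtain ⟨a, hle, hya⟩ := (isAffineOpen_top Y).exists_basicOpen_le (V := ⟨s, hs⟩) ⟨y, hy⟩ trivial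
  have hax : x ∈ Y.basicOpen a := not_not.1 fun h' =>
    (mem_ptIdeal_iff y a).1 (h ((mem_ptIdeal_iff x a).2 h')) hya
  exact hle hax

/-- Equations at all the points of a finite set at once. -/
theorem exists_goodNhd (n e : ℕ) [SmoothOfRelativeDimension n φ] [SmoothOfRelativeDimension e g]
    (hsq : i ≫ φ = g ≫ i₁) (T : Set Y) (hT : T.Finite) (hcase : e < n ∨ T ⊆ Set.range i) :
    ∃ f : Fin (n - e) → Γ(Y, ⊤), (∀ k, f k ∈ RingHom.ker i.appTop.hom) ∧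
      ∀ x ∈ T, ∃ y, GoodNhd φ i i₁ f y ∧ x ⤳ y := by
  classical
  rcases T.eq_empty_or_nonempty with rfl | ⟨x₀, hx₀⟩
  · exact ⟨0, fun k => zero_mem _, fun x hx => absurd hx (Set.notMem_empty x)⟩
  haveI : Nonempty Y := ⟨x₀⟩
  set I := RingHom.ker i.appTop.hom
  let P : Finset (Ideal Γ(Y, ⊤)) := hT.toFinset.image ptIdeal
  let M : Finset (Ideal Γ(Y, ⊤)) := P.filter fun q => ∀ q' ∈ P, q ≤ q' → q = q'
  have hpt : ∀ q ∈ M, ∃ x ∈ T, ptIdeal x = q := fun q hq => by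
    obtain ⟨x, hx, rfl⟩ := Finset.mem_image.1 (Finset.mem_filter.1 hq).1
    exact ⟨x, hT.mem_toFinset.1 hx, rfl⟩
  choose! pt hptT hptq using hpt
  have hprime : ∀ q ∈ M, q.IsPrime := fun q hq => hptq q hq ▸ inferInstance
  have hinc : ∀ q ∈ M, ∀ q' ∈ M, q' ≠ q → ∃ a ∈ q', a ∉ q := fun q hq q' hq' hne => by
    by_contra hcon
    push Not at hcon
    exact hne ((Finset.mem_filter.1 hq').2 q (Finset.mem_filter.1 hq).1 hcon)
  choose! av hav1 hav2 using hinc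
  let s : Ideal Γ(Y, ⊤) → Γ(Y, ⊤) := fun q => ∏ q' ∈ M.erase q, av q q'
  have hs1 : ∀ q ∈ M, s q ∉ q := fun q hq h => by
    haveI := hprime q hq
    obtain ⟨q', hq', h'⟩ := Ideal.IsPrime.prod_mem_iff.1 h
    exact hav2 q hq q' (Finset.mem_of_mem_erase hq') (Finset.ne_of_mem_erase hq') h'
  have hs2 : ∀ q ∈ M, ∀ q' ∈ M, q' ≠ q → s q ∈ q' := fun q hq q' hq' hne => by
    simp only [s]
    rw [← Finset.mul_prod_erase _ _ (Finset.mem_erase.2 ⟨hne, hq'⟩)]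
    exact Ideal.mul_mem_right _ _ (hav1 q hq q' hq' hne)
  have hgg : ∀ q ∈ M, ∃ gg : Fin (n - e) → Γ(Y, ⊤), (∀ k, gg k ∈ I) ∧
      ∀ f : Fin (n - e) → Γ(Y, ⊤), (∀ k, f k ∈ I) →
        (∀ k, ∃ a ∉ q, f k - a * gg k ∈ q * I) → GoodNhd φ i i₁ f (pt q) := fun q hq => by
    by_cases hz : pt q ∈ Set.range i
    · obtain ⟨z, hz⟩ := hz
      obtain ⟨gg, h1, h2⟩ := exists_point_data φ i g i₁ n e hsq z
      refine ⟨gg, h1, fun f hf hfa => hz ▸ h2 f hf ?_⟩
      rw [hz, hptq q hq]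
      exact hfa
    · obtain ⟨a, haI, ha⟩ := exists_notMem_ptIdeal i hz
      have hlt : e < n := hcase.resolve_right fun hsub => hz (hsub (hptT q hq))
      refine ⟨fun _ => a, fun _ => haI, fun f hf hfa => ?_⟩
      refine goodNhd_of_notMem φ i i₁ f ⟨0, Nat.sub_pos_of_lt hlt⟩ ?_
      intro hmem
      obtain ⟨b, hb, hfb⟩ := hfa ⟨0, Nat.sub_pos_of_lt hlt⟩
      rw [hptq q hq] at hmem ha
      haveI := hprime q hq
      have hba : b * a ∈ q := by
        have := q.sub_mem hmem (Ideal.mul_le_left hfb)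
        simpa using this
      exact (Ideal.IsPrime.mem_or_mem inferInstance hba).elim hb ha
  choose! gg hgg1 hgg2 using hgg
  refine ⟨fun k => ∑ q ∈ M, s q * gg q k, fun k => sum_mem fun q hq => Ideal.mul_mem_left _ _ (hgg1 q hq k), ?_⟩
  intro x hx
  obtain ⟨q, hqle, hqmax⟩ := P.exists_le_maximal (Finset.mem_image_of_mem ptIdeal (hT.mem_toFinset.2 hx))
  have hqM : q ∈ M := Finset.mem_filter.2 ⟨hqmax.prop, fun q' hq' h => le_antisymm h (hqmax.2 hq' h)⟩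
  refine ⟨pt q, hgg2 q hqM _ (fun k => sum_mem fun q hq => Ideal.mul_mem_left _ _ (hgg1 q hq k)) ?_,
    specializes_of_ptIdeal_le ((hptq q hqM).symm ▸ hqle)⟩
  intro k
  refine ⟨s q, hs1 q hqM, ?_⟩
  rw [← Finset.add_sum_erase M _ hqM, add_sub_cancel_left]
  exact sum_mem fun q' hq' => Ideal.mul_mem_mul
    (hs2 q' (Finset.mem_of_mem_erase hq') q hqM (Finset.ne_of_mem_erase hq').symm) (hgg1 q' (Finset.mem_of_mem_erase hq') k)

/-- The ideal sheaf comparison and smoothness on an open neighbourhood of a finite set. -/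
theorem exists_open_cutOut (n e : ℕ) [SmoothOfRelativeDimension n φ] [SmoothOfRelativeDimension e g]
    (hsq : i ≫ φ = g ≫ i₁) (T : Set Y) (hT : T.Finite) (hcase : e < n ∨ T ⊆ Set.range i) :
    ∃ (K : Y.IdealSheafData) (U₀ : Y.Opens), T ⊆ (U₀ : Set Y) ∧ K ≤ i.ker ∧
      Smooth ((K.subschemeι ⁻¹ᵁ U₀).ι ≫ K.subschemeι ≫ φ) ∧
      i.ker.comap U₀.ι ≤ (K ⊔ i₁.ker.comap φ).comap U₀.ι := by
  obtain ⟨f, hfI, hgood⟩ := exists_goodNhd φ i g i₁ n e hsq T hT hcase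
  choose! y hy hxy using hgood
  have hD : ∀ x : T, ∃ D : Y.affineOpens, (x : Y) ∈ D.1 ∧
      Smooth (((cutOut f).subschemeι ⁻¹ᵁ D.1).ι ≫ (cutOut f).subschemeι ≫ φ) ∧
      i.ker.ideal D ≤ (cutOut f).ideal D ⊔ (i₁.ker.comap φ).ideal D := fun x => by
    obtain ⟨D, hyD, h1, h2⟩ := hy x.1 x.2
    exact ⟨D, (hxy x.1 x.2).mem_open D.1.2 hyD, h1, h2⟩
  choose D hxD hsm hle using hD
  refine ⟨cutOut f, ⨆ x, (D x).1, fun x hx => Opens.mem_iSup.2 ⟨⟨x, hx⟩, hxD _⟩, ?_, ?_, ?_⟩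
  · refine Scheme.IdealSheafData.le_of_isAffine ?_
    rw [cutOut, Scheme.IdealSheafData.ofIdealTop_ideal, Scheme.Hom.ker_apply]
    refine Ideal.map_le_iff_le_comap.2 (Ideal.span_le.2 ?_)
    rintro _ ⟨k, rfl⟩
    rw [SetLike.mem_coe, Ideal.mem_comap, RingHom.mem_ker]
    have := hfI k
    rw [RingHom.mem_ker] at this
    have hid : (Y.presheaf.map (homOfLE (le_top : (⊤ : Y.Opens) ≤ ⊤)).op).hom (f k) = f k := by
      rw [show (homOfLE (le_top : (⊤ : Y.Opens) ≤ ⊤)).op = 𝟙 _ from rfl, CategoryTheory.Functor.map_id]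
      rfl
    show (i.app ⊤).hom ((Y.presheaf.map (homOfLE (le_top : (⊤ : Y.Opens) ≤ ⊤)).op).hom (f k)) = 0
    rw [hid]
    exact this
  · set W := (cutOut f).subschemeι ⁻¹ᵁ (⨆ x, (D x).1)
    haveI : IsZariskiLocalAtSource @Smooth.{u} := HasRingHomProperty.instIsZariskiLocalAtSource
    refine IsZariskiLocalAtSource.of_openCover
      (W.toScheme.openCoverOfIsOpenCover (fun x => W.ι ⁻¹ᵁ ((cutOut f).subschemeι ⁻¹ᵁ (D x).1)) ?_) fun x => ?_
    · rw [TopologicalSpace.IsOpenCover, eq_top_iff]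
      intro w _
      obtain ⟨x, hx⟩ := Opens.mem_iSup.1 w.2
      exact Opens.mem_iSup.2 ⟨x, hx⟩
    · have hWx : (cutOut f).subschemeι ⁻¹ᵁ (D x).1 ≤ W :=
        (cutOut f).subschemeι.preimage_mono (le_iSup (fun x => (D x).1) x)
      haveI := hsm x
      show Smooth ((W.ι ⁻¹ᵁ ((cutOut f).subschemeι ⁻¹ᵁ (D x).1)).ι ≫ W.ι ≫ (cutOut f).subschemeι ≫ φ)
      rw [← Category.assoc, ← morphismRestrict_ι, Category.assoc]
      infer_instance
  · set U₀ := ⨆ x, (D x).1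
    refine Scheme.IdealSheafData.le_of_iSup_eq_top
      (fun x => ⟨U₀.ι ⁻¹ᵁ (D x).1, (D x).2.preimage_of_isOpenImmersion U₀.ι ?_⟩) ?_ fun x => ?_
    · rw [Scheme.Opens.opensRange_ι]; exact le_iSup (fun x => (D x).1) x
    · rw [eq_top_iff]
      intro w _
      obtain ⟨x, hx⟩ := Opens.mem_iSup.1 w.2
      exact Opens.mem_iSup.2 ⟨x, hx⟩
    · rw [Scheme.IdealSheafData.ideal_comap_of_isOpenImmersion, Scheme.IdealSheafData.ideal_comap_of_isOpenImmersion]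
      refine Ideal.comap_mono ?_
      have heq : U₀.ι ''ᵁ (U₀.ι ⁻¹ᵁ (D x).1) = (D x).1 := by
        rw [Scheme.Hom.image_preimage_eq_opensRange_inf, Scheme.Opens.opensRange_ι]
        exact inf_eq_right.2 (le_iSup (fun x => (D x).1) x)
      rw [Scheme.IdealSheafData.ideal_sup]
      have heq' : (⟨U₀.ι ''ᵁ (U₀.ι ⁻¹ᵁ (D x).1), ((D x).2.preimage_of_isOpenImmersion U₀.ι (by
          rw [Scheme.Opens.opensRange_ι]; exact le_iSup (fun x => (D x).1) x)).image_of_isOpenImmersion U₀.ι⟩ : Y.affineOpens) = D x := Subtype.ext heq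
      show i.ker.ideal ⟨_, _⟩ ≤ (cutOut f).ideal ⟨_, _⟩ ⊔ (i₁.ker.comap φ).ideal ⟨_, _⟩
      rw [heq']
      exact hle x

end Groth.SmoothLift
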