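import Groth.Agent.Misc14.SmoothLiftRing
import Mathlib

/-!
# Lifting a smooth closed subscheme to a smooth subscheme over a bigger base: the local scheme statement
-/

set_option autoImplicit false
set_option linter.style.haveILetI false

universe u

open CategoryTheory CategoryTheory.Limits AlgebraicGeometry TopologicalSpace TensorProduct

namespace Groth.SmoothLift

/-- A closed subscheme of an affine piece, cut out by elements, is smooth over the base there. -/
theorem smooth_comp_of_away {R B B' Q : Type u} [CommRing R] [CommRing B] [CommRing B'] [CommRing Q]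
    [Algebra R B] [Algebra B B'] (t : B) [IsLocalization.Away t B'] (F : Ideal B)
    (hF : Algebra.Smooth R (Localization.Away (Ideal.Quotient.mk F t)))
    (q : B' →+* Q) (hq : Function.Surjective q) (hker : RingHom.ker q = F.map (algebraMap B B')) :
    (q.comp ((algebraMap B B').comp (algebraMap R B))).Smooth := by
  let κ : (B ⧸ F) →+* Q := Ideal.Quotient.lift F (q.comp (algebraMap B B')) fun a ha => by
    rw [RingHom.comp_apply, ← RingHom.mem_ker, hker]
    exact Ideal.mem_map_of_mem _ ha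
  letI : Algebra (B ⧸ F) Q := κ.toAlgebra
  letI : Algebra R Q := (q.comp ((algebraMap B B').comp (algebraMap R B))).toAlgebra
  haveI : IsScalarTower R (B ⧸ F) Q := IsScalarTower.of_algebraMap_eq fun r => rfl
  haveI hloc : IsLocalization.Away (Ideal.Quotient.mk F t) Q := by
    have h := IsLocalization.of_surjective (Submonoid.powers t) B' (Ideal.Quotient.mk F)
      Ideal.Quotient.mk_surjective q hq (RingHom.ext fun b => rfl) (by rw [hker, Ideal.mk_ker])
    rwa [Submonoid.map_powers] at h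
  exact Algebra.Smooth.of_equiv ((IsLocalization.algEquiv (Submonoid.powers (Ideal.Quotient.mk F t))
    (Localization.Away (Ideal.Quotient.mk F t)) Q).restrictScalars R)

theorem mem_basicOpen_iff_notMem {X : Scheme.{u}} {U : X.Opens} (hU : IsAffineOpen U) (x : U) (a : Γ(X, U)) :
    (x : X) ∈ X.basicOpen a ↔ a ∉ (hU.primeIdealOf x).asIdeal := by
  haveI := hU.isLocalization_stalk x
  rw [Scheme.mem_basicOpen']
  exact IsLocalization.AtPrime.isUnit_to_map_iff (X.presheaf.stalk x) (hU.primeIdealOf x).asIdeal a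

variable {Y X₁ Z Z₁ : Scheme.{u}} [IsAffine Y] (φ : Y ⟶ X₁) (i : Z ⟶ Y) [IsClosedImmersion i]
  (g : Z ⟶ Z₁) (i₁ : Z₁ ⟶ X₁) [IsClosedImmersion i₁]

/-- The ideal of global functions vanishing at a point of an affine scheme. -/
noncomputable def ptIdeal (x : Y) : Ideal Γ(Y, ⊤) :=
  ((isAffineOpen_top Y).primeIdealOf ⟨x, trivial⟩).asIdeal

instance (x : Y) : (ptIdeal x).IsPrime :=
  ((isAffineOpen_top Y).primeIdealOf ⟨x, trivial⟩).2

theorem mem_ptIdeal_iff (x : Y) (a : Γ(Y, ⊤)) : a ∈ ptIdeal x ↔ x ∉ Y.basicOpen a := by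
  rw [mem_basicOpen_iff_notMem (isAffineOpen_top Y) ⟨x, trivial⟩, not_not]
  rfl

/-- The ideal sheaf cut out by finitely many functions. -/
noncomputable def cutOut {c : ℕ} (f : Fin c → Γ(Y, ⊤)) : Y.IdealSheafData :=
  Scheme.IdealSheafData.ofIdealTop (Ideal.span (Set.range f))

/-- Near `x` the functions `f` cut out a smooth subscheme with trace the given one. -/
def GoodNhd {c : ℕ} (f : Fin c → Γ(Y, ⊤)) (x : Y) : Prop :=
  ∃ D : Y.affineOpens, x ∈ D.1 ∧
    Smooth (((cutOut f).subschemeι ⁻¹ᵁ D.1).ι ≫ (cutOut f).subschemeι ≫ φ) ∧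
    i.ker.ideal D ≤ (cutOut f).ideal D ⊔ (i₁.ker.comap φ).ideal D

theorem map_le_comap_ideal (O : X₁.affineOpens) (D : Y.affineOpens) (hD : D.1 ≤ φ ⁻¹ᵁ O.1) :
    (i₁.ker.ideal O).map (φ.appLE O.1 D.1 hD).hom ≤ (i₁.ker.comap φ).ideal D := by
  rw [Ideal.map_le_iff_le_comap]
  intro r hr
  rw [Scheme.Hom.ker_apply, RingHom.mem_ker] at hr
  rw [← Scheme.IdealSheafData.ker_fst_of_isClosedImmersion, Ideal.mem_comap, Scheme.Hom.ker_apply, RingHom.mem_ker]
  set F := pullback.fst φ i₁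
  set G := pullback.snd φ i₁
  have h1 : (F ⁻¹ᵁ D.1) ≤ G ⁻¹ᵁ (i₁ ⁻¹ᵁ O.1) := by
    rw [← Scheme.Hom.comp_preimage, ← pullback.condition, Scheme.Hom.comp_preimage]
    exact F.preimage_mono hD
  have h2 : φ.appLE O.1 D.1 hD ≫ F.app D.1 = i₁.app O.1 ≫ G.appLE _ _ h1 := by
    rw [← F.appLE_eq_app, Scheme.Hom.appLE_comp_appLE, ← Scheme.Hom.comp_appLE G i₁ O.1 (F ⁻¹ᵁ D.1) h1]
    simp only [F, G, pullback.condition]
  have h3 := congrArg (fun m => m.hom r) h2
  simp only [CommRingCat.hom_comp, RingHom.comp_apply] at h3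
  rw [h3, hr, map_zero]

set_option maxHeartbeats 1000000 in
/-- Data at one point of the closed subscheme. -/
theorem exists_point_data (n e : ℕ) [SmoothOfRelativeDimension n φ] [SmoothOfRelativeDimension e g]
    (hsq : i ≫ φ = g ≫ i₁) (z : Z) :
    ∃ gg : Fin (n - e) → Γ(Y, ⊤), (∀ k, gg k ∈ RingHom.ker i.appTop.hom) ∧
      ∀ f : Fin (n - e) → Γ(Y, ⊤), (∀ k, f k ∈ RingHom.ker i.appTop.hom) →
        (∀ k, ∃ a ∉ ptIdeal (i z), f k - a * gg k ∈ ptIdeal (i z) * RingHom.ker i.appTop.hom) →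
          GoodNhd φ i i₁ f (i z) := by
  haveI : Smooth φ := SmoothOfRelativeDimension.smooth (n := n) φ
  haveI : Smooth g := SmoothOfRelativeDimension.smooth (n := e) g
  set x := i z with hxdef
  obtain ⟨_, ⟨O, hO, rfl⟩, hxO, -⟩ :=
    X₁.isBasis_affineOpens.exists_subset_of_mem_open (Set.mem_univ (φ x)) isOpen_univ
  obtain ⟨h, hhle, hxh⟩ := (isAffineOpen_top Y).exists_basicOpen_le (V := φ ⁻¹ᵁ O) ⟨x, hxO⟩ trivial
  set D : Y.Opens := Y.basicOpen h
  have hD : IsAffineOpen D := (isAffineOpen_top Y).basicOpen h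
  set D2 := i ⁻¹ᵁ D
  have hD2 : IsAffineOpen D2 := hD.preimage i
  set O2 := i₁ ⁻¹ᵁ O
  have hO2 : IsAffineOpen O2 := hO.preimage i₁
  have hle2 : D2 ≤ g ⁻¹ᵁ O2 := by
    rw [← Scheme.Hom.comp_preimage, ← hsq, Scheme.Hom.comp_preimage]
    exact i.preimage_mono hhle
  letI : Algebra Γ(X₁, O) Γ(Y, D) := (φ.appLE O D hhle).hom.toAlgebra
  letI : Algebra Γ(X₁, O) Γ(Z₁, O2) := (i₁.app O).hom.toAlgebra
  letI : Algebra Γ(Y, D) Γ(Z, D2) := (i.app D).hom.toAlgebra
  letI : Algebra Γ(Z₁, O2) Γ(Z, D2) := (g.appLE O2 D2 hle2).hom.toAlgebra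
  letI : Algebra Γ(X₁, O) Γ(Z, D2) := ((i.app D).hom.comp (φ.appLE O D hhle).hom).toAlgebra
  haveI : IsScalarTower Γ(X₁, O) Γ(Y, D) Γ(Z, D2) := IsScalarTower.of_algebraMap_eq fun r => rfl
  haveI : IsScalarTower Γ(X₁, O) Γ(Z₁, O2) Γ(Z, D2) := IsScalarTower.of_algebraMap_eq fun r => by
    have h1 : φ.appLE O D hhle ≫ i.app D = i₁.app O ≫ g.appLE O2 D2 hle2 := by
      rw [← i.appLE_eq_app, Scheme.Hom.appLE_comp_appLE, ← Scheme.Hom.comp_appLE g i₁ O D2 hle2]
      simp only [hsq]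
      rfl
    exact congrArg (fun m => m.hom r) h1
  have hs : Function.Surjective (algebraMap Γ(Y, D) Γ(Z, D2)) := i.app_surjective D hD
  have hR2 : Function.Surjective (algebraMap Γ(X₁, O) Γ(Z₁, O2)) := i₁.app_surjective O hO
  haveI : Algebra.Smooth Γ(X₁, O) Γ(Y, D) :=
    HasRingHomProperty.appLE (P := @Smooth) φ inferInstance ⟨O, hO⟩ ⟨D, hD⟩ hhle
  haveI : Algebra.Smooth Γ(Z₁, O2) Γ(Z, D2) :=
    HasRingHomProperty.appLE (P := @Smooth) g inferInstance ⟨O2, hO2⟩ ⟨D2, hD2⟩ hle2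
  set p2 := (hD2.primeIdealOf ⟨z, hxh⟩).asIdeal
  set p := ptUnder (B := Γ(Y, D)) p2
  have hp : ∀ b : Γ(Y, D), b ∈ p ↔ x ∉ Y.basicOpen b := fun b => by
    show i.app D b ∈ p2 ↔ _
    rw [show (i.app D b ∈ p2) ↔ z ∉ Z.basicOpen (i.app D b) by
      rw [mem_basicOpen_iff_notMem hD2 ⟨z, hxh⟩, not_not], ← Scheme.preimage_basicOpen]
    rfl
  obtain ⟨bn⟩ : Nonempty (Module.Basis (Fin n) (Localization.AtPrime p) Ω[Localization.AtPrime p⁄Γ(X₁, O)]) := by
    obtain ⟨s, hs1, hs2⟩ :=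
      HasRingHomProperty.appLE (P := @SmoothOfRelativeDimension n) φ inferInstance ⟨O, hO⟩ ⟨D, hD⟩ hhle
    obtain ⟨t, hts, htp⟩ : ∃ t ∈ s, t ∉ p := by
      by_contra hcon
      push Not at hcon
      exact (inferInstance : p.IsPrime).ne_top (top_le_iff.1 (hs1 ▸ Ideal.span_le.2 hcon))
    refine nonempty_basis_of_isStandardSmooth p n t htp ?_
    have := hs2 t hts
    rw [← RingHom.isStandardSmoothOfRelativeDimension_algebraMap,
      IsScalarTower.algebraMap_eq Γ(X₁, O) Γ(Y, D) (Localization.Away t)]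
    exact this
  obtain ⟨be⟩ : Nonempty (Module.Basis (Fin e) (Localization.AtPrime p2) Ω[Localization.AtPrime p2⁄Γ(Z₁, O2)]) := by
    obtain ⟨s, hs1, hs2⟩ :=
      HasRingHomProperty.appLE (P := @SmoothOfRelativeDimension e) g inferInstance ⟨O2, hO2⟩ ⟨D2, hD2⟩ hle2
    obtain ⟨t, hts, htp⟩ : ∃ t ∈ s, t ∉ p2 := by
      by_contra hcon
      push Not at hcon
      exact (inferInstance : p2.IsPrime).ne_top (top_le_iff.1 (hs1 ▸ Ideal.span_le.2 hcon))
    refine nonempty_basis_of_isStandardSmooth p2 e t htp ?_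
    have := hs2 t hts
    rw [← RingHom.isStandardSmoothOfRelativeDimension_algebraMap,
      IsScalarTower.algebraMap_eq Γ(Z₁, O2) Γ(Z, D2) (Localization.Away t)]
    exact this
  set res : Γ(Y, ⊤) →+* Γ(Y, D) := (Y.presheaf.map (homOfLE le_top).op).hom with hres
  set I := RingHom.ker i.appTop.hom
  letI : Algebra Γ(Y, ⊤) Γ(Y, D) := res.toAlgebra
  haveI hawayD : IsLocalization.Away h Γ(Y, D) := (isAffineOpen_top Y).isLocalization_basicOpen h
  have hIres : I.map res = RingHom.ker (i.app D).hom := by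
    rw [← Scheme.Hom.ker_apply i ⟨D, hD⟩,
      ← Scheme.IdealSheafData.map_ideal i.ker (U := ⟨D, hD⟩) (V := ⟨⊤, isAffineOpen_top Y⟩) (show D ≤ ⊤ from le_top),
      Scheme.Hom.ker_apply]
    rfl
  have hresP : ∀ a : Γ(Y, ⊤), a ∈ p.comap res ↔ a ∈ ptIdeal x := fun a => by
    rw [Ideal.mem_comap, mem_ptIdeal_iff, hp, hres, Scheme.basicOpen_res]
    exact not_congr ⟨fun h1 => h1.2, fun h1 => ⟨hxh, h1⟩⟩
  have hPeq : p.comap res = ptIdeal x := Ideal.ext hresP
  obtain ⟨gg, hgg, hgood⟩ := exists_data_away (A := Γ(Y, ⊤)) p2 h I hIres hs hR2 bn be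
  refine ⟨gg, hgg, fun f hf hfg => ?_⟩
  obtain ⟨t, htp, hsm, hmem⟩ := hgood f hf (fun k => by
    show ∃ a ∉ p.comap res, f k - a * gg k ∈ p.comap res * I
    rw [hPeq]; exact hfg k)
  set D' : Y.Opens := Y.basicOpen t
  have hD'D : D' ≤ D := Y.basicOpen_le t
  have hD' : IsAffineOpen D' := hD.basicOpen t
  have hxt : x ∈ D' := by
    by_contra hxt
    exact htp ((hp t).2 hxt)
  haveI hawayD' : IsLocalization.Away t Γ(Y, D') := hD.isLocalization_basicOpen t
  set res' : Γ(Y, D) →+* Γ(Y, D') := (Y.presheaf.map (homOfLE hD'D).op).hom with hres'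
  have hKW : (cutOut f).ideal ⟨D', hD'⟩ = (Ideal.span (Set.range fun k => res (f k))).map res' := by
    rw [cutOut, Scheme.IdealSheafData.ofIdealTop_ideal, Ideal.map_span, Ideal.map_span, ← Set.range_comp, ← Set.range_comp]
    congr 1
    apply congrArg
    funext k
    simp only [Function.comp_apply, hres, hres', ← CommRingCat.comp_apply, ← Functor.map_comp]
    rfl
  refine ⟨⟨D', hD'⟩, hxt, ?_, ?_⟩
  · have hW' : IsAffineOpen ((cutOut f).subschemeι ⁻¹ᵁ D') := hD'.preimage _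
    set W' := (cutOut f).subschemeι ⁻¹ᵁ D'
    have he : W' ≤ ((cutOut f).subschemeι ≫ φ) ⁻¹ᵁ O := (cutOut f).subschemeι.preimage_mono (hD'D.trans hhle)
    rw [← Scheme.Hom.resLE_comp_ι ((cutOut f).subschemeι ≫ φ) he]
    haveI : IsAffine W'.toScheme := hW'
    haveI : IsAffine (Scheme.Opens.toScheme O) := hO
    haveI : Smooth (((cutOut f).subschemeι ≫ φ).resLE O W' he) := by
      rw [HasRingHomProperty.iff_of_isAffine (P := @Smooth),
        RingHom.Smooth.respectsIso.arrow_mk_iso_iff (arrowResLEAppIso _ O W' he)]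
      have happ : ((cutOut f).subschemeι ≫ φ).appLE O W' he =
          φ.appLE O D hhle ≫ Y.presheaf.map (homOfLE hD'D).op ≫ (cutOut f).subschemeι.app D' := by
        rw [Scheme.Hom.appLE_map_assoc, ← (cutOut f).subschemeι.appLE_eq_app, Scheme.Hom.appLE_comp_appLE]
      rw [happ]
      exact smooth_comp_of_away (R := Γ(X₁, O)) (B := Γ(Y, D)) (B' := Γ(Y, D')) t _ hsm
        ((cutOut f).subschemeι.app D').hom ((cutOut f).subschemeι_app_surjective ⟨D', hD'⟩)
        (((cutOut f).ker_subschemeι_app ⟨D', hD'⟩).trans hKW)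
    infer_instance
  · have hker : i.ker.ideal ⟨D', hD'⟩ = (RingHom.ker (i.app D).hom).map res' := by
      rw [← Scheme.Hom.ker_apply i ⟨D, hD⟩]
      exact (Scheme.IdealSheafData.map_ideal i.ker (U := ⟨D', hD'⟩) (V := ⟨D, hD⟩) hD'D).symm
    rw [hker, Ideal.map_le_iff_le_comap]
    intro y hy
    have h1 := Ideal.mem_map_of_mem res' (hmem y hy)
    rw [Ideal.map_sup, map_mul] at h1
    obtain ⟨w, hw⟩ : ∃ w, w * res' t = 1 := (IsLocalization.Away.algebraMap_isUnit t).exists_left_inv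
    have h2 := Ideal.mul_mem_left _ w h1
    rw [← mul_assoc, hw, one_mul] at h2
    rw [Ideal.mem_comap]
    refine SetLike.le_def.1 (sup_le_sup hKW.ge ?_) h2
    rw [Ideal.map_map, RingHom.algebraMap_toAlgebra, RingHom.algebraMap_toAlgebra, ← Scheme.Hom.ker_apply i₁ ⟨O, hO⟩,
      ← CommRingCat.hom_comp, Scheme.Hom.appLE_map]
    exact map_le_comap_ideal φ i₁ ⟨O, hO⟩ ⟨D', hD'⟩ _

end Groth.SmoothLift
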