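import Groth.Agent.Misc14.SmoothLiftLocal
import Mathlib

/-!
# Lifting a smooth closed subscheme to a smooth subscheme over a bigger base: ring statements
-/

set_option autoImplicit false
set_option linter.style.haveILetI false

universe u

open TensorProduct IsLocalRing

namespace Groth.SmoothLift

theorem exists_basis_ker {K V W : Type u} [Field K] [AddCommGroup V] [Module K V] [Module.Finite K V]
    [AddCommGroup W] [Module K W] (φ : V →ₗ[K] W) (hφ : Function.Surjective φ) {n e : ℕ}
    (hn : Module.finrank K V = n) (he : Module.finrank K W = e) :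
    Module.finrank K (LinearMap.ker φ) = n - e ∧
      ∃ b : Fin (n - e) → V, LinearIndependent K b ∧ ∀ k, φ (b k) = 0 := by
  have h := LinearMap.finrank_range_add_finrank_ker φ
  rw [LinearMap.range_eq_top.2 hφ, finrank_top, hn, he] at h
  have hker : Module.finrank K (LinearMap.ker φ) = n - e := by omega
  let b := Module.finBasisOfFinrankEq K _ hker
  exact ⟨hker, fun k => (b k).1, b.linearIndependent.map' (LinearMap.ker φ).subtype (Submodule.ker_subtype _),
    fun k => (b k).2⟩

/-- Differentials at a point of a standard smooth algebra of relative dimension `n`. -/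
theorem nonempty_basis_of_isStandardSmooth {R B : Type u} [CommRing R] [CommRing B] [Algebra R B]
    (p : Ideal B) [p.IsPrime] (n : ℕ) (t : B) (ht : t ∉ p)
    (hst : Algebra.IsStandardSmoothOfRelativeDimension n R (Localization.Away t)) :
    Nonempty (Module.Basis (Fin n) (Localization.AtPrime p) Ω[Localization.AtPrime p⁄R]) := by
  set Bt := Localization.Away t
  set L := Localization.AtPrime p
  letI : Algebra Bt L := (IsLocalization.Away.lift t
    (IsLocalization.map_units L (⟨t, ht⟩ : p.primeCompl)) (g := algebraMap B L)).toAlgebra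
  haveI : IsScalarTower B Bt L := IsScalarTower.of_algebraMap_eq fun b =>
    (IsLocalization.Away.lift_eq t (IsLocalization.map_units L (⟨t, ht⟩ : p.primeCompl)) b).symm
  haveI : IsScalarTower R Bt L := IsScalarTower.of_algebraMap_eq fun r => by
    rw [IsScalarTower.algebraMap_apply R B L, IsScalarTower.algebraMap_apply R B Bt,
      ← IsScalarTower.algebraMap_apply B Bt L]
  haveI : IsLocalization (p.primeCompl.map (algebraMap B Bt)) L :=
    IsLocalization.isLocalization_of_submonoid_le Bt L (.powers t) p.primeCompl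
      (Submonoid.powers_le.2 ht)
  haveI : Nontrivial Bt := RingHom.domain_nontrivial (algebraMap Bt L)
  haveI : Algebra.IsStandardSmooth R Bt := hst.isStandardSmooth
  haveI : Module.Finite Bt Ω[Bt⁄R] := inferInstance
  have hrk := Algebra.IsStandardSmoothOfRelativeDimension.rank_kaehlerDifferential (R := R) (S := Bt) n
  let b : Module.Basis (Fin n) Bt Ω[Bt⁄R] := Module.finBasisOfFinrankEq Bt _ (Module.finrank_eq_of_rank_eq hrk)
  exact ⟨b.ofIsLocalizedModule L (p.primeCompl.map (algebraMap B Bt)) (KaehlerDifferential.map R R Bt L)⟩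

/-- Differentials do not change along a surjection of the base. -/
theorem bijective_map_of_surjective_base {R R2 S : Type u} [CommRing R] [CommRing R2] [CommRing S]
    [Algebra R R2] [Algebra R S] [Algebra R2 S] [IsScalarTower R R2 S]
    (hR2 : Function.Surjective (algebraMap R R2)) :
    Function.Bijective (KaehlerDifferential.map R R2 S S) := by
  refine ⟨?_, KaehlerDifferential.map_surjective R R2 S⟩
  haveI : Subsingleton Ω[R2⁄R] := KaehlerDifferential.subsingleton_of_surjective R R2 hR2
  rw [injective_iff_map_eq_zero]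
  intro x hx
  obtain ⟨y, rfl⟩ := (KaehlerDifferential.exact_mapBaseChange_map R R2 S x).1 hx
  rw [Subsingleton.elim y 0, map_zero]

variable {R R2 B B2 : Type u} [CommRing R] [CommRing R2] [CommRing B] [CommRing B2]
  [Algebra R R2] [Algebra R B] [Algebra B B2] [Algebra R2 B2] [Algebra R B2]
  [IsScalarTower R R2 B2] [IsScalarTower R B B2]

/-- The ideal of the smooth closed subscheme, modulo the ideal of the base. -/
theorem exists_finset_ker [Algebra.FinitePresentation R B] [Algebra.FinitePresentation R2 B2]
    (hR2 : Function.Surjective (algebraMap R R2)) (hs : Function.Surjective (algebraMap B B2)) :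
    ∃ s : Finset B, (∀ y ∈ s, y ∈ RingHom.ker (algebraMap B B2)) ∧
      RingHom.ker (algebraMap B B2) ≤ Ideal.span (s : Set B) ⊔ (RingHom.ker (algebraMap R R2)).map (algebraMap R B) := by
  classical
  let π : R2 ⊗[R] B →ₐ[R2] B2 := Algebra.TensorProduct.lift (Algebra.ofId R2 B2)
    (IsScalarTower.toAlgHom R B B2) (fun _ _ => Commute.all _ _)
  have hπ : ∀ b : B, π ((1 : R2) ⊗ₜ[R] b) = algebraMap B B2 b := fun b => by simp [π]
  have hπs : Function.Surjective π := fun x => by
    obtain ⟨b, rfl⟩ := hs x; exact ⟨_, hπ b⟩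
  have hinc : Function.Surjective (Algebra.TensorProduct.includeRight : B →ₐ[R] R2 ⊗[R] B) := by
    intro w
    induction w using TensorProduct.induction_on with
    | zero => exact ⟨0, map_zero _⟩
    | add a b ha hb =>
      obtain ⟨a', rfl⟩ := ha; obtain ⟨b', rfl⟩ := hb
      exact ⟨a' + b', map_add _ _ _⟩
    | tmul r b =>
      obtain ⟨r, rfl⟩ := hR2 r
      exact ⟨r • b, by rw [Algebra.TensorProduct.includeRight_apply, ← TensorProduct.smul_tmul, Algebra.smul_def, mul_one]⟩
  obtain ⟨w, hw⟩ := Algebra.FinitePresentation.ker_fG_of_surjective π hπs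
  choose sec hsec using hinc
  refine ⟨w.image sec, ?_, ?_⟩
  · intro y hy
    obtain ⟨x, hx, rfl⟩ := Finset.mem_image.1 hy
    rw [RingHom.mem_ker, ← hπ, ← Algebra.TensorProduct.includeRight_apply, hsec]
    have : x ∈ RingHom.ker π := hw ▸ Ideal.subset_span hx
    exact this
  · intro y hy
    set IB := (RingHom.ker (algebraMap R R2)).map (algebraMap R B) with hIB
    let ρ0 : R2 →ₐ[R] B ⧸ IB :=
      { RingHom.liftOfSurjective (algebraMap R R2) hR2 ⟨algebraMap R (B ⧸ IB), fun r hr => by
          rw [RingHom.mem_ker, IsScalarTower.algebraMap_apply R B (B ⧸ IB)]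
          exact Ideal.Quotient.eq_zero_iff_mem.2 (Ideal.mem_map_of_mem _ hr)⟩ with
        commutes' := fun r => RingHom.liftOfSurjective_comp_apply (algebraMap R R2) hR2 _ r }
    let ρ : R2 ⊗[R] B →ₐ[R] B ⧸ IB := Algebra.TensorProduct.lift ρ0 (Ideal.Quotient.mkₐ R IB) (fun _ _ => Commute.all _ _)
    have hρ : ∀ b : B, ρ ((1 : R2) ⊗ₜ[R] b) = Ideal.Quotient.mk IB b := fun b => by simp [ρ]
    have h1 : (1 : R2) ⊗ₜ[R] y ∈ Ideal.span (w : Set (R2 ⊗[R] B)) := by
      rw [hw]
      show π _ = 0
      rw [hπ]; exact hy
    have h2 : ρ ((1 : R2) ⊗ₜ[R] y) ∈ (Ideal.span (w : Set (R2 ⊗[R] B))).map ρ := Ideal.mem_map_of_mem _ h1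
    rw [hρ, Ideal.map_span] at h2
    have h3 : (Ideal.span (ρ '' (w : Set (R2 ⊗[R] B)))) =
        (Ideal.span ((w.image sec : Finset B) : Set B)).map (Ideal.Quotient.mk IB) := by
      rw [Ideal.map_span, Finset.coe_image, Set.image_image]
      congr 1
      refine Set.image_congr' fun x => ?_
      rw [← hρ, ← Algebra.TensorProduct.includeRight_apply, hsec]
    rw [h3, ← Ideal.mem_comap, Ideal.comap_map_of_surjective _ Ideal.Quotient.mk_surjective,
      ← RingHom.ker_eq_comap_bot, Ideal.mk_ker] at h2
    exact h2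

variable (p2 : Ideal B2) [p2.IsPrime]

/-- The point of `B` under the point of `B2`. -/
abbrev ptUnder (p2 : Ideal B2) : Ideal B := p2.comap (algebraMap B B2)

/-- The algebra structure between the local rings. -/
@[implicit_reducible]
noncomputable def locAlgebra : Algebra (Localization.AtPrime (ptUnder (B := B) p2)) (Localization.AtPrime p2) :=
  (Localization.localRingHom (ptUnder (B := B) p2) p2 (algebraMap B B2) rfl).toAlgebra

attribute [local instance] locAlgebra

theorem locTower : IsScalarTower R (Localization.AtPrime (ptUnder (B := B) p2)) (Localization.AtPrime p2) :=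
  IsScalarTower.of_algebraMap_eq fun r => by
    change _ = Localization.localRingHom (ptUnder (B := B) p2) p2 (algebraMap B B2) rfl (algebraMap R _ r)
    rw [IsScalarTower.algebraMap_apply R B (Localization.AtPrime (ptUnder (B := B) p2)), Localization.localRingHom_to_map,
      ← IsScalarTower.algebraMap_apply R B B2, IsScalarTower.algebraMap_apply R B2 (Localization.AtPrime p2)]

theorem loc_surjective (hs : Function.Surjective (algebraMap B B2)) :
    Function.Surjective (Localization.localRingHom (ptUnder (B := B) p2) p2 (algebraMap B B2) rfl) := by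
  intro z
  obtain ⟨a, s, rfl⟩ := IsLocalization.exists_mk'_eq p2.primeCompl z
  obtain ⟨a, rfl⟩ := hs a
  obtain ⟨s0, hs0⟩ := hs s
  exact ⟨IsLocalization.mk' _ a (⟨s0, fun h => s.2 (hs0 ▸ h)⟩ : (ptUnder (B := B) p2).primeCompl), by
    rw [Localization.localRingHom_mk']; congr 1; exact Subtype.ext hs0⟩

theorem loc_ker (hs : Function.Surjective (algebraMap B B2)) :
    RingHom.ker (Localization.localRingHom (ptUnder (B := B) p2) p2 (algebraMap B B2) rfl) =
      (RingHom.ker (algebraMap B B2)).map (algebraMap B _) := by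
  exact IsLocalization.ker_map (M := (ptUnder (B := B) p2).primeCompl) (T := p2.primeCompl) _ (g := algebraMap B B2)
    (Ideal.map_primeCompl_comap_of_surjective (algebraMap B B2) hs p2)

theorem loc_ker_le (hs : Function.Surjective (algebraMap B B2)) :
    RingHom.ker (Localization.localRingHom (ptUnder (B := B) p2) p2 (algebraMap B B2) rfl) ≤
      maximalIdeal (Localization.AtPrime (ptUnder (B := B) p2)) :=
  IsLocalRing.le_maximalIdeal (RingHom.ker_ne_top _)

set_option maxHeartbeats 800000 in
/-- The algebraic heart of lifting smooth subschemes, at one point. -/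
theorem exists_generators_at {n e : ℕ}
    (hs : Function.Surjective (algebraMap B B2)) (hR2 : Function.Surjective (algebraMap R R2))
    (bn : Module.Basis (Fin n) (Localization.AtPrime (ptUnder (B := B) p2)) Ω[Localization.AtPrime (ptUnder (B := B) p2)⁄R])
    (be : Module.Basis (Fin e) (Localization.AtPrime p2) Ω[Localization.AtPrime p2⁄R2]) :
    ∃ g : Fin (n - e) → B, (∀ k, g k ∈ RingHom.ker (algebraMap B B2)) ∧
      LinearIndependent (ResidueField (Localization.AtPrime (ptUnder (B := B) p2)))
        (fun k => dFib R (algebraMap B (Localization.AtPrime (ptUnder (B := B) p2)) (g k))) ∧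
      haveI : IsScalarTower R (Localization.AtPrime (ptUnder (B := B) p2)) (Localization.AtPrime p2) := locTower p2
      Module.finrank (ResidueField (Localization.AtPrime (ptUnder (B := B) p2)))
        (LinearMap.ker (fibMap R (Localization.AtPrime (ptUnder (B := B) p2)) (Localization.AtPrime p2))) = n - e := by
  set L := Localization.AtPrime (ptUnder (B := B) p2)
  set L2 := Localization.AtPrime p2
  set κ := ResidueField L
  haveI : IsScalarTower R L L2 := locTower p2
  have hls : Function.Surjective (algebraMap L L2) := loc_surjective p2 hs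
  have hlk : RingHom.ker (algebraMap L L2) ≤ maximalIdeal L := loc_ker_le p2 hs
  let eqv : Ω[L2⁄R] ≃ₗ[L2] Ω[L2⁄R2] := LinearEquiv.ofBijective _ (bijective_map_of_surjective_base hR2)
  have hcod : Module.finrank κ (κ ⊗[L] Ω[L2⁄R]) = e :=
    finrank_residueField_tensor hls hlk (be.map eqv.symm)
  haveI : Module.Finite L Ω[L⁄R] := Module.Finite.of_basis bn
  have hdom : Module.finrank κ (κ ⊗[L] Ω[L⁄R]) = n := by
    rw [Module.finrank_eq_card_basis (bn.baseChange κ), Fintype.card_fin]
  haveI : Module.Finite κ (κ ⊗[L] Ω[L⁄R]) := Module.Finite.base_change L κ Ω[L⁄R]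
  obtain ⟨hker, b, hb, hb0⟩ := exists_basis_ker (fibMap R L L2) (fibMap_surjective hls) hdom hcod
  have hy : ∀ k, ∃ (a : B) (s : (ptUnder (B := B) p2).primeCompl), a ∈ RingHom.ker (algebraMap B B2) ∧
      dFib R (algebraMap B L a) = residue L (algebraMap B L s) • b k := fun k => by
    obtain ⟨y, hy, hyb⟩ := exists_dFib_eq_of_fibMap_eq_zero hls hlk (hb0 k)
    have hy' : y ∈ (RingHom.ker (algebraMap B B2)).map (algebraMap B L) := loc_ker p2 hs ▸ hy
    obtain ⟨⟨⟨a, ha⟩, s⟩, has⟩ := (IsLocalization.mem_map_algebraMap_iff (ptUnder (B := B) p2).primeCompl L).1 hy'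
    refine ⟨a, s, ha, ?_⟩
    rw [← hyb, ← dFib_mul _ (hlk hy), ← has, mul_comm]
  choose g s hg hgd using hy
  refine ⟨g, hg, ?_, hker⟩
  have hu : ∀ k, IsUnit (residue L (algebraMap B L (s k))) := fun k =>
    (IsLocalization.map_units L (s k)).map _
  have h2 := hb.units_smul fun k => (hu k).unit
  have heq : (fun k => dFib R (algebraMap B L (g k))) = (fun k => (hu k).unit) • b := funext fun k => hgd k
  exact heq ▸ h2

set_option maxHeartbeats 800000 in
/-- Elements with independent differentials cut out a smooth subscheme containing, near the point,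
the given one as its trace over the closed subscheme of the base. -/
theorem exists_notMem_smooth_and_le {n c : ℕ} [Algebra.Smooth R B] [Algebra.Smooth R2 B2]
    (hs : Function.Surjective (algebraMap B B2)) (hR2 : Function.Surjective (algebraMap R R2))
    (bn : Module.Basis (Fin n) (Localization.AtPrime (ptUnder (B := B) p2)) Ω[Localization.AtPrime (ptUnder (B := B) p2)⁄R])
    (hc : haveI : IsScalarTower R (Localization.AtPrime (ptUnder (B := B) p2)) (Localization.AtPrime p2) := locTower p2
      Module.finrank (ResidueField (Localization.AtPrime (ptUnder (B := B) p2)))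
        (LinearMap.ker (fibMap R (Localization.AtPrime (ptUnder (B := B) p2)) (Localization.AtPrime p2))) = c)
    (f : Fin c → B) (hfJ : ∀ k, f k ∈ RingHom.ker (algebraMap B B2))
    (hli : LinearIndependent (ResidueField (Localization.AtPrime (ptUnder (B := B) p2)))
      (fun k => dFib R (algebraMap B (Localization.AtPrime (ptUnder (B := B) p2)) (f k)))) :
    ∃ t : B, t ∉ ptUnder (B := B) p2 ∧
      Algebra.Smooth R (Localization.Away (Ideal.Quotient.mk (Ideal.span (Set.range f)) t)) ∧
      ∀ y ∈ RingHom.ker (algebraMap B B2),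
        t * y ∈ Ideal.span (Set.range f) ⊔ (RingHom.ker (algebraMap R R2)).map (algebraMap R B) := by
  classical
  set p := ptUnder (B := B) p2 with hp
  set L := Localization.AtPrime p
  set L2 := Localization.AtPrime p2
  haveI : IsScalarTower R L L2 := locTower p2
  haveI : Algebra.FormallySmooth B L := Algebra.FormallySmooth.of_isLocalization p.primeCompl
  haveI : Algebra.FormallySmooth R L := Algebra.FormallySmooth.comp R B L
  haveI : Algebra.FormallySmooth B2 L2 := Algebra.FormallySmooth.of_isLocalization p2.primeCompl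
  haveI : Algebra.FormallySmooth R2 L2 := Algebra.FormallySmooth.comp R2 B2 L2
  haveI : Module.Finite L Ω[L⁄R] := Module.Finite.of_basis bn
  haveI : Module.Free L Ω[L⁄R] := Module.Free.of_basis bn
  have hls : Function.Surjective (algebraMap L L2) := loc_surjective p2 hs
  have hlk : RingHom.ker (algebraMap L L2) ≤ maximalIdeal L := loc_ker_le p2 hs
  set F := Ideal.span (Set.range f) with hF
  set IB := (RingHom.ker (algebraMap R R2)).map (algebraMap R B) with hIB
  obtain ⟨s, hsJ, hJs⟩ := exists_finset_ker (R := R) (R2 := R2) (B := B) (B2 := B2) hR2 hs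
  have hfJ' : ∀ k, algebraMap B L (f k) ∈ RingHom.ker (algebraMap L L2) := fun k => by
    rw [show RingHom.ker (algebraMap L L2) = _ from loc_ker p2 hs]
    exact Ideal.mem_map_of_mem _ (hfJ k)
  set E := (F ⊔ IB).map (algebraMap B L) with hEdef
  have hE : E = Ideal.span (Set.range fun k => algebraMap B L (f k)) ⊔
      (RingHom.ker (algebraMap R R2)).map (algebraMap R L) := by
    rw [hEdef, Ideal.map_sup, hF, Ideal.map_span, ← Set.range_comp, hIB, Ideal.map_map,
      ← IsScalarTower.algebraMap_eq]
    rfl
  have hfg : ((RingHom.ker (algebraMap L L2)).map (Ideal.Quotient.mk E)).FG := by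
    refine ⟨(s.image (algebraMap B L)).image (Ideal.Quotient.mk E), ?_⟩
    refine le_antisymm (Ideal.span_le.2 ?_) ?_
    · intro x hx
      simp only [Finset.coe_image, Set.mem_image] at hx
      obtain ⟨_, ⟨y, hy, rfl⟩, rfl⟩ := hx
      refine Ideal.mem_map_of_mem _ ?_
      rw [show RingHom.ker (algebraMap L L2) = _ from loc_ker p2 hs]
      exact Ideal.mem_map_of_mem _ (hsJ y hy)
    · rw [show RingHom.ker (algebraMap L L2) = _ from loc_ker p2 hs]
      refine (Ideal.map_mono (Ideal.map_mono hJs)).trans ?_
      rw [Ideal.map_sup, Ideal.map_sup, Ideal.map_span, Ideal.map_span]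
      refine sup_le (le_of_eq ?_) ?_
      · simp only [Finset.coe_image]; rfl
      · rw [Ideal.map_le_iff_le_comap]
        intro x hx
        rw [Ideal.mem_comap, Ideal.Quotient.eq_zero_iff_mem.2 (Ideal.map_mono le_sup_right hx)]
        exact zero_mem _
  have hle := le_of_dFib hR2 hls hlk hc (fun k => algebraMap B L (f k)) hfJ' hli E hE hfg
  have ht : ∀ y ∈ s, ∃ t ∉ p, t * y ∈ F ⊔ IB := fun y hy => by
    have h1 : algebraMap B L y ∈ (F ⊔ IB).map (algebraMap B L) := hle (by
      rw [show RingHom.ker (algebraMap L L2) = _ from loc_ker p2 hs]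
      exact Ideal.mem_map_of_mem _ (hsJ y hy))
    obtain ⟨t, ht, hty⟩ := (IsLocalization.algebraMap_mem_map_algebraMap_iff p.primeCompl L _ _).1 h1
    exact ⟨t, ht, hty⟩
  choose! tt htp htt using ht
  -- smoothness at the point
  haveI : Algebra.FinitePresentation R (B ⧸ F) :=
    Algebra.FinitePresentation.quotient (Submodule.fg_span (Set.finite_range f))
  have hFp : F ≤ p := Ideal.span_le.2 (Set.range_subset_iff.2 fun k => by
    show algebraMap B B2 (f k) ∈ p2
    rw [RingHom.mem_ker.1 (hfJ k)]; exact zero_mem _)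
  set pC := p.map (Ideal.Quotient.mk F) with hpC
  haveI : pC.IsPrime := Ideal.map_isPrime_of_surjective Ideal.Quotient.mk_surjective (by rwa [Ideal.mk_ker])
  have hcomap : pC.comap (Ideal.Quotient.mk F) = p := by
    rw [hpC, Ideal.comap_map_of_surjective _ Ideal.Quotient.mk_surjective, ← RingHom.ker_eq_comap_bot,
      Ideal.mk_ker, sup_eq_left]
    exact hFp
  have hFS := formallySmooth_quotient_span (R := R) (fun k => algebraMap B L (f k)) (fun k => hlk (hfJ' k)) hli
  have hmapF : F.map (algebraMap B L) = Ideal.span (Set.range fun k => algebraMap B L (f k)) := by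
    rw [hF, Ideal.map_span, ← Set.range_comp]; rfl
  have hloc : IsLocalization pC.primeCompl (L ⧸ F.map (algebraMap B L)) := by
    have h := (inferInstance : IsLocalization (Algebra.algebraMapSubmonoid (B ⧸ F) p.primeCompl) (L ⧸ F.map (algebraMap B L)))
    have e : Algebra.algebraMapSubmonoid (B ⧸ F) p.primeCompl = pC.primeCompl := by
      ext x
      obtain ⟨x, rfl⟩ := Ideal.Quotient.mk_surjective x
      constructor
      · rintro ⟨y, hy, hyx⟩ hx
        apply hy
        show y ∈ p
        rw [← hcomap, Ideal.mem_comap]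
        exact hyx ▸ hx
      · intro hx
        exact ⟨x, fun h => hx (Ideal.mem_map_of_mem _ h), rfl⟩
    rwa [e] at h
  haveI : Algebra.FormallySmooth R (L ⧸ F.map (algebraMap B L)) :=
    Algebra.FormallySmooth.of_equiv (Ideal.quotientEquivAlgOfEq R hmapF).symm
  haveI : IsScalarTower R (B ⧸ F) (L ⧸ F.map (algebraMap B L)) := IsScalarTower.of_algebraMap_eq fun r => by
    rw [IsScalarTower.algebraMap_apply R L (L ⧸ F.map (algebraMap B L)), IsScalarTower.algebraMap_apply R B L]
    rfl
  haveI : Algebra.IsSmoothAt R pC := Algebra.FormallySmooth.of_equiv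
    ((IsLocalization.algEquiv pC.primeCompl (L ⧸ F.map (algebraMap B L)) (Localization.AtPrime pC)).restrictScalars R)
  obtain ⟨t1, ht1, hsm⟩ := Algebra.IsSmoothAt.exists_notMem_smooth R pC
  obtain ⟨t1, rfl⟩ := Ideal.Quotient.mk_surjective t1
  refine ⟨t1 * ∏ y ∈ s, tt y, ?_, ?_, ?_⟩
  · intro h
    rcases Ideal.IsPrime.mem_or_mem inferInstance h with h | h
    · exact ht1 (Ideal.mem_map_of_mem _ h)
    · obtain ⟨y, hy, h⟩ := Ideal.IsPrime.prod_mem_iff.1 h
      exact htp y hy h
  · rw [← Algebra.basicOpen_subset_smoothLocus_iff_smooth] at hsm ⊢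
    refine subset_trans ?_ hsm
    rw [map_mul, PrimeSpectrum.basicOpen_mul]
    exact fun x hx => hx.1
  · intro y hy
    have h1 : ∀ z ∈ Ideal.span (s : Set B), (t1 * ∏ y ∈ s, tt y) * z ∈ F ⊔ IB := fun z hz => by
      induction hz using Submodule.span_induction with
      | mem z hz =>
        rw [← Finset.mul_prod_erase s tt hz, show t1 * (tt z * ∏ x ∈ s.erase z, tt x) * z =
          (t1 * ∏ x ∈ s.erase z, tt x) * (tt z * z) by ring]
        exact Ideal.mul_mem_left _ _ (htt z hz)
      | zero => rw [mul_zero]; exact zero_mem _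
      | add a b _ _ ha hb => rw [mul_add]; exact add_mem ha hb
      | smul a z _ hz => rw [smul_eq_mul, mul_left_comm]; exact Ideal.mul_mem_left _ _ hz
    obtain ⟨a, ha, b, hb, rfl⟩ := Submodule.mem_sup.1 (hJs hy)
    rw [mul_add]
    exact add_mem (h1 a ha) (Ideal.mem_sup_right (Ideal.mul_mem_left _ _ hb))

set_option maxHeartbeats 800000 in
/-- Functions on a bigger piece whose classes at the point are those of suitable generators cut out a
smooth subscheme near the point. -/
theorem exists_data_away {A : Type u} [CommRing A] [Algebra A B] (h : A) [IsLocalization.Away h B]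
    [Algebra.Smooth R B] [Algebra.Smooth R2 B2] (I : Ideal A)
    (hI : I.map (algebraMap A B) = RingHom.ker (algebraMap B B2))
    {n e : ℕ} (hs : Function.Surjective (algebraMap B B2)) (hR2 : Function.Surjective (algebraMap R R2))
    (bn : Module.Basis (Fin n) (Localization.AtPrime (ptUnder (B := B) p2)) Ω[Localization.AtPrime (ptUnder (B := B) p2)⁄R])
    (be : Module.Basis (Fin e) (Localization.AtPrime p2) Ω[Localization.AtPrime p2⁄R2]) :
    ∃ gg : Fin (n - e) → A, (∀ k, gg k ∈ I) ∧
      ∀ f : Fin (n - e) → A, (∀ k, f k ∈ I) →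
        (∀ k, ∃ a ∉ (ptUnder (B := B) p2).comap (algebraMap A B),
          f k - a * gg k ∈ (ptUnder (B := B) p2).comap (algebraMap A B) * I) →
        ∃ t : B, t ∉ ptUnder (B := B) p2 ∧
          Algebra.Smooth R (Localization.Away (Ideal.Quotient.mk (Ideal.span (Set.range fun k => algebraMap A B (f k))) t)) ∧
          ∀ y ∈ RingHom.ker (algebraMap B B2),
            t * y ∈ Ideal.span (Set.range fun k => algebraMap A B (f k)) ⊔ (RingHom.ker (algebraMap R R2)).map (algebraMap R B) := by
  obtain ⟨gB, hgB, hgli, hc⟩ := exists_generators_at p2 hs hR2 bn be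
  set p := ptUnder (B := B) p2
  set L := Localization.AtPrime p
  have hlift : ∀ k, ∃ a ∈ I, ∃ v : B, IsUnit v ∧ algebraMap A B a = v * gB k := fun k => by
    have hmem : gB k ∈ I.map (algebraMap A B) := hI.ge (hgB k)
    obtain ⟨⟨⟨a, ha⟩, s⟩, has⟩ := (IsLocalization.mem_map_algebraMap_iff (Submonoid.powers h) B).1 hmem
    exact ⟨a, ha, _, IsLocalization.map_units B s, by rw [mul_comm]; exact has.symm⟩
  choose gg hgg v hv hgv using hlift
  refine ⟨gg, hgg, fun f hf hfg => ?_⟩
  let δ : A → ResidueField L ⊗[L] Ω[L⁄R] := fun a => dFib R (algebraMap B L (algebraMap A B a))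
  have hm : ∀ b ∈ RingHom.ker (algebraMap B B2), algebraMap B L b ∈ maximalIdeal L := fun b hb => by
    rw [IsLocalization.AtPrime.to_map_mem_maximal_iff L p]
    show algebraMap B B2 b ∈ p2
    rw [RingHom.mem_ker.1 hb]; exact zero_mem _
  have hIm : ∀ a ∈ I, algebraMap B L (algebraMap A B a) ∈ maximalIdeal L := fun a ha =>
    hm _ (hI.le (Ideal.mem_map_of_mem _ ha))
  have hδmul : ∀ a, ∀ y ∈ I, δ (a * y) = residue L (algebraMap B L (algebraMap A B a)) • δ y := fun a y hy => by
    simp only [δ, map_mul]
    exact dFib_mul _ (hIm y hy)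
  have hδadd : ∀ a b, δ (a + b) = δ a + δ b := fun a b => by
    simp only [δ, map_add]
    exact dFib_add _ _
  have hδ0 : ∀ m ∈ p.comap (algebraMap A B) * I, δ m = 0 := fun m hm' => by
    refine Submodule.mul_induction_on hm' (fun a ha y hy => ?_) (fun a b ha hb => by rw [hδadd, ha, hb, add_zero])
    have : residue L (algebraMap B L (algebraMap A B a)) = 0 := by
      rw [residue_eq_zero_iff, IsLocalization.AtPrime.to_map_mem_maximal_iff L p]
      exact ha
    rw [hδmul a y hy, this, zero_smul]
  choose a ha hfa using hfg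
  have hval : ∀ k, δ (f k) = residue L (algebraMap B L (algebraMap A B (a k) * v k)) •
      dFib R (algebraMap B L (gB k)) := fun k => by
    have h1 : δ (f k) = δ (a k * gg k) := by
      conv_lhs => rw [← add_sub_cancel (a k * gg k) (f k)]
      rw [hδadd, hδ0 _ (hfa k), add_zero]
    rw [h1]
    simp only [δ]
    rw [map_mul (algebraMap A B), hgv, ← mul_assoc, map_mul (algebraMap B L)]
    exact dFib_mul _ (hm _ (hgB k))
  have hu : ∀ k, IsUnit (residue L (algebraMap B L (algebraMap A B (a k) * v k))) := fun k => by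
    refine IsUnit.map _ ?_
    rw [map_mul]
    exact IsUnit.mul (IsLocalization.map_units L (⟨algebraMap A B (a k), ha k⟩ : p.primeCompl)) ((hv k).map _)
  have hliF : LinearIndependent (ResidueField L) (fun k => dFib R (algebraMap B L (algebraMap A B (f k)))) := by
    have h2 := hgli.units_smul fun k => (hu k).unit
    have heq : (fun k => dFib R (algebraMap B L (algebraMap A B (f k)))) =
        (fun k => (hu k).unit) • fun k => dFib R (algebraMap B L (gB k)) := funext fun k => hval k
    exact heq ▸ h2
  exact exists_notMem_smooth_and_le p2 hs hR2 bn hc (fun k => algebraMap A B (f k))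
    (fun k => hI.le (Ideal.mem_map_of_mem _ (hf k))) hliF

end Groth.SmoothLift
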