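import Groth.Agent.FlatMor2.FiniteExtend
import Groth.Agent.SplitAlg.Basic
import Mathlib

/-!
A finite surjective cover of a scheme over which a finite morphism to a closed subscheme splits
componentwise.
-/

set_option autoImplicit false

universe u

open CategoryTheory CategoryTheory.Limits AlgebraicGeometry Polynomial

noncomputable section

namespace Groth.SplitCover

/-- Roots of finitely many integral equations are adjoined by a finite extension with surjective spectrum. -/
theorem exists_ring_cover {A B : Type u} [CommRing A] [CommRing B] [Algebra A B] [Module.Finite A B] :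
    ∃ (A' : Type u) (_ : CommRing A') (_ : Algebra A A'), Module.Finite A A' ∧
      Function.Surjective (PrimeSpectrum.comap (algebraMap A A')) ∧
      ∀ {L : Type u} [Field L] (w : A' →+* L) (l : B →+* L),
        w.comp (algebraMap A A') = l.comp (algebraMap A B) → l.range ≤ w.range := by
  classical
  rcases subsingleton_or_nontrivial A with hA | hA
  · refine ⟨A, inferInstance, inferInstance, inferInstance, fun p => ⟨p, Subsingleton.elim _ _⟩, ?_⟩
    intro L _ w l _
    have : Subsingleton L := subsingleton_of_zero_eq_one (by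
      rw [← map_zero w, ← map_one w, Subsingleton.elim (0 : A) 1])
    exact fun x _ => ⟨0, Subsingleton.elim _ _⟩
  obtain ⟨gens, hgens⟩ := (Algebra.FiniteType.out (R := A) (A := B))
  choose P hP hPb using fun b : B => Algebra.IsIntegral.isIntegral (R := A) b
  let f : A[X] := ∏ b ∈ gens, P b
  have hf : f.Monic := monic_prod_of_monic _ _ fun b _ => hP b
  obtain ⟨C', _, _, τ, hτ, hli⟩ := SplitAlg.exists_splitting _ A f hf rfl
  have hint : ∀ x ∈ Set.range τ, IsIntegral A x := by
    rintro _ ⟨j, rfl⟩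
    refine ⟨f, hf, ?_⟩
    rw [← Polynomial.eval_map, ← hτ, eval_prod]
    exact Finset.prod_eq_zero (Finset.mem_univ j) (by simp)
  let A' := Algebra.adjoin A (Set.range τ)
  have hfin : Module.Finite A A' :=
    Module.Finite.iff_fg.2 (fg_adjoin_of_finite (Set.finite_range τ) hint)
  have hinj : Function.Injective (algebraMap A C') := by
    let d₀ : SplitAlg.Stair f.natDegree := fun i => ⟨0, by omega⟩
    intro a a' e
    have h1 : SplitAlg.mon τ d₀ = 1 := by simp [SplitAlg.mon, d₀]
    have h2 : (Finsupp.linearCombination A (SplitAlg.mon τ)) (Finsupp.single d₀ (a - a')) = 0 := by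
      rw [Finsupp.linearCombination_single, h1, Algebra.smul_def, mul_one, map_sub, e, sub_self]
    have h3 := linearIndependent_iff.1 hli _ h2
    rwa [Finsupp.single_eq_zero, sub_eq_zero] at h3
  have hinj' : Function.Injective (algebraMap A A') := fun a a' e => hinj (congrArg Subtype.val e)
  have : Algebra.IsIntegral A A' := inferInstance
  refine ⟨A', inferInstance, inferInstance, hfin,
    (haveI : FaithfulSMul A A' := (faithfulSMul_iff_algebraMap_injective A A').mpr hinj'; Algebra.IsIntegral.comap_surjective A A'), ?_⟩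
  intro L _ w l hwl
  have hroot : ∀ b ∈ gens, l b ∈ w.range := by
    intro b hb
    let τ' : Fin f.natDegree → A' := fun j => ⟨τ j, Algebra.subset_adjoin ⟨j, rfl⟩⟩
    have hτ' : ∏ i, (X - C (τ' i)) = f.map (algebraMap A A') := by
      apply Polynomial.map_injective A'.val.toRingHom Subtype.val_injective
      rw [Polynomial.map_prod, Polynomial.map_map]
      simp only [Polynomial.map_sub, map_X, map_C]
      exact hτ
    have h0 : (f.map (w.comp (algebraMap A A'))).eval (l b) = 0 := by
      rw [hwl, Polynomial.eval_map, ← hom_eval₂, eval₂_finsetProd,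
        Finset.prod_eq_zero hb (hPb b), map_zero]
    rw [← Polynomial.map_map, ← hτ', Polynomial.map_prod, eval_prod, Finset.prod_eq_zero_iff] at h0
    obtain ⟨j, -, hj⟩ := h0
    simp only [Polynomial.map_sub, map_X, map_C, eval_sub, eval_X, eval_C, sub_eq_zero] at hj
    exact ⟨τ' j, hj.symm⟩
  rintro _ ⟨b, rfl⟩
  have hb : b ∈ Algebra.adjoin A (gens : Set B) := hgens ▸ Algebra.mem_top
  induction hb using Algebra.adjoin_induction with
  | mem x hx => exact hroot x hx
  | algebraMap r => exact ⟨algebraMap A A' r, RingHom.congr_fun hwl r⟩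
  | add x y _ _ hx hy => rw [map_add]; exact add_mem hx hy
  | mul x y _ _ hx hy => rw [map_mul]; exact mul_mem hx hy

/-- The local statement. -/
theorem exists_local {Y F F' : Scheme.{u}} (i : F ⟶ Y) [IsClosedImmersion i] (s : F' ⟶ F) [IsFinite s]
    (U : Y.Opens) (hU : IsAffineOpen U) :
    ∃ (V : Scheme.{u}) (v : V ⟶ (U : Scheme.{u})), IsFinite v ∧ Surjective v ∧
      ∀ (D L : CommRingCat.{u}) (_ : IsField L) (θ : D ⟶ L), Function.Injective θ.hom →
        ∀ (m : Spec D ⟶ F) (w : Spec D ⟶ V), m ≫ i = w ≫ v ≫ U.ι →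
          ∀ ℓ : Spec L ⟶ F', ℓ ≫ s = Spec.map θ ≫ m →
            ∃ φ : Spec D ⟶ F', φ ≫ s = m ∧ Spec.map θ ≫ φ = ℓ := by
  let A : CommRingCat.{u} := Γ(Y, U)
  let T := Limits.pullback (s ≫ i) hU.fromSpec
  have : IsAffine T := isAffine_of_isAffineHom (pullback.snd (s ≫ i) hU.fromSpec)
  let B : CommRingCat.{u} := Γ(T, ⊤)
  let ψ : A ⟶ B := Spec.preimage (T.isoSpec.inv ≫ pullback.snd (s ≫ i) hU.fromSpec)
  have hψ : Spec.map ψ = T.isoSpec.inv ≫ pullback.snd (s ≫ i) hU.fromSpec := Spec.map_preimage _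
  have hψf : ψ.hom.Finite := by
    rw [← IsFinite.SpecMap_iff, hψ]; infer_instance
  letI : Algebra A B := ψ.hom.toAlgebra
  haveI : Module.Finite A B := hψf
  obtain ⟨A', _, _, hfin, hsurj, hsplit⟩ := exists_ring_cover (A := A) (B := B)
  let c : A ⟶ CommRingCat.of A' := CommRingCat.ofHom (algebraMap A A')
  have hc : IsFinite (Spec.map c) := by
    rw [IsFinite.SpecMap_iff, CommRingCat.hom_ofHom]
    exact RingHom.finite_algebraMap.2 hfin
  have hcs : Surjective (Spec.map c) := ⟨hsurj⟩
  refine ⟨Spec (CommRingCat.of A'), Spec.map c ≫ hU.isoSpec.inv, inferInstance, inferInstance, ?_⟩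
  intro D L hL θ hθ m w hm ℓ hℓ
  have hm' : m ≫ i = (w ≫ Spec.map c) ≫ hU.fromSpec := by
    rw [hm, ← hU.isoSpec_inv_ι]; simp only [Category.assoc]
  let wD : CommRingCat.of A' ⟶ D := Spec.preimage w
  have hw : Spec.map wD = w := Spec.map_preimage _
  let lT : Spec L ⟶ T := pullback.lift ℓ (Spec.map θ ≫ w ≫ Spec.map c)
    (by rw [reassoc_of% hℓ, hm']; simp only [Category.assoc])
  let l : B ⟶ L := Spec.preimage (lT ≫ T.isoSpec.hom)
  have hl : Spec.map l = lT ≫ T.isoSpec.hom := Spec.map_preimage _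
  have hcomm : c ≫ wD ≫ θ = ψ ≫ l := by
    apply Spec.map_injective
    rw [Spec.map_comp, Spec.map_comp, Spec.map_comp, hw, hl, hψ]
    simp [lT, pullback.lift_snd]
  letI : Field L := hL.toField
  have hrange := hsplit (θ.hom.comp wD.hom) l.hom congr(($hcomm).hom)
  choose g hg using fun b => hrange ⟨b, rfl⟩
  let β : B ⟶ D := CommRingCat.ofHom
    { toFun := fun b => wD.hom (g b)
      map_one' := hθ (by rw [map_one]; exact (hg 1).trans (map_one _))
      map_zero' := hθ (by rw [map_zero]; exact (hg 0).trans (map_zero _))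
      map_add' := fun x y => hθ ((hg (x + y)).trans
        (by rw [map_add θ.hom]; exact (map_add l.hom x y).trans (congrArg₂ (· + ·) (hg x).symm (hg y).symm)))
      map_mul' := fun x y => hθ ((hg (x * y)).trans
        (by rw [map_mul θ.hom]; exact (map_mul l.hom x y).trans (congrArg₂ (· * ·) (hg x).symm (hg y).symm))) }
  have hβθ : β ≫ θ = l := CommRingCat.hom_ext (RingHom.ext hg)
  have hψβ : ψ ≫ β = c ≫ wD := by
    have : Mono θ := ConcreteCategory.mono_of_injective _ hθ
    rw [← cancel_mono θ, Category.assoc, Category.assoc, hβθ, hcomm]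
  refine ⟨Spec.map β ≫ T.isoSpec.inv ≫ pullback.fst (s ≫ i) hU.fromSpec, ?_, ?_⟩
  · rw [← cancel_mono i, hm']
    have : Spec.map β ≫ T.isoSpec.inv ≫ pullback.snd (s ≫ i) hU.fromSpec = w ≫ Spec.map c := by
      rw [← hψ, ← Spec.map_comp, hψβ, Spec.map_comp, hw]
    simp only [Category.assoc, pullback.condition]
    rw [reassoc_of% this]
  · rw [← Category.assoc, ← Spec.map_comp, hβθ, hl]
    simp [lT, pullback.lift_fst]

/-- A finite family of finite surjective morphisms is dominated by one. -/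
theorem exists_dominating {Y : Scheme.{u}} {ι : Type u} (t : Finset ι) (Z : ι → Scheme.{u})
    (π : ∀ a, Z a ⟶ Y) (hπ : ∀ a, IsFinite (π a)) (hs : ∀ a, Surjective (π a)) :
    ∃ (Y' : Scheme.{u}) (g : Y' ⟶ Y), IsFinite g ∧ Surjective g ∧ ∀ a ∈ t, ∃ h : Y' ⟶ Z a, h ≫ π a = g := by
  classical
  induction t using Finset.induction_on with
  | empty => exact ⟨Y, 𝟙 Y, inferInstance, inferInstance, fun a ha => absurd ha (Finset.notMem_empty a)⟩
  | insert a t _ ih =>
    obtain ⟨Y', g, hg, hgs, hh⟩ := ih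
    have := hπ a
    have := hs a
    refine ⟨Limits.pullback g (π a), pullback.fst g (π a) ≫ g, inferInstance, inferInstance, fun b hb => ?_⟩
    rcases Finset.mem_insert.1 hb with rfl | hb
    · exact ⟨pullback.snd g (π b), pullback.condition.symm⟩
    · obtain ⟨h, hh⟩ := hh b hb
      exact ⟨pullback.fst g (π a) ≫ h, by rw [Category.assoc, hh]⟩

theorem exists_cover {Y F F' : Scheme.{u}} [IsNoetherian Y]
    (i : F ⟶ Y) [IsClosedImmersion i] (s : F' ⟶ F) [IsFinite s] [Surjective s] :
    ∃ (Y' : Scheme.{u}) (g : Y' ⟶ Y), IsFinite g ∧ Surjective g ∧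
      ∀ (G : Scheme.{u}) (ι : G ⟶ pullback i g) [IsClosedImmersion ι] [AlgebraicGeometry.IsReduced G],
        Set.range ι.base ∈ irreducibleComponents ↥(pullback i g) →
          ∃ φ : G ⟶ F', φ ≫ s = ι ≫ pullback.fst i g := by
  obtain ⟨S, hS, hcov⟩ := isCompact_iff_finite_and_eq_biUnion_affineOpens.mp
    (show IsCompact ((⊤ : Y.Opens) : Set Y) from isCompact_univ)
  choose V v hv hvs hloc using fun U : S => exists_local i s U.1.1 U.1.2
  choose Z π iZ hπs hπf hπp using fun U : S =>
    (haveI := hv U; haveI := hvs U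
     FlatMor2.exists_finite_surjective_extension U.1.1 U.1.2.isCompact (v U))
  have : Finite S := hS.to_subtype
  cases nonempty_fintype S
  obtain ⟨Y', g, hg, hgs, hh⟩ := exists_dominating (Finset.univ : Finset S) Z π hπf hπs
  refine ⟨Y', g, hg, hgs, fun G ι _ _ hG => ?_⟩
  have hne : Nonempty G := by
    obtain ⟨⟨_, x, rfl⟩, -⟩ := hG.1
    exact ⟨x⟩
  have : IrreducibleSpace G := by
    have h1 : IsIrreducible (ι.base '' (Set.univ : Set G)) := by rw [Set.image_univ]; exact hG.1
    refine IrreducibleSpace.mk (toPreirreducibleSpace := ⟨fun u v hu hv hu' hv' => ?_⟩) hne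
    obtain ⟨u', hu₁, rfl⟩ := ι.isClosedEmbedding.isInducing.isOpen_iff.1 hu
    obtain ⟨v', hv₁, rfl⟩ := ι.isClosedEmbedding.isInducing.isOpen_iff.1 hv
    obtain ⟨a, -, ha⟩ := hu'
    obtain ⟨b, -, hb⟩ := hv'
    obtain ⟨_, ⟨c, -, rfl⟩, hc⟩ := h1.2 u' v' hu₁ hv₁ ⟨_, ⟨a, trivial, rfl⟩, ha⟩ ⟨_, ⟨b, trivial, rfl⟩, hb⟩
    exact ⟨c, trivial, hc⟩
  have : IsIntegral G := isIntegral_of_irreducibleSpace_of_isReduced _
  let m : G ⟶ F := ι ≫ pullback.fst i g
  let η := genericPoint G
  let e : Spec (G.residueField η) ⟶ G := G.fromSpecResidueField η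
  have hP : Nonempty ↥(Limits.pullback (e ≫ m) s) := by
    obtain ⟨x', hx'⟩ := s.surjective ((e ≫ m) default)
    obtain ⟨q, -, -⟩ := Scheme.Pullback.exists_preimage_pullback (f := e ≫ m) (g := s) default x' hx'.symm
    exact ⟨q⟩
  obtain ⟨q⟩ := hP
  let L := (Limits.pullback (e ≫ m) s).residueField q
  let P₀ := (Limits.pullback (e ≫ m) s).fromSpecResidueField q
  let θ : Spec L ⟶ G := (P₀ ≫ pullback.fst (e ≫ m) s) ≫ e
  let ℓ : Spec L ⟶ F' := P₀ ≫ pullback.snd (e ≫ m) s
  have hℓ : ℓ ≫ s = θ ≫ m := by simp [ℓ, θ, ← pullback.condition]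
  have hθη : ∀ z, θ z = η := fun z => by
    simp only [θ, e, Scheme.Hom.comp_apply]
    exact Scheme.fromSpecResidueField_apply _ _
  let J := {U : S // ∃ x : G, (m ≫ i) x ∈ U.1.1}
  let O : J → G.Opens := fun U => (m ≫ i) ⁻¹ᵁ U.1.1.1
  have hOcov : TopologicalSpace.IsOpenCover O := by
    rw [TopologicalSpace.IsOpenCover, eq_top_iff]
    intro x _
    have : (m ≫ i) x ∈ ⨆ U ∈ S, (U : Y.Opens) := (SetLike.ext_iff.1 hcov _).1 trivial
    simp only [TopologicalSpace.Opens.mem_iSup] at this
    obtain ⟨U, hU, hx⟩ := this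
    exact TopologicalSpace.Opens.mem_iSup.2 ⟨⟨⟨U, hU⟩, x, hx⟩, hx⟩
  have hηO : ∀ U : J, η ∈ O U := fun ⟨U, x, hx⟩ =>
    (genericPoint_specializes x).mem_open ((m ≫ i) ⁻¹ᵁ U.1.1).2 hx
  have hrange : ∀ U : J, Set.range θ ⊆ Set.range (O U).ι := by
    rintro U _ ⟨z, rfl⟩
    rw [(O U).range_ι, hθη]
    exact hηO U
  let θ' : ∀ U : J, Spec L ⟶ (O U).toScheme := fun U => IsOpenImmersion.lift (O U).ι θ (hrange U)
  have hθ' : ∀ U : J, θ' U ≫ (O U).ι = θ := fun U => IsOpenImmersion.lift_fac _ _ _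
  have hmi : m ≫ i = (ι ≫ pullback.snd i g) ≫ g := by simp [m, pullback.condition]
  have key : ∀ U : J, ∃ φ : (O U).toScheme ⟶ F', φ ≫ s = (O U).ι ≫ m ∧ θ' U ≫ φ = ℓ := by
    intro U
    obtain ⟨h, hh⟩ := hh U.1 (Finset.mem_univ _)
    have : IsAffineHom (m ≫ i) := by rw [hmi]; infer_instance
    have haff : IsAffine (O U).toScheme := (U.1.1.2.preimage (m ≫ i) : IsAffineOpen (O U))
    let D := Γ((O U).toScheme, ⊤)
    let ε := (O U).toScheme.isoSpec
    let θD : D ⟶ L := Spec.preimage (θ' U ≫ ε.hom)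
    have hθD : Spec.map θD = θ' U ≫ ε.hom := Spec.map_preimage _
    have hinj : Function.Injective θD.hom := by
      have hd : DenseRange (Spec.map θD) := by
        rw [hθD, Scheme.Hom.comp_base, TopCat.coe_comp]
        refine DenseRange.comp ε.hom.surjective.denseRange ?_ ε.hom.continuous
        have hz : (O U).ι (θ' U default) = η := by
          rw [← Scheme.Hom.comp_apply, hθ', hθη]
        intro x
        refine closure_mono (Set.singleton_subset_iff.2 (Set.mem_range_self default)) ?_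
        rw [← specializes_iff_mem_closure, ← (O U).ι.isOpenEmbedding.isInducing.specializes_iff, hz]
        exact genericPoint_specializes _
      have hk := (PrimeSpectrum.denseRange_comap_iff_ker_le_nilRadical θD.hom).1 hd
      rw [nilradical_eq_zero, Ideal.zero_eq_bot, le_bot_iff] at hk
      exact (RingHom.injective_iff_ker_eq_bot _).2 hk
    let wY : (O U).toScheme ⟶ Z U.1 := (O U).ι ≫ ι ≫ pullback.snd i g ≫ h
    let uY : (O U).toScheme ⟶ U.1.1.1.toScheme := (m ≫ i) ∣_ U.1.1.1
    have hw : wY ≫ π U.1 = uY ≫ U.1.1.1.ι := by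
      rw [morphismRestrict_ι]
      simp only [wY, Category.assoc, hh]
      exact congrArg ((O U).ι ≫ ·) ((Category.assoc ι (pullback.snd i g) g).symm.trans hmi.symm)
    let w : (O U).toScheme ⟶ V U.1 := (hπp U.1).lift wY uY hw
    have hwv : w ≫ v U.1 = uY := (hπp U.1).lift_snd _ _ _
    obtain ⟨φ, hφ₁, hφ₂⟩ := hloc U.1 D L (Field.toIsField _) θD hinj (ε.inv ≫ (O U).ι ≫ m) (ε.inv ≫ w)
      (by simp only [Category.assoc]
          rw [reassoc_of% hwv, morphismRestrict_ι])
      ℓ (by rw [hℓ, hθD]; simp only [Category.assoc, Iso.hom_inv_id_assoc]; rw [reassoc_of% (hθ' U)])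
    exact ⟨ε.hom ≫ φ, by rw [Category.assoc, hφ₁, Iso.hom_inv_id_assoc],
      by rw [← Category.assoc, ← hθD, hφ₂]⟩
  choose φ hφs hφℓ using key
  let 𝒰 := G.openCoverOfIsOpenCover O hOcov
  have hglue : ∀ U V : J, pullback.fst (O U).ι (O V).ι ≫ φ U = pullback.snd (O U).ι (O V).ι ≫ φ V := by
    intro U V
    have hs' : IsSeparated s := inferInstance
    let θ₂ : Spec L ⟶ Limits.pullback (O U).ι (O V).ι := pullback.lift (θ' U) (θ' V) (by rw [hθ', hθ'])
    have : IsReduced (Limits.pullback (O U).ι (O V).ι) :=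
      isReduced_of_isOpenImmersion (pullback.fst (O U).ι (O V).ι ≫ (O U).ι)
    have : IsDominant θ₂ := by
      constructor
      intro x
      refine closure_mono (Set.singleton_subset_iff.2 (Set.mem_range_self default)) ?_
      rw [← specializes_iff_mem_closure,
        ← (pullback.fst (O U).ι (O V).ι ≫ (O U).ι).isOpenEmbedding.isInducing.specializes_iff,
        ← Scheme.Hom.comp_apply, pullback.lift_fst_assoc, hθ', hθη]
      exact genericPoint_specializes _
    refine ext_of_isDominant_of_isSeparated s ?_ θ₂ ?_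
    · rw [Category.assoc, Category.assoc, hφs, hφs, pullback.condition_assoc]
    · rw [pullback.lift_fst_assoc, pullback.lift_snd_assoc, hφℓ, hφℓ]
  refine ⟨𝒰.glueMorphisms φ hglue, 𝒰.hom_ext _ _ fun U => ?_⟩
  rw [Scheme.Cover.ι_glueMorphisms_assoc]
  exact hφs U

end Groth.SplitCover
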