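import Mathlib

/-! Finite orthogonality for antisymmetrised characters of `(ℤ/n)^r` (Verlinde combinatorics). -/

namespace Groth.Misc14.Verlinde

open Finset

/-- `exp (2πi x / n)`. -/
noncomputable def E (n : ℕ) (x : ℂ) : ℂ := Complex.exp (2 * Real.pi * Complex.I * x / n)

theorem E_add (n : ℕ) (x y : ℂ) : E n (x + y) = E n x * E n y := by
  rw [E, E, E, ← Complex.exp_add]; ring_nf

theorem E_sum (n : ℕ) {ι : Type*} (s : Finset ι) (f : ι → ℂ) : E n (∑ i ∈ s, f i) = ∏ i ∈ s, E n (f i) := by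
  rw [E, Finset.mul_sum, Finset.sum_div, Complex.exp_sum]; rfl

theorem E_zero (n : ℕ) : E n 0 = 1 := by simp [E]

theorem E_ne_zero (n : ℕ) (x : ℂ) : E n x ≠ 0 := Complex.exp_ne_zero _

theorem E_eq_zpow (n : ℕ) (m : ℤ) : E n (m : ℂ) = (E n 1) ^ m := by
  rw [E, E, ← Complex.exp_int_mul]; ring_nf

theorem isPrimitiveRoot_E {n : ℕ} (hn : n ≠ 0) : IsPrimitiveRoot (E n 1) n := by
  have := Complex.isPrimitiveRoot_exp n hn
  simpa [E] using this

theorem E_int_eq_one_iff {n : ℕ} (hn : n ≠ 0) (m : ℤ) : E n (m : ℂ) = 1 ↔ (n : ℤ) ∣ m := by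
  rw [E_eq_zpow]; exact (isPrimitiveRoot_E hn).zpow_eq_one_iff_dvd m

theorem E_congr {n : ℕ} (hn : n ≠ 0) {a b : ℤ} (h : (n : ℤ) ∣ a - b) : E n (a : ℂ) = E n (b : ℂ) := by
  have : (a : ℂ) = ((a - b : ℤ) : ℂ) + (b : ℂ) := by push_cast; ring
  rw [this, E_add, (E_int_eq_one_iff hn _).mpr h, one_mul]

theorem sum_E {n : ℕ} (hn : n ≠ 0) (m : ℤ) :
    ∑ x : Fin n, E n ((m * (x : ℕ) : ℤ) : ℂ) = if (n : ℤ) ∣ m then (n : ℂ) else 0 := by
  have h : ∀ x : Fin n, E n ((m * (x : ℕ) : ℤ) : ℂ) = (E n (m : ℂ)) ^ (x : ℕ) := by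
    intro x; rw [E_eq_zpow, E_eq_zpow, zpow_mul, zpow_natCast]
  simp only [h]
  rw [Fin.sum_univ_eq_sum_range (fun i => (E n (m : ℂ)) ^ i)]
  split_ifs with hd
  · simp [(E_int_eq_one_iff hn m).mpr hd]
  · have h1 : (E n (m : ℂ)) ^ n = 1 := by
      have : (E n (m : ℂ)) ^ n = E n ((m * (n : ℕ) : ℤ) : ℂ) := by
        rw [E_eq_zpow, E_eq_zpow, zpow_mul, zpow_natCast]
      rw [this, E_int_eq_one_iff hn]; exact dvd_mul_left _ _
    rw [geom_sum_eq (fun e => hd ((E_int_eq_one_iff hn m).mp e)), h1, sub_self, zero_div]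

variable {r : ℕ}

/-- `det (exp (2πi A_i v_j / n))`. -/
noncomputable def D (n : ℕ) (A v : Fin r → ℤ) : ℂ :=
  (Matrix.of fun i j => E n ((A i * v j : ℤ) : ℂ)).det

theorem D_swap (n : ℕ) (A v : Fin r → ℤ) : D n A v = D n v A := by
  rw [D, D, ← Matrix.det_transpose]
  congr 1; ext i j
  simp only [Matrix.transpose_apply, Matrix.of_apply]
  rw [mul_comm]

theorem D_perm_right (n : ℕ) (A v : Fin r → ℤ) (σ : Equiv.Perm (Fin r)) :
    D n A (v ∘ σ) = (Equiv.Perm.sign σ : ℤ) * D n A v := by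
  rw [D, D, ← Matrix.det_permute' σ (Matrix.of fun i j => E n ((A i * v j : ℤ) : ℂ))]
  rfl

theorem D_perm_left (n : ℕ) (A v : Fin r → ℤ) (σ : Equiv.Perm (Fin r)) :
    D n (A ∘ σ) v = (Equiv.Perm.sign σ : ℤ) * D n A v := by
  rw [D_swap, D_perm_right, D_swap]

theorem D_add_const_left (n : ℕ) (A v : Fin r → ℤ) (c : ℤ) :
    D n (fun i => A i + c) v = E n ((c * ∑ j, v j : ℤ) : ℂ) * D n A v := by
  rw [Finset.mul_sum, Int.cast_sum, E_sum, D, D,
    ← Matrix.det_mul_row (fun j => E n ((c * v j : ℤ) : ℂ))]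
  congr 1; ext i j
  simp only [Matrix.of_apply]
  rw [← E_add, ← Int.cast_add]; congr 1; congr 1; ring

theorem D_add_const_right (n : ℕ) (A v : Fin r → ℤ) (c : ℤ) :
    D n A (fun j => v j + c) = E n ((c * ∑ i, A i : ℤ) : ℂ) * D n A v := by
  rw [D_swap, D_add_const_left, D_swap]

theorem D_congr_right {n : ℕ} (hn : n ≠ 0) (A : Fin r → ℤ) {v w : Fin r → ℤ}
    (h : ∀ j, (n : ℤ) ∣ v j - w j) : D n A v = D n A w := by
  unfold D
  congr 1; ext i j
  simp only [Matrix.of_apply]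
  apply E_congr hn
  rw [← mul_sub]; exact (h j).mul_left _

theorem D_eq_zero_of_eq (n : ℕ) (A v : Fin r → ℤ) {i j : Fin r} (hij : i ≠ j) (h : v i = v j) :
    D n A v = 0 :=
  Matrix.det_zero_of_column_eq hij fun a => by simp [h]

/-- The orthogonality relation. -/
theorem sum_D_mul_D {n : ℕ} (hn : n ≠ 0) (A B : Fin r → ℤ) :
    ∑ v : Fin r → Fin n, D n A (fun j => (v j : ℕ)) * D n B (fun j => (v j : ℕ)) =
      (n : ℂ) ^ r * (r.factorial : ℂ) *
        ∑ τ : Equiv.Perm (Fin r), ((Equiv.Perm.sign τ : ℤ) : ℂ) * (if ∀ i, (n : ℤ) ∣ A i + B (τ i) then (1 : ℂ) else 0) := by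
  have hprod : ∀ σ τ : Equiv.Perm (Fin r),
      ∑ v : Fin r → Fin n, (∏ j, E n ((A (σ j) * (v j : ℕ) : ℤ) : ℂ)) * (∏ j, E n ((B (τ j) * (v j : ℕ) : ℤ) : ℂ))
        = (n : ℂ) ^ r * (if ∀ i, (n : ℤ) ∣ A (σ i) + B (τ i) then (1 : ℂ) else 0) := by
    intro σ τ
    simp only [← Finset.prod_mul_distrib, ← E_add, ← Int.cast_add, ← add_mul]
    rw [← Fintype.prod_sum (fun j (x : Fin n) => E n (((A (σ j) + B (τ j)) * (x : ℕ) : ℤ) : ℂ))]
    simp only [sum_E hn]
    split_ifs with h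
    · simp [h]
    · push Not at h
      obtain ⟨i, hi⟩ := h
      rw [mul_zero]
      exact Finset.prod_eq_zero (Finset.mem_univ i) (if_neg hi)
  have hexp : ∀ v : Fin r → Fin n, D n A (fun j => (v j : ℕ)) * D n B (fun j => (v j : ℕ)) =
      ∑ σ : Equiv.Perm (Fin r), ∑ τ : Equiv.Perm (Fin r),
        ((Equiv.Perm.sign σ : ℤ) : ℂ) * (Equiv.Perm.sign τ : ℤ) *
          ((∏ j, E n ((A (σ j) * (v j : ℕ) : ℤ) : ℂ)) * ∏ j, E n ((B (τ j) * (v j : ℕ) : ℤ) : ℂ)) := by
    intro v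
    simp only [D, Matrix.det_apply', Matrix.of_apply, Finset.sum_mul_sum]
    exact Finset.sum_congr rfl fun σ _ => Finset.sum_congr rfl fun τ _ => by ring
  simp only [hexp]
  rw [Finset.sum_comm]
  have hσ : ∀ σ : Equiv.Perm (Fin r),
      ∑ v : Fin r → Fin n, ∑ τ : Equiv.Perm (Fin r),
        ((Equiv.Perm.sign σ : ℤ) : ℂ) * (Equiv.Perm.sign τ : ℤ) *
          ((∏ j, E n ((A (σ j) * (v j : ℕ) : ℤ) : ℂ)) * ∏ j, E n ((B (τ j) * (v j : ℕ) : ℤ) : ℂ))
      = (n : ℂ) ^ r *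
        ∑ τ : Equiv.Perm (Fin r), ((Equiv.Perm.sign τ : ℤ) : ℂ) * (if ∀ i, (n : ℤ) ∣ A i + B (τ i) then (1 : ℂ) else 0) := by
    intro σ
    rw [Finset.sum_comm, Finset.mul_sum]
    refine Fintype.sum_equiv (Equiv.mulRight σ⁻¹) _ _ fun τ => ?_
    rw [← Finset.mul_sum, hprod, Equiv.coe_mulRight]
    have h2 : (∀ i, (n : ℤ) ∣ A (σ i) + B (τ i)) ↔ ∀ i, (n : ℤ) ∣ A i + B ((τ * σ⁻¹) i) := by
      constructor
      · intro h i; simpa using h (σ⁻¹ i)
      · intro h i; simpa using h (σ i)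
    rw [if_congr h2 rfl rfl, map_mul, map_inv, Int.units_inv_eq_self]
    push_cast; ring
  rw [Finset.sum_congr rfl (fun σ _ => hσ σ), Finset.sum_const, Finset.card_univ, Fintype.card_perm,
    Fintype.card_fin, nsmul_eq_mul]
  ring

section sorted

variable {n : ℕ}

theorem exists_sorted (v : Fin r → Fin n) (hv : Function.Injective v) :
    ∃ (s : Fin r → Fin n) (σ : Equiv.Perm (Fin r)), StrictAnti s ∧ v = s ∘ σ := by
  refine ⟨(v ∘ Tuple.sort v) ∘ Fin.rev, Equiv.trans (Tuple.sort v).symm Fin.revPerm, ?_, ?_⟩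
  · exact ((Tuple.monotone_sort v).strictMono_of_injective (hv.comp (Tuple.sort v).injective)).comp_strictAnti Fin.rev_strictAnti
  · funext i; simp [Function.comp, Fin.rev_rev]

/-- Sum over decreasing tuples against sum over all tuples. -/
theorem sum_sorted (H : (Fin r → Fin n) → ℂ) (hperm : ∀ v (σ : Equiv.Perm (Fin r)), H (v ∘ σ) = H v)
    (hzero : ∀ v, ¬ Function.Injective v → H v = 0) :
    (r.factorial : ℂ) * ∑ s ∈ univ.filter (fun s : Fin r → Fin n => StrictAnti s), H s = ∑ v, H v := by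
  classical
  rw [← Finset.sum_subset (Finset.subset_univ (univ.filter (fun v : Fin r → Fin n => Function.Injective v)))
    (fun v _ hv => hzero v (by simpa using hv))]
  have : (r.factorial : ℂ) * ∑ s ∈ univ.filter (fun s : Fin r → Fin n => StrictAnti s), H s
      = ∑ p ∈ (univ.filter (fun s : Fin r → Fin n => StrictAnti s)) ×ˢ (univ : Finset (Equiv.Perm (Fin r))), H p.1 := by
    rw [Finset.sum_product, Finset.mul_sum]
    refine Finset.sum_congr rfl fun s _ => ?_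
    simp [Finset.card_univ, Fintype.card_perm, Fintype.card_fin]
  rw [this]
  refine Finset.sum_bij (fun p _ => p.1 ∘ p.2) ?_ ?_ ?_ ?_
  · intro p hp
    simp only [mem_product, mem_filter, mem_univ, true_and, and_true] at hp ⊢
    exact hp.injective.comp p.2.injective
  · intro p hp q hq h
    simp only [mem_product, mem_filter, mem_univ, true_and, and_true] at hp hq
    have hr : Set.range p.1 = Set.range q.1 := by
      rw [← p.2.surjective.range_comp p.1, h, q.2.surjective.range_comp q.1]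
    have hs : p.1 = q.1 := (StrictAnti.range_inj hp hq).mp hr
    refine Prod.ext hs (Equiv.ext fun i => hp.injective ?_)
    have := congrFun h i
    simpa [hs] using this
  · intro v hv
    obtain ⟨s, σ, hs, rfl⟩ := exists_sorted v (by simpa using hv)
    exact ⟨(s, σ), by simpa using hs, rfl⟩
  · intro p _
    exact (hperm _ _).symm

theorem mul_sum_range_mem (H : (Fin r → Fin n) → ℂ) [NeZero n]
    (htrans : ∀ v (c : Fin n), H (fun j => v j + c) = H v)
    (hzero : ∀ v, ¬ Function.Injective v → H v = 0) (x : Fin n) :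
    (n : ℂ) * ∑ v ∈ univ.filter (fun v : Fin r → Fin n => ∃ j, v j = x), H v = (r : ℂ) * ∑ v, H v := by
  classical
  have hx : ∀ y : Fin n, ∑ v ∈ univ.filter (fun v : Fin r → Fin n => ∃ j, v j = y), H v
      = ∑ v ∈ univ.filter (fun v : Fin r → Fin n => ∃ j, v j = x), H v := by
    intro y
    refine Finset.sum_equiv (Equiv.addRight (fun _ => x - y : Fin r → Fin n)) (fun v => ?_) (fun v _ => ?_)
    · simp only [mem_filter, mem_univ, true_and, Equiv.coe_addRight, Pi.add_apply]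
      exact exists_congr fun j => ⟨fun h => by rw [h]; abel, fun h => add_right_cancel (b := x - y) (by rw [h]; abel)⟩
    · exact (htrans v (x - y)).symm
  calc (n : ℂ) * ∑ v ∈ univ.filter (fun v : Fin r → Fin n => ∃ j, v j = x), H v
      = ∑ y : Fin n, ∑ v ∈ univ.filter (fun v : Fin r → Fin n => ∃ j, v j = y), H v := by
        rw [Finset.sum_congr rfl (fun y _ => hx y)]; simp
    _ = ∑ v, ∑ y ∈ univ.filter (fun y : Fin n => ∃ j, v j = y), H v := by
        simp only [Finset.sum_filter]; rw [Finset.sum_comm]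
    _ = (r : ℂ) * ∑ v, H v := by
        rw [Finset.mul_sum]
        refine Finset.sum_congr rfl fun v _ => ?_
        by_cases hv : Function.Injective v
        · have : univ.filter (fun y : Fin n => ∃ j, v j = y) = univ.image v := by ext; simp
          rw [this, Finset.sum_const, card_image_of_injective _ hv]; simp
        · simp [hzero v hv]

theorem sorted_mem_range_last {m : ℕ} [NeZero n] {s : Fin (m + 1) → Fin n} (hs : StrictAnti s) :
    (∃ j, s j = 0) ↔ s (Fin.last m) = 0 := by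
  refine ⟨fun ⟨j, hj⟩ => ?_, fun h => ⟨_, h⟩⟩
  exact le_antisymm (hj ▸ hs.antitone (Fin.le_last j)) (Fin.zero_le _)

end sorted

/-- The translation-invariant product of two determinants, as a function of a tuple in `Fin n`. -/
noncomputable def DD (n : ℕ) (A B : Fin r → ℤ) (v : Fin r → Fin n) : ℂ :=
  D n A (fun j => (v j : ℕ)) * D n B (fun j => (v j : ℕ))

theorem DD_perm (n : ℕ) (A B : Fin r → ℤ) (v : Fin r → Fin n) (σ : Equiv.Perm (Fin r)) :
    DD n A B (v ∘ σ) = DD n A B v := by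
  have hs : ((Equiv.Perm.sign σ : ℤ) : ℂ) * (Equiv.Perm.sign σ : ℤ) = 1 := by
    rw [← Int.cast_mul, Int.units_coe_mul_self, Int.cast_one]
  have e : (fun j => (((v ∘ σ) j : ℕ) : ℤ)) = (fun j => ((v j : ℕ) : ℤ)) ∘ σ := rfl
  simp only [DD, e, D_perm_right]
  linear_combination (D n A (fun j => ((v j : ℕ) : ℤ)) * D n B (fun j => ((v j : ℕ) : ℤ))) * hs

theorem DD_zero (n : ℕ) (A B : Fin r → ℤ) (v : Fin r → Fin n) (hv : ¬ Function.Injective v) :
    DD n A B v = 0 := by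
  simp only [Function.Injective, not_forall] at hv
  obtain ⟨i, j, hij, hne⟩ := hv
  rw [DD, D_eq_zero_of_eq n A _ hne (by rw [hij]), zero_mul]

theorem DD_trans {n : ℕ} (hn : n ≠ 0) (A B : Fin r → ℤ) (h0 : ∑ i, A i + ∑ i, B i = 0)
    (v : Fin r → Fin n) (c : Fin n) : DD n A B (fun j => v j + c) = DD n A B v := by
  have h : ∀ j, (n : ℤ) ∣ (((v j + c : Fin n) : ℕ) : ℤ) - (((v j : ℕ) : ℤ) + (c : ℕ)) := fun j => by
    rw [Fin.val_add, Int.natCast_mod, Nat.cast_add]
    rw [dvd_sub_comm]; exact Int.dvd_self_sub_emod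
  simp only [DD, D_congr_right hn _ h, D_add_const_right]
  have : E n (((c : ℕ) * ∑ i, A i : ℤ) : ℂ) * E n (((c : ℕ) * ∑ i, B i : ℤ) : ℂ) = 1 := by
    rw [← E_add, ← Int.cast_add, ← mul_add, h0, mul_zero, Int.cast_zero, E_zero]
  linear_combination (D n A (fun j => ((v j : ℕ) : ℤ)) * D n B (fun j => ((v j : ℕ) : ℤ))) * this

/-- The alternating count of matchings. -/
noncomputable def matchSum (n : ℕ) (A B : Fin r → ℤ) : ℂ :=
  ∑ τ : Equiv.Perm (Fin r), ((Equiv.Perm.sign τ : ℤ) : ℂ) * (if ∀ i, (n : ℤ) ∣ A i + B (τ i) then (1 : ℂ) else 0)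

theorem sum_sorted_DD {n : ℕ} (hn : n ≠ 0) (A B : Fin r → ℤ) :
    ∑ s ∈ univ.filter (fun s : Fin r → Fin n => StrictAnti s), DD n A B s = (n : ℂ) ^ r * matchSum n A B := by
  have h := sum_sorted (DD n A B) (DD_perm n A B) (DD_zero n A B)
  have h2 : ∑ v, DD n A B v = (n : ℂ) ^ r * (r.factorial : ℂ) * matchSum n A B := sum_D_mul_D hn A B
  have h3 : (r.factorial : ℂ) ≠ 0 := by exact_mod_cast r.factorial_ne_zero
  exact mul_left_cancel₀ h3 (by rw [h, h2]; ring)

theorem sum_sorted_mem_DD {n : ℕ} [NeZero n] (A B : Fin r → ℤ) (h0 : ∑ i, A i + ∑ i, B i = 0) (x : Fin n) :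
    ∑ s ∈ univ.filter (fun s : Fin r → Fin n => StrictAnti s ∧ ∃ j, s j = x), DD n A B s
      = (r : ℂ) * (n : ℂ) ^ r / (n : ℂ) * matchSum n A B := by
  classical
  have hn : n ≠ 0 := NeZero.ne n
  set H : (Fin r → Fin n) → ℂ := fun v => if ∃ j, v j = x then DD n A B v else 0 with hH
  have hperm : ∀ v (σ : Equiv.Perm (Fin r)), H (v ∘ σ) = H v := fun v σ => by
    simp only [hH, DD_perm]
    exact if_congr ⟨fun ⟨j, hj⟩ => ⟨σ j, hj⟩, fun ⟨j, hj⟩ => ⟨σ.symm j, by simpa using hj⟩⟩ rfl rfl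
  have hzero : ∀ v, ¬ Function.Injective v → H v = 0 := fun v hv => by
    simp [hH, DD_zero n A B v hv]
  have h := sum_sorted H hperm hzero
  simp only [hH, ← Finset.sum_filter, Finset.filter_filter] at h
  have h2 := mul_sum_range_mem (DD n A B) (DD_trans hn A B h0) (DD_zero n A B) x
  have h4 : ∑ v, DD n A B v = (n : ℂ) ^ r * (r.factorial : ℂ) * matchSum n A B := sum_D_mul_D hn A B
  rw [h4, ← h] at h2
  have h3 : (r.factorial : ℂ) ≠ 0 := by exact_mod_cast r.factorial_ne_zero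
  have hn' : (n : ℂ) ≠ 0 := by exact_mod_cast hn
  field_simp
  refine mul_left_cancel₀ h3 ?_
  linear_combination h2

/-- The phase-twisted summand. -/
noncomputable def twisted (n : ℕ) (A B v : Fin r → ℤ) : ℂ :=
  E n (-(((∑ i, A i + ∑ i, B i : ℤ) : ℂ) * ((∑ j, v j : ℤ) : ℂ)) / (r : ℂ)) * (D n A v * D n B v)

theorem twisted_shift {r : ℕ} (hr : r ≠ 0) (n : ℕ) (A B v : Fin r → ℤ) (c : ℤ) :
    twisted n A B (fun j => v j + c) = twisted n A B v := by
  set L : ℤ := ∑ i, A i + ∑ i, B i with hL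
  simp only [twisted, D_add_const_right, ← hL]
  have : E n (-((L : ℂ) * ((∑ j, (v j + c) : ℤ) : ℂ)) / (r : ℂ)) *
      (E n ((c * ∑ i, A i : ℤ) : ℂ) * E n ((c * ∑ i, B i : ℤ) : ℂ)) =
      E n (-((L : ℂ) * ((∑ j, v j : ℤ) : ℂ)) / (r : ℂ)) := by
    rw [← E_add, ← E_add]
    congr 1
    rw [Finset.sum_add_distrib, Finset.sum_const, Finset.card_univ, Fintype.card_fin, hL]
    have : (r : ℂ) ≠ 0 := by exact_mod_cast hr
    push_cast
    simp only [nsmul_eq_mul]
    push_cast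
    field_simp
    ring
  linear_combination (D n A v * D n B v) * this

theorem E_div_of_dvd {r : ℕ} (hr : r ≠ 0) (n : ℕ) {L Q m : ℤ} (hQ : L = r * Q) :
    E n (-((L : ℂ) * (m : ℂ)) / (r : ℂ)) = E n (((-Q) * m : ℤ) : ℂ) := by
  have : (r : ℂ) ≠ 0 := by exact_mod_cast hr
  congr 1
  subst hQ
  push_cast
  field_simp

theorem twisted_eq_DD {r : ℕ} (hr : r ≠ 0) (n : ℕ) (A B : Fin r → ℤ) {Q : ℤ}
    (hQ : ∑ i, A i + ∑ i, B i = r * Q) (v : Fin r → Fin n) :
    twisted n A B (fun j => (v j : ℕ)) = DD n (fun i => A i - Q) B v := by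
  simp only [twisted, DD, sub_eq_add_neg, D_add_const_left, E_div_of_dvd hr n hQ]
  ring

/-- A rotation of decreasing tuples ending in `0`. -/
def rot {m n : ℕ} (v : Fin (m + 2) → Fin n) : Fin (m + 2) → ℕ :=
  fun i => Fin.cons (α := fun _ => ℕ) (n - (v (Fin.last m).castSucc : ℕ))
    (fun j : Fin (m + 1) => (v j.castSucc : ℕ) - (v (Fin.last m).castSucc : ℕ)) i

theorem twisted_rot {m n : ℕ} (A B : Fin (m + 2) → ℤ) [NeZero n] (v : Fin (m + 2) → Fin n)
    (hv : StrictAnti v) (h0 : v (Fin.last (m + 1)) = 0) :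
    twisted n A B (fun j => (rot v j : ℕ)) =
      E n (-(((∑ i, A i + ∑ i, B i : ℤ) : ℂ) * (n : ℂ)) / ((m + 2 : ℕ) : ℂ)) *
        twisted n A B (fun j => (v j : ℕ)) := by
  set c : ℕ := (v (Fin.last m).castSucc : ℕ) with hc
  set σ : Equiv.Perm (Fin (m + 2)) := (finRotate (m + 2)).symm with hσ
  set w : Fin (m + 2) → ℤ := fun i => if i = Fin.last (m + 1) then (n : ℤ) else ((v i : ℕ) : ℤ) with hw
  have hle : ∀ j : Fin (m + 1), c ≤ (v j.castSucc : ℕ) := fun j =>
    Fin.le_def.mp (hv.antitone (Fin.castSucc_le_castSucc_iff.mpr (Fin.le_last j)))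
  have e : (fun j => ((rot v j : ℕ) : ℤ)) = fun j => (w ∘ σ) j + (-(c : ℤ)) := by
    funext i
    induction i using Fin.cases with
    | zero =>
      have : σ 0 = Fin.last (m + 1) := by rw [hσ, Equiv.symm_apply_eq]; simp
      simp only [rot, Fin.cons_zero, Function.comp_apply, this, hw, if_true, ← hc]
      rw [Nat.cast_sub (le_of_lt (Fin.isLt _))]; ring
    | succ j =>
      have : σ j.succ = j.castSucc := by rw [hσ, Equiv.symm_apply_eq]; simp
      simp only [rot, Fin.cons_succ, Function.comp_apply, this, hw, if_neg (Fin.castSucc_lt_last j).ne]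
      rw [Nat.cast_sub (hle j)]; ring
  rw [e, twisted_shift (by omega)]
  have hw' : ∀ j, (n : ℤ) ∣ w j - ((v j : ℕ) : ℤ) := by
    intro j; simp only [hw]; split_ifs with h
    · subst h; simp [h0]
    · simp
  have hsum : ∑ j, (w ∘ σ) j = (∑ j, ((v j : ℕ) : ℤ)) + n := by
    simp only [Function.comp_apply]
    rw [Equiv.sum_comp σ w, Fin.sum_univ_castSucc (f := w), Fin.sum_univ_castSucc (f := fun j => ((v j : ℕ) : ℤ))]
    simp only [hw, if_pos rfl, h0, Fin.val_zero, Nat.cast_zero, add_zero]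
    congr 1
    exact Finset.sum_congr rfl fun j _ => if_neg (Fin.castSucc_lt_last j).ne
  have hs : ((Equiv.Perm.sign σ : ℤ) : ℂ) * (Equiv.Perm.sign σ : ℤ) = 1 := by
    rw [← Int.cast_mul, Int.units_coe_mul_self, Int.cast_one]
  simp only [twisted, hsum, D_perm_right, D_congr_right (NeZero.ne n) _ hw']
  have hE : ∀ L S : ℤ, E n (-((L : ℂ) * ((S + (n : ℤ) : ℤ) : ℂ)) / ((m + 2 : ℕ) : ℂ)) =
      E n (-((L : ℂ) * (S : ℂ)) / ((m + 2 : ℕ) : ℂ)) * E n (-((L : ℂ) * (n : ℂ)) / ((m + 2 : ℕ) : ℂ)) := fun L S => by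
    rw [← E_add]; congr 1; push_cast; ring
  rw [hE]
  linear_combination (D n A (fun j => ((v j : ℕ) : ℤ)) * D n B (fun j => ((v j : ℕ) : ℤ)) *
    E n (-(((∑ i, A i + ∑ i, B i : ℤ) : ℂ) * ((∑ j, ((v j : ℕ) : ℤ) : ℤ) : ℂ)) / ((m + 2 : ℕ) : ℂ)) *
    E n (-(((∑ i, A i + ∑ i, B i : ℤ) : ℂ) * (n : ℂ)) / ((m + 2 : ℕ) : ℂ))) * hs

theorem twisted_sum_eq_zero_of_not_dvd {n : ℕ} [NeZero n] (A B : Fin r → ℤ) (S : Finset (Fin r → Fin n))
    (hS : ∀ v, v ∈ S ↔ StrictAnti v ∧ ∀ i : Fin r, (i : ℕ) = r - 1 → v i = 0)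
    (hL : ¬ (r : ℤ) ∣ ∑ i, A i + ∑ i, B i) :
    ∑ v ∈ S, twisted n A B (fun j => (v j : ℕ)) = 0 := by
  classical
  rcases r with _ | _ | m
  · simp at hL
  · exact absurd (by simp) hL
  set L : ℤ := ∑ i, A i + ∑ i, B i with hLdef
  set ω : ℂ := E n (-((L : ℂ) * (n : ℂ)) / ((m + 2 : ℕ) : ℂ)) with hω
  have hlast : ∀ v ∈ S, v (Fin.last (m + 1)) = 0 := fun v hv => ((hS v).mp hv).2 _ (by simp)
  have hlt : ∀ v ∈ S, ∀ i, rot v i < n := by
    intro v hv i
    induction i using Fin.cases with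
    | zero =>
      simp only [rot, Fin.cons_zero]
      have h1 : (v (Fin.last (m + 1)) : ℕ) < v (Fin.last m).castSucc :=
        ((hS v).mp hv).1 (Fin.castSucc_lt_last _)
      omega
    | succ j => simp only [rot, Fin.cons_succ]; exact lt_of_le_of_lt (Nat.sub_le _ _) (Fin.isLt _)
  let R : (v : Fin (m + 2) → Fin n) → v ∈ S → (Fin (m + 2) → Fin n) := fun v hv i => ⟨rot v i, hlt v hv i⟩
  have hR : ∀ v hv, R v hv ∈ S := by
    intro v hv
    have hsa := ((hS v).mp hv).1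
    refine (hS _).mpr ⟨Fin.strictAnti_iff_succ_lt.mpr fun i => ?_, fun i hi => ?_⟩
    · show rot v i.succ < rot v i.castSucc
      have hcl : ∀ j : Fin (m + 1), (v (Fin.last m).castSucc : ℕ) ≤ v j.castSucc := fun j =>
        Fin.le_def.mp (hsa.antitone (Fin.castSucc_le_castSucc_iff.mpr (Fin.le_last j)))
      induction i using Fin.cases with
      | zero =>
        simp only [rot, Fin.cons_succ, Fin.castSucc_zero, Fin.cons_zero]
        have := hcl 0; have := Fin.isLt (v 0); simp only [Fin.castSucc_zero] at *; omega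
      | succ j =>
        simp only [rot, Fin.cons_succ, Fin.castSucc_succ]
        have h1 : (v j.succ.castSucc : ℕ) < v j.castSucc.castSucc :=
          hsa (Fin.castSucc_lt_castSucc_iff.mpr (Fin.castSucc_lt_succ))
        have := hcl j.succ
        simp only [Fin.castSucc_succ] at *
        omega
    · have hi' : i = (Fin.last m).succ := Fin.ext (by simpa using hi)
      subst hi'
      refine Fin.ext ?_
      simp [R, rot]
  have hinj : ∀ a ha b hb, R a ha = R b hb → a = b := by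
    intro a ha b hb h
    have h' : ∀ i, rot a i = rot b i := fun i => congrArg Fin.val (congrFun h i)
    have h0 := h' 0
    simp only [rot, Fin.cons_zero] at h0
    funext i
    induction i using Fin.lastCases with
    | last => rw [hlast a ha, hlast b hb]
    | cast j =>
      have h1 := h' j.succ
      simp only [rot, Fin.cons_succ] at h1
      have ha' : (a (Fin.last m).castSucc : ℕ) ≤ a j.castSucc :=
        Fin.le_def.mp (((hS a).mp ha).1.antitone (Fin.castSucc_le_castSucc_iff.mpr (Fin.le_last j)))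
      have hb' : (b (Fin.last m).castSucc : ℕ) ≤ b j.castSucc :=
        Fin.le_def.mp (((hS b).mp hb).1.antitone (Fin.castSucc_le_castSucc_iff.mpr (Fin.le_last j)))
      have := Fin.isLt (a (Fin.last m).castSucc); have := Fin.isLt (b (Fin.last m).castSucc)
      exact Fin.ext (by omega)
  have hkey : ∑ v ∈ S, ω * twisted n A B (fun j => (v j : ℕ)) = ∑ v ∈ S, twisted n A B (fun j => (v j : ℕ)) := by
    refine Finset.sum_bij R hR hinj (fun b hb => by
      obtain ⟨a, ha, he⟩ := Finset.surj_on_of_inj_on_of_card_le R hR (fun a b ha hb => hinj a ha b hb) le_rfl b hb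
      exact ⟨a, ha, he.symm⟩) fun v hv => ?_
    exact (twisted_rot A B v ((hS v).mp hv).1 (hlast v hv)).symm
  rw [← Finset.mul_sum] at hkey
  have hω1 : ω ≠ 1 := by
    intro h
    apply hL
    rw [hω, E, Complex.exp_eq_one_iff] at h
    obtain ⟨z, hz⟩ := h
    refine ⟨-z, ?_⟩
    have hn0 : (n : ℂ) ≠ 0 := by exact_mod_cast NeZero.ne n
    have hm0 : ((m + 2 : ℕ) : ℂ) ≠ 0 := by exact_mod_cast (by omega : m + 2 ≠ 0)
    have hpi : (2 * (Real.pi : ℂ) * Complex.I) ≠ 0 := by simp [Real.pi_ne_zero, Complex.I_ne_zero]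
    have : (2 * (Real.pi : ℂ) * Complex.I) * (L : ℂ) = (2 * (Real.pi : ℂ) * Complex.I) * (((m + 2 : ℕ) : ℂ) * -(z : ℂ)) := by
      field_simp at hz ⊢
      linear_combination -hz
    have := mul_left_cancel₀ hpi this
    exact_mod_cast this
  by_contra hne
  exact hω1 (mul_right_cancel₀ hne (by rw [hkey, one_mul]))

theorem twisted_sum_of_dvd {n : ℕ} [NeZero n] (hr : r ≠ 0) (A B : Fin r → ℤ) (S : Finset (Fin r → Fin n))
    (hS : ∀ v, v ∈ S ↔ StrictAnti v ∧ ∀ i : Fin r, (i : ℕ) = r - 1 → v i = 0)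
    {Q : ℤ} (hQ : ∑ i, A i + ∑ i, B i = r * Q) :
    ∑ v ∈ S, twisted n A B (fun j => (v j : ℕ)) =
      (r : ℂ) * (n : ℂ) ^ r / (n : ℂ) * matchSum n (fun i => A i - Q) B := by
  classical
  simp only [twisted_eq_DD hr n A B hQ]
  rw [← sum_sorted_mem_DD (fun i => A i - Q) B (by
    rw [Finset.sum_sub_distrib, Finset.sum_const, Finset.card_univ, Fintype.card_fin, nsmul_eq_mul]
    linarith) (0 : Fin n)]
  refine Finset.sum_congr ?_ fun _ _ => rfl
  obtain ⟨m, rfl⟩ : ∃ m, r = m + 1 := ⟨r - 1, by omega⟩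
  ext v
  simp only [hS, mem_filter, mem_univ, true_and]
  refine and_congr_right fun hv => ?_
  rw [sorted_mem_range_last hv]
  exact ⟨fun h => h _ (by simp), fun h i hi => by rwa [show i = Fin.last m from Fin.ext (by simpa using hi)]⟩

/-- Integers with zero sum and pairwise distances at most one vanish. -/
theorem eq_zero_of_sum_eq_zero (d : Fin r → ℤ) (hclose : ∀ i j, d i - d j ≤ 1) (h0 : ∑ i, d i = 0)
    (i : Fin r) : d i = 0 := by
  rcases lt_trichotomy (d i) 0 with h | h | h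
  · have hle : ∀ j ∈ (univ : Finset (Fin r)), d j ≤ 0 := fun j _ => by
      have := hclose j i; omega
    exact absurd ((Finset.sum_eq_zero_iff_of_nonpos hle).mp h0 i (mem_univ i)) h.ne
  · exact h
  · have hge : ∀ j ∈ (univ : Finset (Fin r)), 0 ≤ d j := fun j _ => by
      have := hclose i j; omega
    exact absurd ((Finset.sum_eq_zero_iff_of_nonneg hge).mp h0 i (mem_univ i)) h.ne'

theorem exact_of_matching {n : ℕ} (hn : n ≠ 0) (A B : Fin r → ℤ) (Q lo : ℤ)
    (hQ : ∑ i, A i + ∑ i, B i = r * Q) (hrange : ∀ i j, lo ≤ A i + B j ∧ A i + B j < lo + 2 * n)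
    (τ : Equiv.Perm (Fin r)) (h : ∀ i, (n : ℤ) ∣ A i - Q + B (τ i)) (i : Fin r) :
    A i + B (τ i) = Q := by
  choose d hd using h
  have hn' : (0 : ℤ) < n := by omega
  have hclose : ∀ i j, d i - d j ≤ 1 := fun i j => by
    have h1 := (hrange i (τ i)).2; have h2 := (hrange j (τ j)).1
    by_contra hcon
    have : (n : ℤ) * 2 ≤ (n : ℤ) * (d i - d j) := mul_le_mul_of_nonneg_left (by omega) hn'.le
    rw [mul_sub, ← hd i, ← hd j] at this
    omega
  have h0 : ∑ i, d i = 0 := by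
    have : (n : ℤ) * ∑ i, d i = 0 := by
      rw [Finset.mul_sum, Finset.sum_congr rfl (fun i _ => (hd i).symm), Finset.sum_add_distrib,
        Finset.sum_sub_distrib, Equiv.sum_comp τ B]
      simp only [Finset.sum_const, Finset.card_univ, Fintype.card_fin, nsmul_eq_mul]
      linarith
    exact (mul_eq_zero.mp this).resolve_left hn'.ne'
  have := hd i
  rw [eq_zero_of_sum_eq_zero d hclose h0 i, mul_zero] at this
  omega

theorem matchSum_self {n : ℕ} (A : Fin r → ℤ)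
    (hsep : ∀ i j, (n : ℤ) ∣ A i - A j → i = j) : matchSum n A (fun i => -A i) = 1 := by
  rw [matchSum, Finset.sum_eq_single 1]
  · simp
  · intro τ _ hτ
    rw [if_neg, mul_zero]
    intro h
    exact hτ (Equiv.ext fun i => (hsep i (τ i) (by simpa [sub_eq_add_neg] using h i)).symm)
  · simp

end Groth.Misc14.Verlinde
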