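import Mathlib
import Groth.Agent.Misc14.Verlinde

/-! Schur values at roots of unity in terms of the determinants `D`. -/

namespace Groth.Misc14.Verlinde

open Finset

variable {r : ℕ}

/-- The staircase `(r-1, …, 0)`. -/
def delta (r : ℕ) : Fin r → ℤ := fun i => ((r - 1 - (i : ℕ) : ℕ) : ℤ)

/-- The sign of the order reversal of `Fin r`. -/
noncomputable def srev (r : ℕ) : ℂ := ((Equiv.Perm.sign (Fin.revPerm : Equiv.Perm (Fin r)) : ℤ) : ℂ)

theorem srev_mul_self (r : ℕ) : srev r * srev r = 1 := by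
  rw [srev, ← Int.cast_mul, Int.units_coe_mul_self, Int.cast_one]

theorem D_rev (n : ℕ) (A v : Fin r → ℤ) : D n (fun i => A (Fin.rev i)) v = srev r * D n A v :=
  D_perm_left n A v Fin.revPerm

theorem det_pow_eq_D (n : ℕ) (e v : Fin r → ℕ) :
    (Matrix.of fun i j : Fin r => E n (v j : ℂ) ^ e i).det = D n (fun i => (e i : ℤ)) (fun j => (v j : ℤ)) := by
  rw [D]; congr 1; ext i j
  simp only [Matrix.of_apply]
  rw [E, E, ← Complex.exp_nat_mul]; push_cast; ring_nf

theorem D_neg_delta (n : ℕ) (v : Fin r → ℤ) :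
    D n (fun i => -delta r i) v = srev r * E n (((-(r - 1 : ℤ)) * ∑ j, v j : ℤ) : ℂ) * D n (delta r) v := by
  have h : (fun i => -delta r i) = fun i => delta r (Fin.rev i) + (-(r - 1 : ℤ)) := by
    funext i
    have := i.2
    simp only [delta, Fin.val_rev]
    omega
  rw [h, D_add_const_left, D_rev]; ring

theorem D_delta_eq_prod (n : ℕ) (v : Fin r → ℤ) :
    D n (delta r) v = srev r *
      ∏ p ∈ (univ : Finset (Fin r × Fin r)).filter (fun p => p.1 < p.2), (E n (v p.2 : ℂ) - E n (v p.1 : ℂ)) := by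
  have h : delta r = fun i => ((Fin.rev i : ℕ) : ℤ) := by
    funext i; simp only [delta, Fin.val_rev]; omega
  rw [h, D_rev n (fun i => ((i : ℕ) : ℤ))]
  congr 1
  rw [D, ← Matrix.det_transpose]
  have hv : (Matrix.of fun i j : Fin r => E n ((((i : ℕ) : ℤ) * v j : ℤ) : ℂ)).transpose = Matrix.vandermonde (fun j => E n (v j : ℂ)) := by
    ext i j
    simp only [Matrix.transpose_apply, Matrix.of_apply, Matrix.vandermonde_apply]
    rw [E, E, ← Complex.exp_nat_mul]; push_cast; ring_nf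
  rw [hv, Matrix.det_vandermonde, Finset.prod_filter, Fintype.prod_prod_type]
  refine Finset.prod_congr rfl fun i _ => ?_
  rw [← Finset.prod_filter]
  exact Finset.prod_congr (by ext; simp) fun _ _ => rfl

theorem sq_two_sin_eq (n : ℕ) (a b : ℂ) :
    (2 * Complex.sin (Real.pi * (a - b) / n)) ^ 2 = (E n b - E n a) * (E n (-b) - E n (-a)) := by
  have expand : ∀ x y : ℂ, E n x * E n y = E n (x + y) := fun x y => (E_add n x y).symm
  have h1 : (E n b - E n a) * (E n (-b) - E n (-a)) = 2 - E n (b - a) - E n (a - b) := by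
    rw [sub_mul, mul_sub, mul_sub, expand, expand, expand, expand, add_neg_cancel, add_neg_cancel, E_zero,
      ← sub_eq_add_neg, ← sub_eq_add_neg]
    ring
  have hx : E n (a - b) = Complex.exp (Real.pi * (a - b) / n * Complex.I) * Complex.exp (Real.pi * (a - b) / n * Complex.I) := by
    rw [E, ← Complex.exp_add]; ring_nf
  have hy : E n (b - a) = Complex.exp (-(Real.pi * (a - b) / n) * Complex.I) * Complex.exp (-(Real.pi * (a - b) / n) * Complex.I) := by
    rw [E, ← Complex.exp_add]; ring_nf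
  have hxy : Complex.exp (Real.pi * (a - b) / n * Complex.I) * Complex.exp (-(Real.pi * (a - b) / n) * Complex.I) = 1 := by
    rw [← Complex.exp_add, neg_mul, add_neg_cancel, Complex.exp_zero]
  rw [h1, hx, hy, Complex.sin]
  linear_combination (-(2 : ℂ)) * -hxy + (Complex.exp (-(Real.pi * (a - b) / n) * Complex.I) - Complex.exp (Real.pi * (a - b) / n * Complex.I)) ^ 2 * Complex.I_mul_I

theorem P_eq_D_mul_D {k : ℕ} (v : Fin r → ℕ) :
    ((∏ p ∈ (univ : Finset (Fin r × Fin r)).filter (fun p => p.1 < p.2),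
        ((2 : ℝ) * Real.sin (Real.pi * ((v p.1 : ℝ) - (v p.2 : ℝ)) / ((r : ℝ) + k))) ^ 2 : ℝ) : ℂ) =
      D (r + k) (delta r) (fun j => (v j : ℤ)) * D (r + k) (fun i => -delta r i) (fun j => (v j : ℤ)) := by
  have hneg : D (r + k) (fun i => -delta r i) (fun j => (v j : ℤ)) = D (r + k) (delta r) (fun j => -(v j : ℤ)) := by
    unfold D; congr 1; ext i j; simp
  rw [hneg, D_delta_eq_prod, D_delta_eq_prod]
  rw [show ∀ a b : ℂ, srev r * a * (srev r * b) = (srev r * srev r) * (a * b) from fun a b => by ring,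
    srev_mul_self, one_mul, ← Finset.prod_mul_distrib, Complex.ofReal_prod]
  refine Finset.prod_congr rfl fun p _ => ?_
  push_cast
  have := sq_two_sin_eq (r + k) (v p.1 : ℂ) (v p.2 : ℂ)
  push_cast at this
  exact this

theorem D_delta_ne_zero {n : ℕ} (hn : n ≠ 0) (v : Fin r → ℕ) (hinj : Function.Injective v) (hlt : ∀ i, v i < n) :
    D n (delta r) (fun j => (v j : ℤ)) ≠ 0 := by
  have hs : srev r ≠ 0 := fun h => by simpa [h] using srev_mul_self r
  rw [D_delta_eq_prod]
  refine mul_ne_zero hs (Finset.prod_ne_zero_iff.mpr fun p hp => sub_ne_zero.mpr fun h => ?_)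
  simp only [Int.cast_natCast] at h
  have hp' : p.1 < p.2 := (Finset.mem_filter.mp hp).2
  have h1 : ∀ m : ℕ, E n (m : ℂ) = (E n 1) ^ m := fun m => by
    rw [← zpow_natCast, ← E_eq_zpow, Int.cast_natCast]
  rw [h1, h1] at h
  exact hp'.ne (hinj ((isPrimitiveRoot_E hn).pow_inj (hlt _) (hlt _) h.symm))

theorem z_eq_E {k : ℕ} (a : ℕ) :
    Complex.exp (2 * Real.pi * Complex.I * (a : ℂ) / ((r : ℂ) + k)) = E (r + k) (a : ℂ) := by
  rw [E]; push_cast; rfl

/-- Schur values. -/
theorem schur_eq {k : ℕ} (μ v : Fin r → ℕ) (z : Fin r → ℂ)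
    (hz : ∀ j, z j = Complex.exp (2 * Real.pi * Complex.I * (v j : ℂ) / ((r : ℂ) + k))) :
    (Matrix.of fun i j : Fin r => z j ^ (μ i + (r - 1 - (i : ℕ)))).det /
        (Matrix.of fun i j : Fin r => z j ^ (r - 1 - (i : ℕ))).det =
      D (r + k) (fun i => (μ i : ℤ) + delta r i) (fun j => (v j : ℤ)) / D (r + k) (delta r) (fun j => (v j : ℤ)) := by
  simp only [hz, z_eq_E, det_pow_eq_D]
  congr 1

theorem schur_dual_eq {k : ℕ} (μ v : Fin r → ℕ) (hμ : ∀ i, μ i ≤ k) (z : Fin r → ℂ)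
    (hz : ∀ j, z j = Complex.exp (2 * Real.pi * Complex.I * (v j : ℂ) / ((r : ℂ) + k))) :
    (Matrix.of fun i j : Fin r => z j ^ (k - μ (Fin.rev i) + (r - 1 - (i : ℕ)))).det /
        (Matrix.of fun i j : Fin r => z j ^ (r - 1 - (i : ℕ))).det =
      srev r * E (r + k) ((((r + k : ℕ) - 1 : ℤ)) * ∑ j, (v j : ℤ) : ℤ) *
        D (r + k) (fun i => -((μ i : ℤ) + delta r i)) (fun j => (v j : ℤ)) / D (r + k) (delta r) (fun j => (v j : ℤ)) := by
  rw [schur_eq (k := k) (fun i => k - μ (Fin.rev i)) v z hz]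
  congr 1
  have h : (fun i => (((fun i => k - μ (Fin.rev i)) i : ℕ) : ℤ) + delta r i) =
      fun i => (fun i => -((μ i : ℤ) + delta r i)) (Fin.rev i) + (((r + k : ℕ) : ℤ) - 1) := by
    funext i
    have := i.2
    have := hμ (Fin.rev i)
    simp only [delta, Fin.val_rev]
    omega
  rw [h, D_add_const_left, D_rev (r + k) (fun i => -((μ i : ℤ) + delta r i))]
  ring

theorem mu_delta_bounds {k : ℕ} (μ : Fin r → ℕ) (hμ : ∀ i, μ i ≤ k) (i : Fin r) :
    0 ≤ (μ i : ℤ) + delta r i ∧ (μ i : ℤ) + delta r i < (r + k : ℕ) := by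
  have := i.2; have := hμ i
  simp only [delta]; omega

theorem strictAnti_ge {n : ℕ} {a : Fin r → Fin n} (ha : StrictAnti a) (i : Fin r) :
    r - 1 - (i : ℕ) ≤ (a i : ℕ) ∧ (a i : ℕ) + (i : ℕ) < n := by
  constructor
  · suffices ∀ d, ∀ i : Fin r, r - 1 - (i : ℕ) = d → d ≤ (a i : ℕ) from this _ i rfl
    intro d
    induction d with
    | zero => omega
    | succ d ih =>
      intro i hi
      have h := ih ⟨i + 1, by omega⟩ (by simp only; omega)
      have h2 : (a ⟨i + 1, by omega⟩ : ℕ) < a i := ha (show i < ⟨i + 1, by omega⟩ from Nat.lt_succ_self _)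
      omega
  · suffices ∀ d, ∀ i : Fin r, (i : ℕ) = d → (a i : ℕ) + d < n from this _ i rfl
    intro d
    induction d with
    | zero => intro i _; simpa using (a i).2
    | succ d ih =>
      intro i hi
      have h := ih ⟨d, by omega⟩ rfl
      have h2 : (a i : ℕ) < a ⟨d, by omega⟩ := ha (show (⟨d, by omega⟩ : Fin r) < i from Fin.lt_def.mpr (by simp only; omega))
      omega

theorem strictAnti_gap {n : ℕ} {a : Fin r → Fin n} (ha : StrictAnti a) {i j : Fin r} (hij : i ≤ j) :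
    (a j : ℕ) + ((j : ℕ) - (i : ℕ)) ≤ (a i : ℕ) := by
  suffices ∀ d, ∀ j : Fin r, (i : ℕ) + d = (j : ℕ) → (a j : ℕ) + d ≤ (a i : ℕ) from
    this _ j (by have := Fin.le_def.mp hij; omega)
  intro d
  induction d with
  | zero => intro j hj; rw [show j = i from Fin.ext (by omega)]; omega
  | succ d ih =>
    intro j hj
    have h := ih ⟨i + d, by omega⟩ rfl
    have h2 : (a j : ℕ) < a ⟨i + d, by omega⟩ := ha (show (⟨i + d, by omega⟩ : Fin r) < j from Fin.lt_def.mpr (by simp only; omega))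
    omega

end Groth.Misc14.Verlinde
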